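import Cfsg.Agent.H853.Fx.PslE
import Cfsg.Agent.S0253
import Cfsg.Agent.S0254
import Cfsg.Agent.H348.Der.Class
import Cfsg.Agent.LFourA.AltPsiAut
import Cfsg.Agent.H547.Der.OctG_m3
import Cfsg.Agent.H272.NFUEv_m3
import Cfsg.Agent.H402.LwU43_m3
import Cfsg.Agent.H372.FxPsuD
import Mathlib
import Cfsg.Agent.Lib.FinFast
import Cfsg.Agent.Lib.FastPerm
import Cfsg.Agent.ClassicalGeometry.AutPSL.Main
import Cfsg.Agent.Lib.FieldAutCard
import Cfsg.Agent.LieExceptional.PGLeqPSL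
import Cfsg.Agent.H547.Der.Gen_m3
import Cfsg.Agent.H439.Der.Tools
import Cfsg.Agent.H190.Exc.Main_m3
import Cfsg.Agent.H378.RegE7
import Cfsg.Agent.H946.ExcNum_m3
import Cfsg.Agent.H371.Core.Fam
import Cfsg.Agent.H290.ElE7t
import Cfsg.Agent.H493.EigFast
import Cfsg.Agent.H580.Der.Ntc_m3
import Cfsg.Agent.H198.SaxO8P3_m3
import Cfsg.Agent.FastGrp
import Cfsg.Agent.Prune
set_option linter.all false

section
prune_inst 0x7fb8bdf98bb80ddfdf7f7e77fed9dffc38905fffa4dff94bffe061ff0bdf030009c5638d0de010fe0ed6401410a87803fb7eeeffe86bdc7ffffd5ff41ffbee4fe5f7b500519488340fb80ff703f07f8e7f3fffffffffffffffffffffffffffbeffbfffffffff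

-- part: H853/Der/ASixC_mg
section
set_option linter.all false
open scoped Cfsg.Agent.FastGrp

-- part: H853/Der/SubCard
section
/-!
# The orders of the subgroups of `A₅` and `A₆`
-/

set_option autoImplicit false

namespace Cfsg.Agent.H853.Der

open Subgroup Matrix Cfsg.Agent.H853.Fx Cfsg.Agent.ClassicalGeometry

theorem card_map {T S : Type*} [Group T] [Group S] (e : T ≃* S) (R : Subgroup T) :
    Nat.card (R.map e.toMonoidHom) = Nat.card R :=
  (Nat.card_congr (e.subgroupMap R).toEquiv).symm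

theorem map_ne_top {T S : Type*} [Group T] [Group S] (e : T ≃* S) {R : Subgroup T} (hR : R ≠ ⊤) :
    R.map e.toMonoidHom ≠ ⊤ := by
  intro h
  apply hR
  rw [eq_top_iff]
  intro x _
  have h1 : e x ∈ R.map e.toMonoidHom := by rw [h]; trivial
  obtain ⟨y, hy, hyx⟩ := h1
  rwa [← e.injective hyx]

section psl

variable {F : Type*} [Field F] [Fintype F]

local notation "KK" => Matrix.ProjectiveSpecialLinearGroup (Fin 2) F

theorem card_ne_of_ne_top {G : Type*} [Group G] [Finite G] {H : Subgroup G} (hH : H ≠ ⊤) :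
    Nat.card H ≠ Nat.card G := fun h => hH (Subgroup.eq_top_of_card_eq H h)

theorem sub_psl5 (h5 : Fintype.card F = 5) {H : Subgroup KK} (hH : H ≠ ⊤) :
    Nat.card H ∣ 6 ∨ Nat.card H ∣ 4 ∨ Nat.card H ∣ 10 ∨
      (Nat.card H = 12 ∧ Nonempty (H ≃* alternatingGroup (Fin 4))) := by
  have : Fact (Nat.Prime 5) := ⟨by norm_num⟩
  have : CharP F 5 := by
    obtain ⟨q, hq⟩ := CharP.exists F
    obtain ⟨n, hqp, hn⟩ := FiniteField.card F q
    have h4 : q ∣ 5 := by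
      rw [← h5, hn]
      exact dvd_pow_self q n.pos.ne'
    rwa [(Nat.prime_dvd_prime_iff_eq hqp (by norm_num)).1 h4] at hq
  have ho : Odd (Fintype.card F) := by rw [h5]; decide
  have hK := PSL2Basic.card_PSL2_odd (F := F) ho
  rw [h5] at hK
  have hK60 : Nat.card KK = 60 := by omega
  have hne := card_ne_of_ne_top hH
  rw [hK60] at hne
  have hdv : Nat.card H ∣ 60 := by rw [← hK60]; exact Subgroup.card_subgroup_dvd_card H
  have hle : Nat.card H ≤ 60 := Nat.le_of_dvd (by norm_num) hdv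
  rcases dickson h5 5 H with ⟨k, hk, h⟩ | ⟨h51, P, hP⟩ | ⟨⟨e⟩⟩ | ⟨⟨e⟩⟩ | ⟨⟨e⟩⟩ | ⟨K, iK, iK2, m, hm, he⟩
  · norm_num at hk
    rcases h with ⟨_, h⟩ | ⟨⟨e⟩⟩
    · rw [h]
      rcases hk with hk | hk
      · exact Or.inl (hk.trans (by norm_num))
      · exact Or.inr (Or.inl (hk.trans (by norm_num)))
    · rw [Nat.card_congr e.toEquiv, DihedralGroup.nat_card]
      rcases hk with hk | hk
      · exact Or.inl (Nat.mul_dvd_mul_left 2 hk)
      · exact Or.inr (Or.inl (Nat.mul_dvd_mul_left 2 hk))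
  · have h1 := card_norm 5 ho P
    rw [h5] at h1
    have h2 := Subgroup.card_dvd_of_le hP
    right; right; left
    rwa [show Nat.card (normalizer ((P : Subgroup KK) : Set KK)) = 10 by omega] at h2
  · right; right; right
    exact ⟨(Nat.card_congr e.toEquiv).trans card_A4, ⟨e⟩⟩
  · exfalso
    rw [Nat.card_congr e.toEquiv, card_S4] at hdv
    omega
  · exfalso
    exact hne ((Nat.card_congr e.toEquiv).trans card_A5)
  · exfalso
    have hK5 : Fintype.card K = 5 := by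
      have h1 : Fintype.card K ∣ 5 := by
        rw [← hm]
        apply dvd_pow_self
        rintro rfl
        rw [pow_zero] at hm
        omega
      rcases (Nat.dvd_prime (by norm_num)).1 h1 with h2 | h2
      · have := Fintype.one_lt_card (α := K); omega
      · exact h2
    rcases he with ⟨⟨e⟩⟩ | ⟨⟨e⟩⟩
    · have h1 := PSL2Basic.card_PSL2_odd K (by rw [hK5]; decide)
      have h3 := Nat.card_congr e.toEquiv
      rw [hK5, ← h3] at h1
      omega
    · have h1 := PSL2Basic.card_PGL2 K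
      have h3 := (Nat.card_congr e.toEquiv).trans h1
      rw [hK5] at h3
      norm_num at h3
      omega

theorem sub_psl9 (h9 : Fintype.card F = 9) {H : Subgroup KK} (hH : H ≠ ⊤) :
    Nat.card H ∣ 8 ∨ Nat.card H ∣ 10 ∨ Nat.card H ∣ 36 ∨ Nat.card H = 24 ∨
      (Nat.card H = 60 ∧ Nonempty (H ≃* alternatingGroup (Fin 5))) := by
  have : Fact (Nat.Prime 3) := ⟨by norm_num⟩
  have : CharP F 3 := by
    obtain ⟨q, hq⟩ := CharP.exists F
    obtain ⟨n, hqp, hn⟩ := FiniteField.card F q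
    have h4 : q ∣ 3 ^ 2 := by
      rw [show 3 ^ 2 = 9 by norm_num, ← h9, hn]
      exact dvd_pow_self q n.pos.ne'
    rwa [(Nat.prime_dvd_prime_iff_eq hqp (by norm_num)).1 (hqp.dvd_of_dvd_pow h4)] at hq
  have ho : Odd (Fintype.card F) := by rw [h9]; decide
  have hK := PSL2Basic.card_PSL2_odd (F := F) ho
  rw [h9] at hK
  have hK60 : Nat.card KK = 360 := by omega
  have hne := card_ne_of_ne_top hH
  rw [hK60] at hne
  have hdv : Nat.card H ∣ 360 := by rw [← hK60]; exact Subgroup.card_subgroup_dvd_card H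
  have hle : Nat.card H ≤ 360 := Nat.le_of_dvd (by norm_num) hdv
  rcases dickson h9 3 H with ⟨k, hk, h⟩ | ⟨h51, P, hP⟩ | ⟨⟨e⟩⟩ | ⟨⟨e⟩⟩ | ⟨⟨e⟩⟩ | ⟨K, iK, iK2, m, hm, he⟩
  · norm_num at hk
    rcases h with ⟨_, h⟩ | ⟨⟨e⟩⟩
    · rw [h]
      rcases hk with hk | hk
      · exact Or.inr (Or.inl (hk.trans (by norm_num)))
      · exact Or.inl (hk.trans (by norm_num))
    · rw [Nat.card_congr e.toEquiv, DihedralGroup.nat_card]
      rcases hk with hk | hk
      · exact Or.inr (Or.inl (Nat.mul_dvd_mul_left 2 hk))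
      · exact Or.inl (Nat.mul_dvd_mul_left 2 hk)
  · have h1 := card_norm 3 ho P
    rw [h9] at h1
    have h2 := Subgroup.card_dvd_of_le hP
    right; right; left
    rwa [show Nat.card (normalizer ((P : Subgroup KK) : Set KK)) = 36 by omega] at h2
  · right; right; left
    rw [Nat.card_congr e.toEquiv, card_A4]
    norm_num
  · right; right; right; left
    exact (Nat.card_congr e.toEquiv).trans card_S4
  · right; right; right; right
    exact ⟨(Nat.card_congr e.toEquiv).trans card_A5, ⟨e⟩⟩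
  · have hm0 : m ≠ 0 := by
      rintro rfl
      rw [pow_zero] at hm
      omega
    have hK5 : Fintype.card K = 9 ∨ Fintype.card K = 3 := by
      have h1 : Fintype.card K ∣ 3 ^ 2 := by
        rw [show 3 ^ 2 = 9 by norm_num, ← hm]
        exact dvd_pow_self _ hm0
      obtain ⟨j, hj, hj2⟩ := (Nat.dvd_prime_pow (by norm_num)).1 h1
      have := Fintype.one_lt_card (α := K)
      interval_cases j <;> omega
    rcases hK5 with hK5 | hK5
    · exfalso
      rcases he with ⟨⟨e⟩⟩ | ⟨⟨e⟩⟩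
      · have h1 := PSL2Basic.card_PSL2_odd K (by rw [hK5]; decide)
        have h3 := Nat.card_congr e.toEquiv
        rw [hK5, ← h3] at h1
        omega
      · have h1 := PSL2Basic.card_PGL2 K
        have h3 := (Nat.card_congr e.toEquiv).trans h1
        rw [hK5] at h3
        norm_num at h3
        omega
    · rcases he with ⟨⟨e⟩⟩ | ⟨⟨e⟩⟩
      · have h1 := PSL2Basic.card_PSL2_odd K (by rw [hK5]; decide)
        rw [hK5] at h1
        right; right; left
        rw [Nat.card_congr e.toEquiv,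
          show Nat.card (Matrix.ProjectiveSpecialLinearGroup (Fin 2) K) = 12 by omega]
        norm_num
      · have h1 := PSL2Basic.card_PGL2 K
        rw [hK5] at h1
        right; right; right; left
        rw [Nat.card_congr e.toEquiv, h1]
        norm_num

end psl

theorem sub_a5 {H : Subgroup (alternatingGroup (Fin 5))} (hH : H ≠ ⊤) :
    Nat.card H ∣ 6 ∨ Nat.card H ∣ 4 ∨ Nat.card H ∣ 10 ∨
      (Nat.card H = 12 ∧ Nonempty (H ≃* alternatingGroup (Fin 4))) := by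
  have : Fact (Nat.Prime 5) := ⟨by norm_num⟩
  obtain ⟨e⟩ := Cfsg.Agent.S0253.result (F := ZMod 5) (ZMod.card 5)
  have h := sub_psl5 (F := ZMod 5) (ZMod.card 5) (map_ne_top e.symm hH)
  rw [card_map] at h
  rcases h with h | h | h | ⟨h, ⟨f⟩⟩
  · exact Or.inl h
  · exact Or.inr (Or.inl h)
  · exact Or.inr (Or.inr (Or.inl h))
  · exact Or.inr (Or.inr (Or.inr ⟨h, ⟨(e.symm.subgroupMap H).trans f⟩⟩))

theorem sub_a6 {H : Subgroup (alternatingGroup (Fin 6))} (hH : H ≠ ⊤) :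
    Nat.card H ∣ 8 ∨ Nat.card H ∣ 10 ∨ Nat.card H ∣ 36 ∨ Nat.card H = 24 ∨
      (Nat.card H = 60 ∧ Nonempty (H ≃* alternatingGroup (Fin 5))) := by
  have : Fact (Nat.Prime 3) := ⟨by norm_num⟩
  have : Fintype (GaloisField 3 2) := Fintype.ofFinite _
  have hc : Fintype.card (GaloisField 3 2) = 9 := by
    rw [← Nat.card_eq_fintype_card, GaloisField.card 3 2 (by norm_num)]
    norm_num
  obtain ⟨e⟩ := Cfsg.Agent.S0254.result (F := GaloisField 3 2) hc
  have h := sub_psl9 (F := GaloisField 3 2) hc (map_ne_top e.symm hH)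
  rw [card_map] at h
  rcases h with h | h | h | h | ⟨h, ⟨f⟩⟩
  · exact Or.inl h
  · exact Or.inr (Or.inl h)
  · exact Or.inr (Or.inr (Or.inl h))
  · exact Or.inr (Or.inr (Or.inr (Or.inl h)))
  · exact Or.inr (Or.inr (Or.inr (Or.inr ⟨h, ⟨(e.symm.subgroupMap H).trans f⟩⟩)))

end Cfsg.Agent.H853.Der
end

-- part: H853/Der/Common
section
/-!
# Common tools for the rows of `A₅` and `A₆` (S3502)
-/

set_option autoImplicit false

namespace Cfsg.Agent.H853.Der

open Subgroup Equiv Equiv.Perm Cfsg.Agent.H938.Sax Cfsg.Agent.H439.Der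

section gen

variable {T : Type*} [Group T] {R : Subgroup T}

theorem missT {x : T} (hx : ¬ orderOf x ∣ Nat.card R) (g : T) : g * x * g⁻¹ ∉ R :=
  not_mem_of_dvd hx dvd_rfl (MulAut.conj g)

theorem ne_ord {x y : T} (h : orderOf x ≠ orderOf y) (g : T) : g * x * g⁻¹ ≠ y := by
  rintro rfl
  exact h (orderOf_mulEquiv (MulAut.conj g) x).symm

/-- an element of order `a` and two nonconjugate elements of order `b` -/
theorem threeT_of {a b : ℕ} {x y z : T} (hx : orderOf x = a) (hy : orderOf y = b) (hz : orderOf z = b)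
    (hab : a ≠ b) (hyz : ∀ g : T, g * y * g⁻¹ ≠ z) (ha : ¬ a ∣ Nat.card R) (hb : ¬ b ∣ Nat.card R) :
    ThreeT T R :=
  ⟨x, y, z, missT (by rwa [hx]), missT (by rwa [hy]), missT (by rwa [hz]),
    ne_ord (by rwa [hx, hy]), ne_ord (by rwa [hx, hz]), hyz⟩

/-- the same where the elements of order `a` are not excluded by divisibility -/
theorem threeT_of' {a b : ℕ} {x y z : T} (hx : orderOf x = a) (hy : orderOf y = b) (hz : orderOf z = b)
    (hab : a ≠ b) (hyz : ∀ g : T, g * y * g⁻¹ ≠ z) (ha : ∀ m ∈ R, orderOf m ≠ a) (hb : ¬ b ∣ Nat.card R) :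
    ThreeT T R :=
  ⟨x, y, z, fun g hg => ha _ hg (by rw [← hx]; exact orderOf_mulEquiv (MulAut.conj g) x),
    missT (by rwa [hy]), missT (by rwa [hz]),
    ne_ord (by rwa [hx, hy]), ne_ord (by rwa [hx, hz]), hyz⟩

theorem no_order {a : ℕ} (ha : ¬ a ∣ Nat.card R) : ∀ m ∈ R, orderOf m ≠ a := by
  rintro m hm rfl
  apply ha
  rw [← Subgroup.orderOf_mk m hm]
  exact orderOf_dvd_natCard _

theorem two_of {a b : ℕ} {x y : T} (hx : orderOf x = a) (hy : orderOf y = b) (hab : a ≠ b)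
    (ha : ¬ a ∣ Nat.card R) (hb : ¬ b ∣ Nat.card R) : Two T R :=
  Two.of_orders hab hx hy (no_order ha) (no_order hb)

theorem miss_of {a : ℕ} {x : T} (hx : orderOf x = a) (ha : ¬ a ∣ Nat.card R) : Miss T R :=
  OrdGap.miss ⟨x, fun m hm => by rw [hx]; exact no_order ha m hm⟩

/-- `Out T` of exponent two: even index is enough -/
theorem noOne_of_even [Finite T] (h : ∀ φ : MulAut T, ∃ t : T, φ * φ = MulAut.conj t)
    (hR : 2 ∣ R.index) : NoOne T R := by
  intro s hs hd h1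
  have hfin : Finite (MulAut T) := Finite.of_injective (fun f : MulAut T => (f : T → T)) DFunLike.coe_injective
  have hf : Fact s.Prime := ⟨hs⟩
  obtain ⟨x, hx⟩ := exists_prime_orderOf_dvd_card' (G := Cfsg.Out T) s hd
  obtain ⟨φ, rfl⟩ := QuotientGroup.mk_surjective x
  have h2 : (QuotientGroup.mk φ : Cfsg.Out T) ^ 2 = 1 := by
    rw [← QuotientGroup.mk_pow, QuotientGroup.eq_one_iff, pow_two]
    obtain ⟨t, ht⟩ := h φ
    rw [ht]
    exact ⟨t, rfl⟩
  have h3 : s ∣ 2 := by rw [← hx]; exact orderOf_dvd_of_pow_eq_one h2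
  have h4 : s = 2 := (Nat.prime_dvd_prime_iff_eq hs Nat.prime_two).1 h3
  rw [h4] at h1
  have h5 : R.index % 2 = 1 := h1
  omega

theorem isCoatom_of (hR : R ≠ ⊤) (h : ∀ N : Subgroup T, R < N → N ≠ ⊤ → False) : IsCoatom R := by
  refine ⟨hR, fun N hN => ?_⟩
  by_contra h1
  exact h N hN h1

theorem card_lt_of_lt [Finite T] {N : Subgroup T} (h : R < N) :
    Nat.card R ∣ Nat.card N ∧ Nat.card R < Nat.card N := by
  have h1 := Subgroup.card_dvd_of_le h.le
  refine ⟨h1, lt_of_le_of_ne (Nat.le_of_dvd Nat.card_pos h1) fun h2 => h.ne ?_⟩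
  exact Subgroup.eq_of_le_of_card_ge h.le h2.ge

end gen

section alt

variable {n : ℕ}

local notation "AA" => alternatingGroup (Fin n)

theorem eq_conjNormal {α : MulAut AA} {σ : Perm (Fin n)}
    (h : ∀ x : AA, (α x : Perm (Fin n)) = σ * x * σ⁻¹) : α = MulAut.conjNormal σ := by
  ext x : 1
  apply Subtype.ext
  rw [h x, MulAut.conjNormal_apply]

theorem conjNormal_of_even {σ : Perm (Fin n)} (h : sign σ = 1) :
    (MulAut.conjNormal σ : MulAut AA) = MulAut.conj ⟨σ, Perm.mem_alternatingGroup.2 h⟩ := by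
  ext x : 1
  apply Subtype.ext
  rw [MulAut.conjNormal_apply]
  rfl

theorem sign_eq_neg {σ : Perm (Fin n)}
    (h : ∀ t : AA, (MulAut.conjNormal σ : MulAut AA) ≠ MulAut.conj t) : sign σ = -1 := by
  rcases Int.units_eq_one_or (sign σ) with h1 | h1
  · exact absurd (conjNormal_of_even h1) (h _)
  · exact h1

/-- a coset containing two odd permutations of different orders -/
theorem cos_perm (hinj : Function.Injective (MulAut.conjNormal : Perm (Fin n) →* MulAut AA))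
    {a b : Perm (Fin n)} (ha : sign a = -1) (hb : sign b = -1) (hab : orderOf a ≠ orderOf b)
    {σ : Perm (Fin n)} (hσ : sign σ = -1) :
    ∃ t : AA, orderOf (MulAut.conj t * MulAut.conjNormal σ) ≠ orderOf (MulAut.conjNormal σ : MulAut AA) := by
  have key : ∀ c : Perm (Fin n), sign c = -1 → ∃ t : AA,
      orderOf (MulAut.conj t * MulAut.conjNormal σ) = orderOf c := by
    intro c hc
    have h1 : sign (c * σ⁻¹) = 1 := by
      rw [map_mul, map_inv, hc, hσ]; rfl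
    refine ⟨⟨c * σ⁻¹, Perm.mem_alternatingGroup.2 h1⟩, ?_⟩
    rw [← conjNormal_of_even h1, ← map_mul, inv_mul_cancel_right]
    exact orderOf_injective _ hinj c
  obtain ⟨t, ht⟩ := key a ha
  obtain ⟨u, hu⟩ := key b hb
  by_cases h : orderOf a = orderOf (MulAut.conjNormal σ : MulAut AA)
  · exact ⟨u, fun h1 => hab (by rw [h, ← h1, hu])⟩
  · exact ⟨t, fun h1 => h (by rw [← h1, ht])⟩

theorem sq_inner {φ : MulAut AA} {σ : Perm (Fin n)} (h : φ = MulAut.conjNormal σ) :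
    ∃ t : AA, φ * φ = MulAut.conj t := by
  have h1 : sign (σ * σ) = 1 := by
    rw [map_mul]
    exact Int.units_mul_self _
  refine ⟨⟨σ * σ, Perm.mem_alternatingGroup.2 h1⟩, ?_⟩
  rw [← conjNormal_of_even h1, map_mul, h]

end alt

end Cfsg.Agent.H853.Der
end

-- part: H853/Der/AFive
section
/-!
# The row of `A₅` (S3502)
-/

set_option autoImplicit false

namespace Cfsg.Agent.H853.Der

open Subgroup Equiv Equiv.Perm Cfsg.Agent.H938.Sax Cfsg.Agent.H439.Der

open Cfsg.Agent.LFourA.AltPsiAut Cfsg.Agent.StandardComponent.AltAut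
open Cfsg.Agent.SporadicRecognition.AltCover Cfsg.Agent.Lib.AltCarmichael

/-- two subgroups of the same order and of index prime to `p` that are `p`-groups are conjugate -/
theorem exists_conj_of_pgroup {T : Type*} [Group T] [Finite T] (p : ℕ) [hp : Fact p.Prime] {R S : Subgroup T}
    (hR : IsPGroup p R) (hS : IsPGroup p S) (hR' : ¬ p ∣ R.index) (hS' : ¬ p ∣ S.index) :
    ∃ g : T, R.comap (MulAut.conj g).toMonoidHom = S := by
  obtain ⟨g, hg⟩ := MulAction.exists_smul_eq T (hS.toSylow hS') (hR.toSylow hR')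
  refine ⟨g, ?_⟩
  have h1 : ((g • (hS.toSylow hS') : Sylow p T) : Subgroup T) = R := by rw [hg]; rfl
  ext x
  rw [Subgroup.mem_comap]
  have h2 : (MulAut.conj g).toMonoidHom x ∈ R ↔ (MulAut.conj g).toMonoidHom x ∈
      ((g • (hS.toSylow hS') : Sylow p T) : Subgroup T) := by rw [h1]
  rw [h2, Sylow.coe_subgroup_smul, Subgroup.mem_pointwise_smul_iff_inv_smul_mem]
  have h3 : (MulAut.conj g)⁻¹ • ((MulAut.conj g).toMonoidHom x) = x := by
    rw [MulAut.smul_def]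
    exact MulAut.inv_apply_self _ _ _
  rw [h3]
  rfl

section five

local notation "A5" => alternatingGroup (Fin 5)

theorem isThree_five {x : A5} (hx : orderOf x = 3) : (x : Perm (Fin 5)).IsThreeCycle := by
  have h1 : orderOf (x : Perm (Fin 5)) = 3 := by rw [Subgroup.orderOf_coe, hx]
  obtain ⟨n, hn⟩ := Equiv.Perm.cycleType_prime_order (σ := (x : Perm (Fin 5))) (by rw [h1]; norm_num)
  have h2 := Equiv.Perm.sum_cycleType (x : Perm (Fin 5))
  have h3 : (x : Perm (Fin 5)).support.card ≤ 5 := by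
    have := Finset.card_le_univ (x : Perm (Fin 5)).support
    simpa using this
  rw [hn, h1, Multiset.sum_replicate, smul_eq_mul] at h2
  have hn0 : n = 0 := by omega
  rw [Equiv.Perm.IsThreeCycle, hn, h1, hn0]
  rfl

theorem exists_perm_five (α : MulAut A5) : ∃ σ : Perm (Fin 5), α = MulAut.conjNormal σ := by
  obtain ⟨σ, hσ⟩ := exists_conj_of_three (m := 3) (by norm_num) α (fun i hi => by
    apply isThree_five
    rw [MulEquiv.orderOf_eq, ← Subgroup.orderOf_coe]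
    exact (isThreeCycle_cyc hi).orderOf)
  exact ⟨σ, eq_conjNormal hσ⟩

theorem centralizer_five : ∀ σ : Perm (Fin 5), σ * (swap (0 : Fin 5) 1 * swap (1 : Fin 5) 2) = (swap (0 : Fin 5) 1 * swap (1 : Fin 5) 2) * σ →
    σ * (swap (2 : Fin 5) 3 * swap (3 : Fin 5) 4) = (swap (2 : Fin 5) 3 * swap (3 : Fin 5) 4) * σ → σ = 1 := by (refine of_decide_eq_true ?_; (try (rewrite [Cfsg.Agent.LsF.finFintype_eq, Cfsg.Agent.LsF.dForall_eq, Cfsg.Agent.LsF.dFinEq_eq, Cfsg.Agent.LsF.decide_eq])); decide +kernel)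

theorem inj_five : Function.Injective (MulAut.conjNormal : Perm (Fin 5) →* MulAut A5) := by
  rw [injective_iff_map_eq_one]
  intro σ hσ
  have key : ∀ x : A5, σ * (x : Perm (Fin 5)) = x * σ := by
    intro x
    have h1 := congrArg (fun φ : MulAut A5 => ((φ x : A5) : Perm (Fin 5))) hσ
    have h2 : σ * (x : Perm (Fin 5)) * σ⁻¹ = x := by
      rw [← MulAut.conjNormal_apply]; exact h1
    rw [← h2, inv_mul_cancel_right, h2]
  exact centralizer_five σ (key ⟨swap (0 : Fin 5) 1 * swap (1 : Fin 5) 2, by rw [Perm.mem_alternatingGroup]; decide⟩)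
    (key ⟨swap (2 : Fin 5) 3 * swap (3 : Fin 5) 4, by rw [Perm.mem_alternatingGroup]; decide⟩)

theorem order_four {G : Type*} [Group G] {x : G} (h2 : x * x ≠ 1) (h4 : x * x * (x * x) = 1) :
    orderOf x = 4 := by
  have : Fact (Nat.Prime 2) := ⟨Nat.prime_two⟩
  have h := orderOf_eq_prime_pow (x := x) (p := 2) (n := 1) (by rwa [pow_one, pow_two])
    (by rw [show 2 ^ (1 + 1) = 2 + 2 by norm_num, pow_add, pow_two]; exact h4)
  rw [h]; norm_num

theorem order_two {G : Type*} [Group G] {x : G} (h1 : x ≠ 1) (h2 : x * x = 1) : orderOf x = 2 := by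
  have : Fact (Nat.Prime 2) := ⟨Nat.prime_two⟩
  exact orderOf_eq_prime (by rwa [pow_two]) h1

theorem cos_a5 : Cos A5 := by
  intro φ hφ
  obtain ⟨σ, rfl⟩ := exists_perm_five φ
  refine cos_perm inj_five (a := swap (0 : Fin 5) 1) (b := swap (0 : Fin 5) 1 * swap (1 : Fin 5) 2 * swap (2 : Fin 5) 3) (by decide) (by decide) ?_
    (sign_eq_neg hφ)
  rw [order_two (x := (swap (0 : Fin 5) 1 : Perm (Fin 5))) (by decide) (by decide),
    order_four (x := (swap (0 : Fin 5) 1 * swap (1 : Fin 5) 2 * swap (2 : Fin 5) 3 : Perm (Fin 5))) (by decide) (by decide)]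
  norm_num

theorem sq_a5 (φ : MulAut A5) : ∃ t : A5, φ * φ = MulAut.conj t := by
  obtain ⟨σ, h⟩ := exists_perm_five φ
  exact sq_inner h

theorem x2_five : ∃ x : A5, orderOf x = 2 :=
  ⟨⟨swap (0 : Fin 5) 1 * swap (2 : Fin 5) 3, by rw [Perm.mem_alternatingGroup]; decide⟩,
    order_two (fun h => by revert h; decide) (by apply Subtype.ext; decide)⟩

theorem x3_five : ∃ x : A5, orderOf x = 3 := by
  have : Fact (Nat.Prime 3) := ⟨Nat.prime_three⟩
  refine ⟨⟨swap (0 : Fin 5) 1 * swap (1 : Fin 5) 2, by rw [Perm.mem_alternatingGroup]; decide⟩, orderOf_eq_prime ?_ ?_⟩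
  · apply Subtype.ext; decide
  · intro h; revert h; decide

theorem x5_five : ∃ x y : A5, orderOf x = 5 ∧ orderOf y = 5 ∧ ∀ g : A5, g * x * g⁻¹ ≠ y := by
  have : Fact (Nat.Prime 5) := ⟨by norm_num⟩
  refine ⟨⟨swap (0 : Fin 5) 1 * swap (1 : Fin 5) 2 * (swap (2 : Fin 5) 3 * swap (3 : Fin 5) 4), by rw [Perm.mem_alternatingGroup]; decide⟩,
    ⟨swap (0 : Fin 5) 1 * swap (1 : Fin 5) 2 * (swap (2 : Fin 5) 3 * swap (3 : Fin 5) 4) * (swap (0 : Fin 5) 1 * swap (1 : Fin 5) 2 * (swap (2 : Fin 5) 3 * swap (3 : Fin 5) 4)), by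
      rw [Perm.mem_alternatingGroup]; decide⟩, orderOf_eq_prime ?_ ?_, orderOf_eq_prime ?_ ?_, ?_⟩
  · apply Subtype.ext; decide +kernel
  · intro h; revert h; decide
  · apply Subtype.ext; decide +kernel
  · intro h; revert h; decide
  · (set_option synthInstance.maxSize 9000 in open scoped Cfsg.Agent.Lib.FastPerm in decide +kernel)

/-- the Klein group in `Perm (Fin 5)` -/
def L4 : List (Perm (Fin 5)) := [1, swap (0 : Fin 5) 1 * swap (2 : Fin 5) 3, swap (0 : Fin 5) 2 * swap (1 : Fin 5) 3, swap (0 : Fin 5) 3 * swap (1 : Fin 5) 2]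

/-- four three-cycles fixing two of the first four points -/
def Lt : List (Perm (Fin 5)) := [swap (0 : Fin 5) 1 * swap (1 : Fin 5) 4, swap (0 : Fin 5) 2 * swap (2 : Fin 5) 4, swap (0 : Fin 5) 3 * swap (3 : Fin 5) 4, swap (1 : Fin 5) 2 * swap (2 : Fin 5) 4,
  swap (1 : Fin 5) 3 * swap (3 : Fin 5) 4, swap (2 : Fin 5) 3 * swap (3 : Fin 5) 4]

private noncomputable def _root_.Cfsg.Agent.LsF.f129600_0 : {f // @Cfsg.Agent.H853.Der.L4 = f} := ⟨_, by first | (delta Cfsg.Agent.H853.Der.L4; rewrite [Cfsg.Agent.LsF.dFinEq_eq]; exact rfl) | exact rfl⟩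
private noncomputable def _root_.Cfsg.Agent.LsF.f129600_1 : {f // @Cfsg.Agent.H853.Der.Lt = f} := ⟨_, by first | (delta Cfsg.Agent.H853.Der.Lt; rewrite [Cfsg.Agent.LsF.dFinEq_eq]; exact rfl) | exact rfl⟩
theorem key_five : ∀ σ : Perm (Fin 5), sign σ = -1 → σ * (swap (0 : Fin 5) 1 * swap (2 : Fin 5) 3) * σ⁻¹ ∈ L4 →
    σ * (swap (0 : Fin 5) 2 * swap (1 : Fin 5) 3) * σ⁻¹ ∈ L4 → ∃ r ∈ L4, ∃ t ∈ Lt, r * σ * t = t * (r * σ) := by (refine of_decide_eq_true ?_; (try (rewrite [Cfsg.Agent.LsF.f129600_0.2, Cfsg.Agent.LsF.f129600_1.2, Cfsg.Agent.LsF.finFintype_eq, Cfsg.Agent.LsF.dForall_eq, Cfsg.Agent.LsF.instIDecEq_eq, Cfsg.Agent.LsF.dFinEq_eq, Cfsg.Agent.LsF.dBEx_eq, Cfsg.Agent.LsF.dMem_eq, Cfsg.Agent.LsF.decide_eq])); decide +kernel)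

theorem Lt_even : ∀ t ∈ Lt, sign t = 1 ∧ t ∉ L4 := by (refine of_decide_eq_true ?_; (try (rewrite [Cfsg.Agent.LsF.f129600_1.2, Cfsg.Agent.LsF.f129600_0.2, Cfsg.Agent.LsF.finFintype_eq, Cfsg.Agent.LsF.dForall_eq, Cfsg.Agent.LsF.instIDecEq_eq, Cfsg.Agent.LsF.dAnd_eq, Cfsg.Agent.LsF.dNot_eq, Cfsg.Agent.LsF.dFinEq_eq, Cfsg.Agent.LsF.dMem_eq, Cfsg.Agent.LsF.decide_eq])); decide +kernel)

attribute [local instance high] _root_.List.decidableBAll in
theorem L4_even : ∀ t ∈ L4, sign t = 1 := by decide +kernel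

theorem L4_mul : ∀ a ∈ L4, ∀ b ∈ L4, a * b ∈ L4 := by (refine of_decide_eq_true ?_; (try (rewrite [Cfsg.Agent.LsF.f129600_0.2, Cfsg.Agent.LsF.finFintype_eq, Cfsg.Agent.LsF.dForall_eq, Cfsg.Agent.LsF.dFinEq_eq, Cfsg.Agent.LsF.dMem_eq, Cfsg.Agent.LsF.decide_eq])); decide +kernel)

theorem L4_inv : ∀ a ∈ L4, a⁻¹ ∈ L4 := by (refine of_decide_eq_true ?_; (try (rewrite [Cfsg.Agent.LsF.f129600_0.2, Cfsg.Agent.LsF.finFintype_eq, Cfsg.Agent.LsF.dForall_eq, Cfsg.Agent.LsF.dFinEq_eq, Cfsg.Agent.LsF.dMem_eq, Cfsg.Agent.LsF.decide_eq])); decide +kernel)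

/-- the Klein group in `A₅` -/
def V4 : Subgroup A5 where
  carrier := {x | (x : Perm (Fin 5)) ∈ L4}
  one_mem' := by decide
  mul_mem' := fun {a b} ha hb => L4_mul _ ha _ hb
  inv_mem' := fun {a} ha => L4_inv _ ha

theorem mem_V4 {x : A5} : x ∈ V4 ↔ (x : Perm (Fin 5)) ∈ L4 := Iff.rfl

instance instDecV4 : DecidablePred (fun x : A5 => x ∈ V4) :=
  fun x => inferInstanceAs (Decidable ((x : Perm (Fin 5)) ∈ L4))

theorem card_V4 : Nat.card V4 = 4 := by
  rw [Nat.card_eq_fintype_card]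
  (set_option synthInstance.maxSize 9000 in open scoped Cfsg.Agent.Lib.FastPerm in decide +kernel)

theorem outBad_V4 : OutBadN A5 V4 := by
  intro φ hφ hV _
  obtain ⟨σ, rfl⟩ := exists_perm_five φ
  have hσ := sign_eq_neg hφ
  have key : ∀ v : Perm (Fin 5), v ∈ L4 → σ * v * σ⁻¹ ∈ L4 := by
    intro v hv
    have h1 : (⟨v, Perm.mem_alternatingGroup.2 (L4_even v hv)⟩ : A5) ∈ V4 := hv
    have h2 : (MulAut.conjNormal σ : MulAut A5) ⟨v, Perm.mem_alternatingGroup.2 (L4_even v hv)⟩ ∈ V4 := by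
      rw [← hV]
      exact ⟨_, h1, rfl⟩
    rw [mem_V4, MulAut.conjNormal_apply] at h2
    exact h2
  obtain ⟨r, hr, t, ht, hrt⟩ := key_five σ hσ (key _ (by decide)) (key _ (by decide))
  refine ⟨⟨r, Perm.mem_alternatingGroup.2 (L4_even r hr)⟩, hr,
    ⟨t, Perm.mem_alternatingGroup.2 (Lt_even t ht).1⟩, (Lt_even t ht).2, ?_⟩
  rw [mem_V4]
  have h3 : ((((⟨t, Perm.mem_alternatingGroup.2 (Lt_even t ht).1⟩ : A5)⁻¹ *
      ((⟨r, Perm.mem_alternatingGroup.2 (L4_even r hr)⟩ : A5) *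
        (MulAut.conjNormal σ : MulAut A5) ⟨t, Perm.mem_alternatingGroup.2 (Lt_even t ht).1⟩ *
        (⟨r, Perm.mem_alternatingGroup.2 (L4_even r hr)⟩ : A5)⁻¹) : A5)) : Perm (Fin 5)) =
      t⁻¹ * (r * (σ * t * σ⁻¹) * r⁻¹) := by
    rw [Subgroup.coe_mul, Subgroup.coe_mul, Subgroup.coe_mul, MulAut.conjNormal_apply]
    rfl
  rw [h3]
  have h4 : t⁻¹ * (r * (σ * t * σ⁻¹) * r⁻¹) = t⁻¹ * ((r * σ * t) * (r * σ)⁻¹) := by group
  rw [h4, hrt, mul_inv_cancel_right, inv_mul_cancel]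
  decide

theorem card_a5 : Nat.card A5 = 60 := Fx.card_A5

theorem outBad_four {R : Subgroup A5} (hR : Nat.card R = 4) : OutBadN A5 R := by
  have h2 : Fact (Nat.Prime 2) := ⟨Nat.prime_two⟩
  have hi : ∀ S : Subgroup A5, Nat.card S = 4 → ¬ 2 ∣ S.index := by
    intro S hS
    have h := S.card_mul_index
    rw [hS, card_a5] at h
    omega
  obtain ⟨g, hg⟩ := exists_conj_of_pgroup 2 (IsPGroup.of_card (n := 2) (by rw [hR]; norm_num))
    (IsPGroup.of_card (n := 2) (by rw [card_V4]; norm_num)) (hi R hR) (hi V4 card_V4)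
  refine OutBadN.congr (MulAut.conj g) ?_
  rw [hg]
  exact outBad_V4

/-- `A₄` has no subgroup of order six -/
theorem no_six {N : Type*} [Group N] [Finite N] (e : N ≃* alternatingGroup (Fin 4)) {R : Subgroup N}
    (hR : Nat.card R = 6) : False := by
  have hN : Nat.card N = 12 := (Nat.card_congr e.toEquiv).trans Fx.card_A4
  have hidx : R.index = 2 := by
    have h := R.card_mul_index
    rw [hR, hN] at h
    omega
  have h1 : Nat.card {y : N // y * y ≠ 1} = 8 := by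
    rw [← Fx.a4_card]
    refine Nat.card_congr (e.toEquiv.subtypeEquiv fun y => ?_)
    rw [not_iff_not]
    show y * y = 1 ↔ e y * e y = 1
    rw [← map_mul, map_eq_one_iff e e.injective]
  have hsub : ∀ y : N, y * y ≠ 1 → y ∈ R := by
    intro y hy
    have h3 : ∀ z : alternatingGroup (Fin 4), z * z ≠ 1 → z = (z * z) * (z * z) := by (set_option synthInstance.maxSize 9000 in open scoped Cfsg.Agent.Lib.FastPerm in decide +kernel)
    have h4 : y = (y * y) * (y * y) := by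
      apply e.injective
      rw [map_mul, map_mul]
      apply h3
      rw [← map_mul]
      intro h5
      exact hy ((map_eq_one_iff e e.injective).1 h5)
    rw [h4]
    have h5 := Subgroup.mul_self_mem_of_index_two hidx y
    exact R.mul_mem h5 h5
  have h2 : Nat.card {y : N // y * y ≠ 1} ≤ Nat.card R :=
    Nat.card_le_card_of_injective (fun y => (⟨y.1, hsub y.1 y.2⟩ : R))
      fun a b hab => Subtype.ext (congrArg (fun z : R => (z : N)) hab)
  omega

theorem rowA_a5 : RowA A5 := by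
  obtain ⟨x2, h2⟩ := x2_five
  obtain ⟨x3, h3⟩ := x3_five
  obtain ⟨x5, y5, h5, h5', hn⟩ := x5_five
  refine ⟨card_a5, cos_a5, fun M hM => ?_, fun R hR hR' => ?_⟩
  · -- maximal subgroups
    rcases sub_a5 hM.1 with h | h | h | ⟨h, _⟩
    · exact miss_of h5 fun h1 => by have := h1.trans h; omega
    · exact miss_of h5 fun h1 => by have := h1.trans h; omega
    · exact miss_of h3 fun h1 => by have := h1.trans h; omega
    · exact miss_of h5 (by rw [h]; norm_num)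
  · have hidx := R.card_mul_index
    rw [card_a5] at hidx
    have hc : Nat.card R = 1 ∨ Nat.card R = 2 ∨ Nat.card R = 3 ∨ Nat.card R = 4 ∨ Nat.card R = 5 := by
      by_contra hcon
      have hle : Nat.card R ∣ 6 ∨ Nat.card R ∣ 4 ∨ Nat.card R ∣ 10 ∨ Nat.card R = 12 := by
        rcases sub_a5 hR with h | h | h | ⟨h, _⟩ <;> simp only [h, true_or, or_true]
      have hle2 : Nat.card R ≤ 12 := by
        rcases hle with h | h | h | h
        · have := Nat.le_of_dvd (by norm_num) h; omega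
        · have := Nat.le_of_dvd (by norm_num) h; omega
        · have := Nat.le_of_dvd (by norm_num) h; omega
        · exact h.le
      have hc2 : Nat.card R = 6 ∨ Nat.card R = 10 ∨ Nat.card R = 12 := by
        have hpos : 0 < Nat.card R := Nat.card_pos
        interval_cases Nat.card R <;> omega
      apply hR'
      refine isCoatom_of hR fun N hN hN' => ?_
      obtain ⟨hd, hlt⟩ := card_lt_of_lt hN
      rcases sub_a5 hN' with h | h | h | ⟨h, ⟨e⟩⟩
      · have := Nat.le_of_dvd (by norm_num) h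
        obtain ⟨j, hj⟩ := hd
        have hj1 : j ≠ 0 := by rintro rfl; omega
        have hj2 : j ≠ 1 := by rintro rfl; omega
        rcases hc2 with h6 | h6 | h6 <;> rw [h6] at hj hlt <;> omega
      · have := Nat.le_of_dvd (by norm_num) h
        rcases hc2 with h6 | h6 | h6 <;> rw [h6] at hlt <;> omega
      · have := Nat.le_of_dvd (by norm_num) h
        obtain ⟨j, hj⟩ := hd
        rcases hc2 with h6 | h6 | h6 <;> rw [h6] at hj hlt
        · have : j = 1 := by omega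
          omega
        · omega
        · omega
      · rcases hc2 with h6 | h6 | h6
        · exact no_six e (R := R.subgroupOf N) (by
            rw [← h6]; exact Nat.card_congr (Subgroup.subgroupOfEquivOfLe hN.le).toEquiv)
        · rw [h, h6] at hd
          omega
        · omega
    rcases hc with h | h | h | h | h <;> rw [h] at hidx
    · refine Or.inl (Or.inr ⟨threeT_of h3 h5 h5' (by norm_num) hn (by rw [h]; norm_num) (by rw [h]; norm_num),
        two_of h3 h5 (by norm_num) (by rw [h]; norm_num) (by rw [h]; norm_num),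
        Or.inl (noOne_of_even sq_a5 (by omega))⟩)
    · refine Or.inl (Or.inr ⟨threeT_of h3 h5 h5' (by norm_num) hn (by rw [h]; norm_num) (by rw [h]; norm_num),
        two_of h3 h5 (by norm_num) (by rw [h]; norm_num) (by rw [h]; norm_num),
        Or.inl (noOne_of_even sq_a5 (by omega))⟩)
    · refine Or.inl (Or.inr ⟨threeT_of h2 h5 h5' (by norm_num) hn (by rw [h]; norm_num) (by rw [h]; norm_num),
        two_of h2 h5 (by norm_num) (by rw [h]; norm_num) (by rw [h]; norm_num),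
        Or.inl (noOne_of_even sq_a5 (by omega))⟩)
    · refine Or.inl (Or.inr ⟨threeT_of h3 h5 h5' (by norm_num) hn (by rw [h]; norm_num) (by rw [h]; norm_num),
        two_of h3 h5 (by norm_num) (by rw [h]; norm_num) (by rw [h]; norm_num),
        Or.inr (outBad_four h)⟩)
    · refine Or.inr ⟨by omega, two_of h2 h3 (by norm_num) (by rw [h]; norm_num) (by rw [h]; norm_num),
        noOne_of_even sq_a5 (by omega)⟩

end five

end Cfsg.Agent.H853.Der
end

-- part: H853/Der/ASixA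
section
/-!
# `A₆` (S3502): automorphisms, outer cosets
-/

set_option autoImplicit false

namespace Cfsg.Agent.H853.Der

open Subgroup Equiv Equiv.Perm Cfsg.Agent.H938.Sax Cfsg.Agent.H439.Der

open Cfsg.Agent.LFourA.AltPsiAut

/-- an automorphism that is not in `NE` maps elements of type `{3,3}` to three-cycles -/
theorem three_of_not_mem {α : MulAut A6} (hα : α ∉ NE) {w : A6} (hw : (w : Perm (Fin 6)).cycleType = {3, 3}) :
    (α w : Perm (Fin 6)).IsThreeCycle := by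
  have h1 : α⁻¹ ∉ NE := fun h => hα (inv_mem_iff.1 h)
  obtain ⟨g, hg⟩ := exists_conj_33 (type_of_not_mem h1 u3_three) hw
  rw [← hg, map_mul, map_mul, map_inv, MulAut.apply_inv_self]
  exact isThreeCycle_conj.2 u3_three

theorem conjNormal_mem_NE (σ : Perm (Fin 6)) : (MulAut.conjNormal σ : MulAut A6) ∈ NE := by
  intro x hx
  rw [MulAut.conjNormal_apply]
  exact isThreeCycle_conj.2 hx

theorem exists_conjNormal {α : MulAut A6} (hα : α ∈ NE) : ∃ σ : Perm (Fin 6), α = MulAut.conjNormal σ := by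
  obtain ⟨σ, hσ⟩ := exists_perm hα
  exact ⟨σ, eq_conjNormal hσ⟩

private def ap (c i : ℕ) : ℕ := Nat.mod (Nat.shiftRight c (Nat.mul 3 i)) 8

private def pk (a b c d e f : ℕ) : ℕ :=
  Nat.add a (Nat.mul 8 (Nat.add b (Nat.mul 8 (Nat.add c (Nat.mul 8 (Nat.add d (Nat.mul 8 (Nat.add e (Nat.mul 8 f)))))))))

private def cd (σ : Perm (Fin 6)) : ℕ := pk (σ 0) (σ 1) (σ 2) (σ 3) (σ 4) (σ 5)

private def mu (c d : ℕ) : ℕ :=
  pk (ap c (ap d 0)) (ap c (ap d 1)) (ap c (ap d 2)) (ap c (ap d 3)) (ap c (ap d 4)) (ap c (ap d 5))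

private theorem ap_cd (σ : Perm (Fin 6)) (i : Fin 6) : ap (cd σ) i = σ i := by
  have h0 := (σ 0).2
  have h1 := (σ 1).2
  have h2 := (σ 2).2
  have h3 := (σ 3).2
  have h4 := (σ 4).2
  have h5 := (σ 5).2
  have e : ∀ k, ap (cd σ) k = ((σ 0 : ℕ) + 8 * (σ 1 + 8 * (σ 2 + 8 * (σ 3 + 8 * (σ 4 + 8 * σ 5))))) / 2 ^ (3 * k) % 8 :=
    fun k => congrArg (· % 8) (Nat.shiftRight_eq_div_pow _ _)
  rw [e]
  fin_cases i <;> simp only [Fin.zero_eta, Fin.mk_one, Fin.reduceFinMk, Nat.reduceMul, Nat.reducePow] <;> omega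

private theorem cd_mul (σ τ : Perm (Fin 6)) : cd (σ * τ) = mu (cd σ) (cd τ) := by
  have h := ap_cd τ
  rw [mu, show ap (cd τ) 0 = τ 0 from h 0, show ap (cd τ) 1 = τ 1 from h 1, show ap (cd τ) 2 = τ 2 from h 2,
    show ap (cd τ) 3 = τ 3 from h 3, show ap (cd τ) 4 = τ 4 from h 4, show ap (cd τ) 5 = τ 5 from h 5]
  simp only [ap_cd]
  rfl

private theorem cd_eq {σ τ : Perm (Fin 6)} : σ = τ ↔ cd σ = cd τ :=
  ⟨congrArg cd, fun h => Equiv.ext fun i => Fin.ext (by rw [← ap_cd, ← ap_cd, h])⟩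

private def iv (c i j : ℕ) : Bool := Nat.ble (ap c j) (ap c i)

private def sg (c : ℕ) : Bool :=
  xor (xor (xor (xor (iv c 0 1) (xor (iv c 0 2) (iv c 1 2))) (xor (xor (iv c 0 3) (iv c 1 3)) (iv c 2 3)))
    (xor (xor (xor (iv c 0 4) (iv c 1 4)) (iv c 2 4)) (iv c 3 4)))
    (xor (xor (xor (xor (iv c 0 5) (iv c 1 5)) (iv c 2 5)) (iv c 3 5)) (iv c 4 5))

private theorem sign_cd (σ : Perm (Fin 6)) : sign σ = bif sg (cd σ) then -1 else 1 := by
  have h1 : ∀ a b : Bool, (bif xor a b then -1 else 1 : ℤˣ) = (bif a then -1 else 1) * bif b then -1 else 1 := by decide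
  have h2 : ∀ i j : Fin 6, (if σ i < σ j then 1 else -1 : ℤˣ) = bif iv (cd σ) i j then -1 else 1 := fun i j => by
    rw [iv, ap_cd, ap_cd]
    split_ifs with h
    · rw [Bool.eq_false_iff.2 fun h3 => absurd (Nat.le_of_ble_eq_true h3) (not_le.2 h)]
      rfl
    · rw [Nat.ble_eq_true_of_le (not_lt.1 h)]
      rfl
  rw [sign_eq_prod_prod_Iio, Fin.prod_univ_six, show Finset.Iio (0 : Fin 6) = ∅ from rfl,
    show Finset.Iio (1 : Fin 6) = {0} from rfl, show Finset.Iio (2 : Fin 6) = {0, 1} from by decide,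
    show Finset.Iio (3 : Fin 6) = {0, 1, 2} from by decide, show Finset.Iio (4 : Fin 6) = {0, 1, 2, 3} from by decide,
    show Finset.Iio (5 : Fin 6) = {0, 1, 2, 3, 4} from by decide]
  repeat rw [Finset.prod_insert (by decide)]
  simp only [Finset.prod_empty, Finset.prod_singleton, h2, sg, h1, one_mul, mul_assoc]
  rfl

private theorem sg_pos {σ : Perm (Fin 6)} : sign σ = 1 ↔ sg (cd σ) = false := by
  rw [sign_cd]
  cases sg (cd σ) <;> decide

private theorem sg_neg {σ : Perm (Fin 6)} : sign σ = -1 ↔ sg (cd σ) = true := by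
  rw [sign_cd]
  cases sg (cd σ) <;> decide

private def IsC (c : ℕ) : Prop := ∃ σ, cd σ = c

private def al6 (p : ℕ → Bool) : Bool := p 0 && (p 1 && (p 2 && (p 3 && (p 4 && p 5))))

private theorem al6_spec {p : ℕ → Bool} (h : al6 p = true) (i : Fin 6) : p i = true := by
  simp only [al6, Bool.and_eq_true] at h
  fin_cases i
  exacts [h.1, h.2.1, h.2.2.1, h.2.2.2.1, h.2.2.2.2.1, h.2.2.2.2.2]

private def lp (p : ℕ → Bool) : Bool :=
  al6 fun a => al6 fun b => Nat.beq b a || al6 fun c => Nat.beq c a || (Nat.beq c b || al6 fun d =>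
    Nat.beq d a || (Nat.beq d b || (Nat.beq d c || al6 fun e => Nat.beq e a || (Nat.beq e b || (Nat.beq e c ||
    (Nat.beq e d || al6 fun f => Nat.beq f a || (Nat.beq f b || (Nat.beq f c || (Nat.beq f d || (Nat.beq f e ||
    p (pk a b c d e f)))))))))))

private theorem all6 (P : ℕ → Prop) [DecidablePred P] (h : lp (fun c => decide (P c)) = true) (c : ℕ) (hc : IsC c) :
    P c := by
  obtain ⟨σ, rfl⟩ := hc
  have ne : ∀ {i j : Fin 6} {q : Bool}, i ≠ j → (Nat.beq (σ i) (σ j) || q) = true → q = true := fun {i j q} h1 h2 => by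
    rwa [Bool.eq_false_iff.2 fun h3 => h1 (σ.injective (Fin.ext (Nat.eq_of_beq_eq_true h3))), Bool.false_or] at h2
  have h1 := ne (by decide) (al6_spec (al6_spec h (σ 0)) (σ 1))
  have h2 := ne (by decide) (ne (by decide) (al6_spec h1 (σ 2)))
  have h3 := ne (by decide) (ne (by decide) (ne (by decide) (al6_spec h2 (σ 3))))
  have h4 := ne (by decide) (ne (by decide) (ne (by decide) (ne (by decide) (al6_spec h3 (σ 4)))))
  exact of_decide_eq_true
    (ne (by decide) (ne (by decide) (ne (by decide) (ne (by decide) (ne (by decide) (al6_spec h4 (σ 5)))))))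

private theorem conj_mem {L : List (Perm (Fin 6))} {σ t : Perm (Fin 6)} :
    σ * t * σ⁻¹ ∈ L ↔ ∃ r ∈ L, σ * t = r * σ :=
  ⟨fun h => ⟨_, h, (inv_mul_cancel_right _ _).symm⟩, fun ⟨r, h, e⟩ => by rwa [e, mul_inv_cancel_right]⟩

private noncomputable def _root_.Cfsg.Agent.LsF.f129600_2 : {f // @Cfsg.Agent.H853.Der.al6 = f} := ⟨_, by first | (delta Cfsg.Agent.H853.Der.al6; rewrite [Cfsg.Agent.LsF.and_eq]; exact rfl) | exact rfl⟩
private noncomputable def _root_.Cfsg.Agent.LsF.f129600_3 : {f // @Cfsg.Agent.H853.Der.lp = f} := ⟨_, by first | (delta Cfsg.Agent.H853.Der.lp; rewrite [Cfsg.Agent.LsF.f129600_2.2, Cfsg.Agent.LsF.or_eq]; exact rfl) | exact rfl⟩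
theorem not_exo : ∀ σ : Perm (Fin 6), σ * (swap (0 : Fin 6) 1 * swap (2 : Fin 6) 3) * σ⁻¹ = swap (0 : Fin 6) 1 * swap (2 : Fin 6) 3 →
    σ * (swap (0 : Fin 6) 2 * swap (1 : Fin 6) 3) * σ⁻¹ ≠ swap (0 : Fin 6) 1 * swap (4 : Fin 6) 5 := by
  intro σ
  have hc : IsC (cd σ) := ⟨σ, rfl⟩
  simp only [ne_eq, mul_inv_eq_iff_eq_mul, sg_pos, sg_neg, cd_eq, cd_mul]
  generalize cd σ = c at hc ⊢
  revert c
  exact all6 _ (by ((try (rewrite [Cfsg.Agent.LsF.f129600_3.2, Cfsg.Agent.LsF.instDecEq_eq, Cfsg.Agent.LsF.dNot_eq, Cfsg.Agent.LsF.dFinEq_eq, Cfsg.Agent.LsF.decide_eq])); decide +kernel))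

theorem cent_three : ∀ σ : Perm (Fin 6), σ * (swap (0 : Fin 6) 1 * swap (2 : Fin 6) 3) * σ⁻¹ = swap (0 : Fin 6) 1 * swap (2 : Fin 6) 3 →
    σ * (swap (0 : Fin 6) 2 * swap (1 : Fin 6) 3) * σ⁻¹ = swap (0 : Fin 6) 2 * swap (1 : Fin 6) 3 →
    σ * (swap (0 : Fin 6) 1 * swap (4 : Fin 6) 5) * σ⁻¹ = swap (0 : Fin 6) 1 * swap (4 : Fin 6) 5 → sign σ = -1 →
    σ = swap (4 : Fin 6) 5 ∨ σ = swap (0 : Fin 6) 1 * swap (2 : Fin 6) 3 * swap (4 : Fin 6) 5 := by
  intro σ
  have hc : IsC (cd σ) := ⟨σ, rfl⟩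
  simp only [ne_eq, mul_inv_eq_iff_eq_mul, sg_pos, sg_neg, cd_eq, cd_mul]
  generalize cd σ = c at hc ⊢
  revert c
  exact all6 _ (by decide +kernel)

private theorem cent_t2' : ∀ x : Perm (Fin 6), swap (4 : Fin 6) 5 * x * (swap (4 : Fin 6) 5)⁻¹ = x → x * x * x = 1 → ap (cd x) 4 = 4 := by
  intro x
  have hc : IsC (cd x) := ⟨x, rfl⟩
  simp only [ne_eq, mul_inv_eq_iff_eq_mul, sg_pos, sg_neg, cd_eq, cd_mul]
  generalize cd x = c at hc ⊢
  revert c
  exact all6 _ (by ((try (rewrite [Cfsg.Agent.LsF.f129600_3.2, Cfsg.Agent.LsF.instDecEq_eq, Cfsg.Agent.LsF.dFinEq_eq, Cfsg.Agent.LsF.decide_eq])); decide +kernel))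

theorem cent_t2 : ∀ x : Perm (Fin 6), swap (4 : Fin 6) 5 * x * (swap (4 : Fin 6) 5)⁻¹ = x → x * x * x = 1 →
    x.support.card ≠ 6 := fun x h1 h2 h3 => by
  have h4 : (4 : Fin 6) ∈ x.support := by
    rw [Finset.eq_univ_of_card _ (h3.trans (Fintype.card_fin 6).symm)]
    exact Finset.mem_univ _
  exact mem_support.1 h4 (Fin.ext ((ap_cd x 4).symm.trans (cent_t2' x h1 h2)))

private theorem cent_t222' : ∀ x : Perm (Fin 6),
    swap (0 : Fin 6) 1 * swap (2 : Fin 6) 3 * swap (4 : Fin 6) 5 * x * (swap (0 : Fin 6) 1 * swap (2 : Fin 6) 3 * swap (4 : Fin 6) 5)⁻¹ = x → x * x * x = 1 →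
    x = 1 ∨ al6 (fun i => !Nat.beq (ap (cd x) i) i) = true := by
  intro x
  have hc : IsC (cd x) := ⟨x, rfl⟩
  simp only [ne_eq, mul_inv_eq_iff_eq_mul, sg_pos, sg_neg, cd_eq, cd_mul]
  generalize cd x = c at hc ⊢
  revert c
  exact all6 _ (by decide +kernel)

theorem cent_t222 : ∀ x : Perm (Fin 6),
    swap (0 : Fin 6) 1 * swap (2 : Fin 6) 3 * swap (4 : Fin 6) 5 * x * (swap (0 : Fin 6) 1 * swap (2 : Fin 6) 3 * swap (4 : Fin 6) 5)⁻¹ = x → x * x * x = 1 →
    x.support.card ≠ 3 := fun x h1 h2 h3 => by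
  rcases cent_t222' x h1 h2 with rfl | h4
  · rw [support_one] at h3
    exact absurd h3 (by decide)
  · rw [Finset.eq_univ_of_forall fun i => mem_support.2 fun h5 => by
      have h6 := al6_spec h4 i
      rw [ap_cd, h5, Nat.beq_refl] at h6
      exact absurd h6 (by decide)] at h3
    exact absurd h3 (by decide)

theorem centralizer_six : ∀ σ : Perm (Fin 6), σ * (swap (0 : Fin 6) 1 * swap (1 : Fin 6) 2) = (swap (0 : Fin 6) 1 * swap (1 : Fin 6) 2) * σ →
    σ * (swap (2 : Fin 6) 3 * swap (3 : Fin 6) 4) = (swap (2 : Fin 6) 3 * swap (3 : Fin 6) 4) * σ →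
    σ * (swap (3 : Fin 6) 4 * swap (4 : Fin 6) 5) = (swap (3 : Fin 6) 4 * swap (4 : Fin 6) 5) * σ → σ = 1 := by
  intro σ
  have hc : IsC (cd σ) := ⟨σ, rfl⟩
  simp only [ne_eq, mul_inv_eq_iff_eq_mul, sg_pos, sg_neg, cd_eq, cd_mul]
  generalize cd σ = c at hc ⊢
  revert c
  exact all6 _ (by decide +kernel)

theorem inj_six : Function.Injective (MulAut.conjNormal : Perm (Fin 6) →* MulAut A6) := by
  rw [injective_iff_map_eq_one]
  intro σ hσ
  have key : ∀ x : A6, σ * (x : Perm (Fin 6)) = x * σ := by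
    intro x
    have h1 := congrArg (fun φ : MulAut A6 => ((φ x : A6) : Perm (Fin 6))) hσ
    have h2 : σ * (x : Perm (Fin 6)) * σ⁻¹ = x := by
      rw [← MulAut.conjNormal_apply]; exact h1
    rw [← h2, inv_mul_cancel_right, h2]
  exact centralizer_six σ (key ⟨swap (0 : Fin 6) 1 * swap (1 : Fin 6) 2, by rw [Perm.mem_alternatingGroup]; decide⟩)
    (key ⟨swap (2 : Fin 6) 3 * swap (3 : Fin 6) 4, by rw [Perm.mem_alternatingGroup]; decide⟩)
    (key ⟨swap (3 : Fin 6) 4 * swap (4 : Fin 6) 5, by rw [Perm.mem_alternatingGroup]; decide⟩)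

theorem mul_cube_one {x : A6} (hx : orderOf x = 3) :
    (x : Perm (Fin 6)) * (x : Perm (Fin 6)) * (x : Perm (Fin 6)) = 1 := by
  have h := pow_orderOf_eq_one x
  rw [hx, pow_succ, pow_two] at h
  exact congrArg Subtype.val h

/-- an exotic automorphism with inner square -/
theorem exists_exo_sq : ∃ ε : MulAut A6, ε ∉ NE ∧ ∃ σ : Perm (Fin 6), sign σ = 1 ∧ ε * ε = MulAut.conjNormal σ := by
  obtain ⟨ε, ha, hb, hd⟩ := exists_exo
  have hne : ε ∉ NE := by
    intro h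
    obtain ⟨σ, hσ⟩ := exists_perm h
    have h1 := hσ sa
    have h2 := hσ sb
    rw [ha] at h1
    rw [hb] at h2
    exact not_exo σ h1.symm h2.symm
  refine ⟨ε, hne, ?_⟩
  have h2 : ε * ε ∈ NE := mem_NE_of_fix (by rw [MulAut.mul_apply, ha, ha]) (by rw [MulAut.mul_apply, hb, hd])
  obtain ⟨τ, hτ⟩ := exists_perm h2
  rcases Int.units_eq_one_or (sign τ) with hs | hs
  · exact ⟨τ, hs, eq_conjNormal hτ⟩
  exfalso
  have e1 := hτ sa
  have e2 := hτ sb
  have e3 := hτ sd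
  rw [MulAut.mul_apply, ha, ha] at e1
  rw [MulAut.mul_apply, hb, hd] at e2
  rw [MulAut.mul_apply, hd, hb] at e3
  -- `ε` commutes with its square
  have hcomm : ∀ x : A6, τ * (x : Perm (Fin 6)) * τ⁻¹ = x →
      τ * ((ε x : A6) : Perm (Fin 6)) * τ⁻¹ = (ε x : A6) := by
    intro x hx
    rw [← hτ (ε x)]
    have h3 : (ε * ε) x = x := Subtype.ext (by rw [hτ x]; exact hx)
    have h4 : (ε * ε) (ε x) = ε ((ε * ε) x) := rfl
    rw [h4, h3]
  rcases cent_three τ e1.symm e2.symm e3.symm hs with h | h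
  · subst h
    have h5 := hcomm u3 (by decide)
    have h6 := type_of_not_mem hne u3_three
    have h7 : orderOf (ε u3) = 3 := by
      rw [MulEquiv.orderOf_eq, ← Subgroup.orderOf_coe]; exact u3_three.orderOf
    refine cent_t2 _ h5 (mul_cube_one h7) ?_
    rw [← Equiv.Perm.sum_cycleType, h6]
    rfl
  · subst h
    obtain ⟨w, hw⟩ : ∃ w : A6, (w : Perm (Fin 6)) = swap (0 : Fin 6) 2 * swap (2 : Fin 6) 4 * (swap (1 : Fin 6) 3 * swap (3 : Fin 6) 5) :=
      ⟨⟨_, by rw [Perm.mem_alternatingGroup]; decide⟩, rfl⟩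
    have hf : Fact (Nat.Prime 3) := ⟨Nat.prime_three⟩
    have hwo : orderOf w = 3 := by
      rw [← Subgroup.orderOf_coe, hw]
      exact orderOf_eq_prime (by decide) (by decide)
    have h5 := hcomm w (by rw [hw]; decide)
    have h8 : (w : Perm (Fin 6)).cycleType = {3, 3} := by
      rcases three_or hwo with h | h
      · exfalso
        have h9 := h.card_support
        rw [hw] at h9
        revert h9; decide
      · exact h
    have h6 := three_of_not_mem hne h8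
    have h7 : orderOf (ε w) = 3 := by rw [MulEquiv.orderOf_eq, hwo]
    exact cent_t222 _ h5 (mul_cube_one h7) h6.card_support

/-- all squares in `Aut A₆` are inner -/
theorem sq_a6 (φ : MulAut A6) : ∃ t : A6, φ * φ = MulAut.conj t := by
  by_cases hφ : φ ∈ NE
  · obtain ⟨σ, h⟩ := exists_conjNormal hφ
    exact sq_inner h
  · obtain ⟨ε, hε, τ, hτ, hετ⟩ := exists_exo_sq
    obtain ⟨σ, hσ⟩ := exists_conjNormal (inv_mul_mem hε hφ)
    have h1 : φ = ε * MulAut.conjNormal σ := by rw [← hσ, mul_inv_cancel_left]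
    have h2 : ε * MulAut.conjNormal σ * ε⁻¹ ∈ NE := by
      have h3 := inv_mul_mem (α := ε⁻¹) (β := MulAut.conjNormal σ * ε⁻¹) (fun h => hε (inv_mem_iff.1 h))
        (fun h => hε (by
          have h4 := NE.mul_mem (NE.inv_mem (conjNormal_mem_NE σ)) h
          rw [inv_mul_cancel_left] at h4
          exact inv_mem_iff.1 h4))
      rwa [inv_inv, ← mul_assoc] at h3
    obtain ⟨ρ, hρ⟩ := exists_conjNormal h2
    -- `ρ` and `σ` have the same sign
    have hsign : sign ρ = sign σ := by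
      have key : ∀ a b : Perm (Fin 6), ∀ e : MulAut A6, e * MulAut.conjNormal a * e⁻¹ = MulAut.conjNormal b →
          sign a = 1 → sign b = 1 := by
        intro a b e he ha
        rw [conjNormal_of_even ha] at he
        obtain ⟨c, hc⟩ : ∃ c : A6, c = e ⟨a, Perm.mem_alternatingGroup.2 ha⟩ := ⟨_, rfl⟩
        have h5 : (MulAut.conjNormal b : MulAut A6) = MulAut.conjNormal (c : Perm (Fin 6)) := by
          rw [MulAut.conjNormal_val, ← he, hc]
          ext x : 1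
          simp [MulAut.mul_apply]
        rw [inj_six h5]
        exact Perm.mem_alternatingGroup.1 c.2
      rcases Int.units_eq_one_or (sign σ) with h5 | h5
      · rw [h5]; exact key _ _ _ hρ h5
      · rcases Int.units_eq_one_or (sign ρ) with h6 | h6
        · exfalso
          have h7 : ε⁻¹ * MulAut.conjNormal ρ * ε⁻¹⁻¹ = MulAut.conjNormal σ := by
            rw [← hρ]; group
          rw [key _ _ _ h7 h6] at h5
          revert h5; decide
        · rw [h5, h6]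
    have h3 : φ * φ = MulAut.conjNormal (ρ * τ * σ) := by
      rw [map_mul, map_mul, ← hετ, ← hρ, h1]
      group
    have h4 : sign (ρ * τ * σ) = 1 := by
      rw [map_mul, map_mul, hτ, mul_one, hsign]
      exact Int.units_mul_self _
    exact ⟨_, h3.trans (conjNormal_of_even h4)⟩

end Cfsg.Agent.H853.Der
end

-- part: H853/Der/ASixB
section
/-!
# `A₆` (S3502): the elements of order four
-/

set_option autoImplicit false

namespace Cfsg.Agent.H853.Der

open Subgroup Equiv Equiv.Perm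

open Cfsg.Agent.LFourA.AltPsiAut

/-- an element of order four -/
def c4 : A6 := ⟨swap (0 : Fin 6) 1 * swap (1 : Fin 6) 2 * swap (2 : Fin 6) 3 * swap (4 : Fin 6) 5, by rw [Perm.mem_alternatingGroup]; decide⟩

/-- conjugates along a word -/
private def cj (w : List Bool) : ℕ :=
  List.rec 151761 (fun b _ r => bif b then mu (mu 144488 r) 55504 else mu (mu 181826 r) 181777) w

private theorem cj_spec : ∀ w, ∃ g : Perm (Fin 6), sign g = 1 ∧
    cd (g⁻¹ * (swap (0 : Fin 6) 1 * swap (1 : Fin 6) 2 * swap (2 : Fin 6) 3 * swap (4 : Fin 6) 5) * g) = cj w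
  | [] => ⟨1, map_one _, by decide +kernel⟩
  | true :: w => by
    obtain ⟨g, h1, h2⟩ := cj_spec w
    refine ⟨g * (swap (1 : Fin 6) 2 * swap (2 : Fin 6) 3 * swap (3 : Fin 6) 4 * swap (4 : Fin 6) 5), by rw [map_mul, h1]; decide +kernel, ?_⟩
    rw [_root_.mul_inv_rev, mul_assoc _ g⁻¹, ← mul_assoc _ g, mul_assoc _ _ g, cd_mul, cd_mul, h2]
    exact congrArg₂ (fun a b => mu (mu a (cj w)) b) (by decide +kernel) (by decide +kernel)
  | false :: w => by
    obtain ⟨g, h1, h2⟩ := cj_spec w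
    refine ⟨g * (swap (0 : Fin 6) 1 * swap (1 : Fin 6) 2), by rw [map_mul, h1]; decide +kernel, ?_⟩
    rw [_root_.mul_inv_rev, mul_assoc _ g⁻¹, ← mul_assoc _ g, mul_assoc _ _ g, cd_mul, cd_mul, h2]
    exact congrArg₂ (fun a b => mu (mu a (cj w)) b) (by decide +kernel) (by decide +kernel)

private def wC : List (List Bool) :=
  [[], [false], [true], [false, false], [true, false], [false, true], [true, true], [true, false, false], [true,
  true, false], [false, false, true], [true, false, true], [false, true, true], [true, true, true], [false,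
  true, false, false], [true, true, false, false], [false, true, true, false], [true, true, true, false], [true,
  false, false, true], [false, true, false, true], [true, true, false, true], [false, false, true, true], [true,
  false, true, true], [false, true, true, true], [true, true, true, true], [true, false, true, false, false],
  [false, true, true, false, false], [true, true, true, false, false], [false, false, true, true, false], [true,
  false, true, true, false], [false, true, true, true, false], [true, true, true, true, false], [false, true,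
  false, false, true], [true, true, false, false, true], [false, false, true, false, true], [true, false, true,
  false, true], [false, true, true, false, true], [true, true, true, false, true], [true, false, false, true,
  true], [true, true, false, true, true], [false, false, true, true, true], [true, false, true, true, true],
  [false, true, true, true, true], [false, true, false, true, false, false], [true, true, false, true, false,
  false], [false, false, true, true, false, false], [true, false, true, true, false, false], [false, true, true,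
  true, false, false], [true, true, true, true, false, false], [true, false, false, true, true, false], [false,
  true, false, true, true, false], [true, true, false, true, true, false], [false, false, true, true, true,
  false], [true, false, true, true, true, false], [false, true, true, true, true, false], [false, false, true,
  false, false, true], [true, false, true, false, false, true], [false, true, true, false, false, true], [true,
  true, false, true, false, true], [true, true, true, true, false, true], [false, true, true, false, true,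
  true], [true, true, true, false, true, true], [true, true, false, true, true, true], [true, false, true, true,
  true, true], [false, false, true, false, true, false, false], [true, false, true, false, true, false, false],
  [false, true, true, false, true, false, false], [true, true, true, false, true, false, false], [true, true,
  false, true, true, false, false], [true, false, true, true, true, false, false], [false, true, true, true,
  true, false, false], [true, false, true, false, true, true, false], [true, true, true, false, true, true,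
  false], [true, false, true, true, true, true, false], [true, false, false, true, false, false, true], [true,
  true, false, true, false, false, true], [false, false, true, true, false, false, true], [true, true, true,
  false, true, false, true], [false, false, true, true, false, true, true], [false, true, true, true, false,
  true, true], [true, true, true, true, false, true, true], [false, true, true, false, true, true, true],
  [false, true, false, true, true, true, true], [true, true, false, true, false, true, false, false], [true,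
  true, true, true, false, true, false, false], [false, true, true, false, true, true, false, false], [true,
  true, false, true, true, true, false, false], [false, true, true, true, false, true, true, false], [false,
  true, false, true, true, true, true, false], [true, true, true, false, true, false, false, true], [false,
  true, true, false, true, true, true, false, false]]

private noncomputable def _root_.Cfsg.Agent.LsF.f129600_4 : {f // @Cfsg.Agent.H853.Der.sg = f} := ⟨_, by first | (delta Cfsg.Agent.H853.Der.sg; rewrite [Cfsg.Agent.LsF.bxor_eq]; exact rfl) | exact rfl⟩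
private noncomputable def _root_.Cfsg.Agent.LsF.f129600_5 : {f // @Cfsg.Agent.H853.Der.cj = f} := ⟨_, by first | (delta Cfsg.Agent.H853.Der.cj; rewrite [Cfsg.Agent.LsF.cond_eq]; exact rfl) | exact rfl⟩
private theorem c4_class' : ∀ x : Perm (Fin 6), x * x * (x * x) = 1 → x * x ≠ 1 → sign x = 1 → ∃ w ∈ wC, cj w = cd x := by
  intro x
  have hc : IsC (cd x) := ⟨x, rfl⟩
  simp only [ne_eq, mul_inv_eq_iff_eq_mul, sg_pos, sg_neg, cd_eq, cd_mul]
  generalize cd x = c at hc ⊢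
  revert c
  exact all6 _ (by ((try (rewrite [Cfsg.Agent.LsF.f129600_3.2, Cfsg.Agent.LsF.f129600_4.2, Cfsg.Agent.LsF.f129600_5.2, Cfsg.Agent.LsF.instDecEq_eq, Cfsg.Agent.LsF.dNot_eq, Cfsg.Agent.LsF.dBoolEq_eq, Cfsg.Agent.LsF.dBEx_eq, Cfsg.Agent.LsF.decide_eq])); decide +kernel))

theorem c4_class : ∀ x : Perm (Fin 6), sign x = 1 → x * x ≠ 1 → x * x * (x * x) = 1 →
    ∃ g : Perm (Fin 6), sign g = 1 ∧ g * x = (swap (0 : Fin 6) 1 * swap (1 : Fin 6) 2 * swap (2 : Fin 6) 3 * swap (4 : Fin 6) 5) * g := by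
  intro x h1 h2 h3
  obtain ⟨w, -, hw⟩ := c4_class' x h3 h2 h1
  obtain ⟨g, h4, h5⟩ := cj_spec w
  refine ⟨g, h4, ?_⟩
  rw [← cd_eq.2 (h5.trans hw), ← mul_assoc, mul_inv_cancel_left]

theorem c4_cent : ∀ u : Perm (Fin 6), sign u = 1 → u * (swap (0 : Fin 6) 1 * swap (1 : Fin 6) 2 * swap (2 : Fin 6) 3 * swap (4 : Fin 6) 5) =
    (swap (0 : Fin 6) 1 * swap (1 : Fin 6) 2 * swap (2 : Fin 6) 3 * swap (4 : Fin 6) 5) * u →
    u = 1 ∨ u = (swap (0 : Fin 6) 1 * swap (1 : Fin 6) 2 * swap (2 : Fin 6) 3 * swap (4 : Fin 6) 5) ∨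
    u = (swap (0 : Fin 6) 1 * swap (1 : Fin 6) 2 * swap (2 : Fin 6) 3 * swap (4 : Fin 6) 5) * (swap (0 : Fin 6) 1 * swap (1 : Fin 6) 2 * swap (2 : Fin 6) 3 * swap (4 : Fin 6) 5) ∨
    u = (swap (0 : Fin 6) 1 * swap (1 : Fin 6) 2 * swap (2 : Fin 6) 3 * swap (4 : Fin 6) 5)⁻¹ := by
  intro u
  have hc : IsC (cd u) := ⟨u, rfl⟩
  simp only [ne_eq, eq_inv_iff_mul_eq_one, mul_inv_eq_iff_eq_mul, sg_pos, sg_neg, cd_eq, cd_mul]
  generalize cd u = c at hc ⊢
  revert c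
  exact all6 _ (by ((try (rewrite [Cfsg.Agent.LsF.f129600_3.2, Cfsg.Agent.LsF.f129600_4.2, Cfsg.Agent.LsF.instDecEq_eq, Cfsg.Agent.LsF.dOr_eq, Cfsg.Agent.LsF.dFinEq_eq, Cfsg.Agent.LsF.dBoolEq_eq, Cfsg.Agent.LsF.decide_eq])); decide +kernel))

theorem cent_c4 {u : A6} (h : u * c4 = c4 * u) : u = 1 ∨ u = c4 ∨ u = c4 * c4 ∨ u = c4⁻¹ := by
  rcases c4_cent u (Perm.mem_alternatingGroup.1 u.2) (congrArg Subtype.val h) with h1 | h1 | h1 | h1
  · exact Or.inl (Subtype.ext h1)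
  · exact Or.inr (Or.inl (Subtype.ext h1))
  · exact Or.inr (Or.inr (Or.inl (Subtype.ext h1)))
  · exact Or.inr (Or.inr (Or.inr (Subtype.ext h1)))

theorem c4_real : ∃ d : A6, d * c4 * d⁻¹ = c4⁻¹ :=
  ⟨⟨swap (1 : Fin 6) 3 * swap (4 : Fin 6) 5, by rw [Perm.mem_alternatingGroup]; decide⟩, by apply Subtype.ext; decide⟩

theorem c4_sq : c4 * c4 ≠ 1 := fun h => by
  have := congrArg Subtype.val h
  revert this; decide

theorem c4_four : c4 * c4 * (c4 * c4) = 1 := by apply Subtype.ext; decide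

theorem order_c4 : orderOf c4 = 4 := order_four c4_sq c4_four

theorem conj_c4 {x : A6} (hx : orderOf x = 4) : ∃ g : A6, g * x * g⁻¹ = c4 := by
  have h4 : x ^ 4 = 1 := by rw [← hx]; exact pow_orderOf_eq_one x
  have h2 : x ^ 2 ≠ 1 := by
    intro h
    have := orderOf_dvd_of_pow_eq_one h
    rw [hx] at this
    omega
  obtain ⟨g, hg, hgx⟩ := c4_class x (Perm.mem_alternatingGroup.1 x.2)
    (fun h => h2 (Subtype.ext (by rw [pow_two]; exact h)))
    (by
      have := congrArg Subtype.val h4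
      rw [show 4 = 2 + 2 by norm_num, pow_add, pow_two] at this
      exact this)
  refine ⟨⟨g, Perm.mem_alternatingGroup.2 hg⟩, ?_⟩
  rw [mul_inv_eq_iff_eq_mul]
  exact Subtype.ext hgx

theorem no_six_order : ∀ g : Perm (Fin 6), sign g = 1 → (g * g * g) * (g * g * g) = 1 →
    g * g = 1 ∨ g * g * g = 1 := by
  intro g
  have hc : IsC (cd g) := ⟨g, rfl⟩
  simp only [ne_eq, mul_inv_eq_iff_eq_mul, sg_pos, sg_neg, cd_eq, cd_mul]
  generalize cd g = c at hc ⊢
  revert c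
  exact all6 _ (by ((try (rewrite [Cfsg.Agent.LsF.f129600_3.2, Cfsg.Agent.LsF.f129600_4.2, Cfsg.Agent.LsF.instDecEq_eq, Cfsg.Agent.LsF.dOr_eq, Cfsg.Agent.LsF.dBoolEq_eq, Cfsg.Agent.LsF.decide_eq])); decide +kernel))

/-- the dihedral group of order eight -/
def L8 : List (Perm (Fin 6)) := [1, swap (0 : Fin 6) 1 * swap (1 : Fin 6) 2 * swap (2 : Fin 6) 3 * swap (4 : Fin 6) 5, swap (0 : Fin 6) 2 * swap (1 : Fin 6) 3,
  swap (0 : Fin 6) 3 * swap (3 : Fin 6) 2 * swap (2 : Fin 6) 1 * swap (4 : Fin 6) 5, swap (0 : Fin 6) 2 * swap (4 : Fin 6) 5, swap (1 : Fin 6) 3 * swap (4 : Fin 6) 5, swap (0 : Fin 6) 1 * swap (2 : Fin 6) 3,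
  swap (0 : Fin 6) 3 * swap (1 : Fin 6) 2]

private def K8 : List ℕ := [181896, 151761, 180762, 152643, 153098, 152216, 181441, 180307]

private theorem L8_cd : L8.map cd = K8 := by decide +kernel

private theorem mem_L8 {x : Perm (Fin 6)} : x ∈ L8 ↔ cd x ∈ K8 := by
  rw [← L8_cd, List.mem_map_of_injective fun _ _ => cd_eq.2]

theorem L8_even : ∀ t ∈ L8, sign t = 1 := fun _ h =>
  sg_pos.2 ((by decide +kernel : ∀ c ∈ K8, sg c = false) _ (mem_L8.1 h))

theorem L8_mul : ∀ a ∈ L8, ∀ b ∈ L8, a * b ∈ L8 := fun a ha b hb => by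
  rw [mem_L8, cd_mul]
  exact (by decide +kernel : ∀ c ∈ K8, ∀ d ∈ K8, mu c d ∈ K8) _ (mem_L8.1 ha) _ (mem_L8.1 hb)

theorem L8_inv : ∀ a ∈ L8, a⁻¹ ∈ L8 := fun a ha => by
  have h : a * a * a * a = 1 := by
    rw [cd_eq, cd_mul, cd_mul, cd_mul]
    exact (by decide +kernel : ∀ c ∈ K8, mu (mu (mu c c) c) c = cd 1) _ (mem_L8.1 ha)
  rw [← eq_inv_of_mul_eq_one_left h]
  exact L8_mul _ (L8_mul _ ha _ ha) _ ha

private noncomputable def _root_.Cfsg.Agent.LsF.f129600_6 : {f // @Cfsg.Agent.H853.Der.L8 = f} := ⟨_, by first | (delta Cfsg.Agent.H853.Der.L8; rewrite [Cfsg.Agent.LsF.dFinEq_eq]; exact rfl) | exact rfl⟩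
theorem key_six : ∀ σ : Perm (Fin 6), sign σ = -1 →
    σ * (swap (0 : Fin 6) 1 * swap (1 : Fin 6) 2 * swap (2 : Fin 6) 3 * swap (4 : Fin 6) 5) * σ⁻¹ ∈ L8 →
    σ * (swap (0 : Fin 6) 2 * swap (4 : Fin 6) 5) * σ⁻¹ ∈ L8 → ∃ r ∈ L8, r * σ = swap (4 : Fin 6) 5 := by
  intro σ
  have hc : IsC (cd σ) := ⟨σ, rfl⟩
  simp only [ne_eq, conj_mem, mul_inv_eq_iff_eq_mul, sg_pos, sg_neg, cd_eq, cd_mul]
  generalize cd σ = c at hc ⊢
  revert c
  exact all6 _ (by ((try (rewrite [Cfsg.Agent.LsF.f129600_3.2, Cfsg.Agent.LsF.f129600_4.2, Cfsg.Agent.LsF.f129600_6.2, Cfsg.Agent.LsF.instDecEq_eq, Cfsg.Agent.LsF.dFinEq_eq, Cfsg.Agent.LsF.dBoolEq_eq, Cfsg.Agent.LsF.dBEx_eq, Cfsg.Agent.LsF.decide_eq])); decide +kernel))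

/-- the dihedral group of order eight in `A₆` -/
def D8 : Subgroup A6 where
  carrier := {x | (x : Perm (Fin 6)) ∈ L8}
  one_mem' := by decide
  mul_mem' := fun {a b} ha hb => L8_mul _ ha _ hb
  inv_mem' := fun {a} ha => L8_inv _ ha

theorem mem_D8 {x : A6} : x ∈ D8 ↔ (x : Perm (Fin 6)) ∈ L8 := Iff.rfl

instance instDecD8 : DecidablePred (fun x : A6 => x ∈ D8) :=
  fun x => inferInstanceAs (Decidable ((x : Perm (Fin 6)) ∈ L8))

theorem card_D8 : Nat.card D8 = 8 := by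
  have h1 : L8.Nodup := List.Nodup.of_map cd (by rw [L8_cd]; decide +kernel)
  have h2 : Function.Bijective fun i : Fin L8.length =>
      (⟨⟨L8.get i, Perm.mem_alternatingGroup.2 (L8_even _ (List.get_mem _ _))⟩, List.get_mem _ _⟩ : D8) :=
    ⟨fun i j h => h1.get_inj_iff.1 (congrArg (fun x : D8 => (x.1 : Perm (Fin 6))) h), fun x => by
      obtain ⟨i, hi⟩ := List.get_of_mem (mem_D8.1 x.2)
      exact ⟨i, Subtype.ext (Subtype.ext hi)⟩⟩
  rw [← Nat.card_eq_of_bijective _ h2, Nat.card_fin]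
  rfl

theorem card_a6 : Nat.card A6 = 360 := by
  have h : 2 * Nat.card A6 = Nat.card (Perm (Fin 6)) := two_mul_nat_card_alternatingGroup (α := Fin 6)
  rw [Nat.card_perm, Nat.card_fin] at h
  have h6 : Nat.factorial 6 = 720 := rfl
  omega

private theorem y5' : ∀ g : Perm (Fin 6), sign g = 1 → g * (swap (0 : Fin 6) 1 * swap (1 : Fin 6) 2 * (swap (2 : Fin 6) 3 * swap (3 : Fin 6) 4)) * g⁻¹ ≠
    swap (0 : Fin 6) 1 * swap (1 : Fin 6) 2 * (swap (2 : Fin 6) 3 * swap (3 : Fin 6) 4) * (swap (0 : Fin 6) 1 * swap (1 : Fin 6) 2 * (swap (2 : Fin 6) 3 * swap (3 : Fin 6) 4)) := by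
  intro g
  have hc : IsC (cd g) := ⟨g, rfl⟩
  simp only [ne_eq, mul_inv_eq_iff_eq_mul, sg_pos, sg_neg, cd_eq, cd_mul]
  generalize cd g = c at hc ⊢
  revert c
  exact all6 _ (by ((try (rewrite [Cfsg.Agent.LsF.f129600_3.2, Cfsg.Agent.LsF.f129600_4.2, Cfsg.Agent.LsF.instDecEq_eq, Cfsg.Agent.LsF.dNot_eq, Cfsg.Agent.LsF.dFinEq_eq, Cfsg.Agent.LsF.dBoolEq_eq, Cfsg.Agent.LsF.decide_eq])); decide +kernel))

private theorem y3' : ∀ g : Perm (Fin 6), g * (swap (0 : Fin 6) 1 * swap (1 : Fin 6) 2) * g⁻¹ ≠ swap (0 : Fin 6) 1 * swap (1 : Fin 6) 2 * (swap (3 : Fin 6) 4 * swap (4 : Fin 6) 5) := by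
  intro g
  have hc : IsC (cd g) := ⟨g, rfl⟩
  simp only [ne_eq, mul_inv_eq_iff_eq_mul, sg_pos, sg_neg, cd_eq, cd_mul]
  generalize cd g = c at hc ⊢
  revert c
  exact all6 _ (by ((try (rewrite [Cfsg.Agent.LsF.f129600_3.2, Cfsg.Agent.LsF.instDecEq_eq, Cfsg.Agent.LsF.dNot_eq, Cfsg.Agent.LsF.dFinEq_eq, Cfsg.Agent.LsF.decide_eq])); decide +kernel))

theorem y5_six : ∃ x y : A6, orderOf x = 5 ∧ orderOf y = 5 ∧ ∀ g : A6, g * x * g⁻¹ ≠ y := by
  have : Fact (Nat.Prime 5) := ⟨by norm_num⟩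
  refine ⟨⟨swap (0 : Fin 6) 1 * swap (1 : Fin 6) 2 * (swap (2 : Fin 6) 3 * swap (3 : Fin 6) 4), by rw [Perm.mem_alternatingGroup]; decide⟩,
    ⟨swap (0 : Fin 6) 1 * swap (1 : Fin 6) 2 * (swap (2 : Fin 6) 3 * swap (3 : Fin 6) 4) * (swap (0 : Fin 6) 1 * swap (1 : Fin 6) 2 * (swap (2 : Fin 6) 3 * swap (3 : Fin 6) 4)), by
      rw [Perm.mem_alternatingGroup]; decide⟩, orderOf_eq_prime ?_ ?_, orderOf_eq_prime ?_ ?_, ?_⟩
  · apply Subtype.ext; decide +kernel
  · intro h; revert h; decide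
  · apply Subtype.ext; decide +kernel
  · intro h; revert h; decide
  · exact fun g h => y5' g (Perm.mem_alternatingGroup.1 g.2) (congrArg Subtype.val h)

theorem y3_six : ∃ x y : A6, orderOf x = 3 ∧ orderOf y = 3 ∧ ∀ g : A6, g * x * g⁻¹ ≠ y := by
  have : Fact (Nat.Prime 3) := ⟨Nat.prime_three⟩
  refine ⟨⟨swap (0 : Fin 6) 1 * swap (1 : Fin 6) 2, by rw [Perm.mem_alternatingGroup]; decide⟩,
    ⟨swap (0 : Fin 6) 1 * swap (1 : Fin 6) 2 * (swap (3 : Fin 6) 4 * swap (4 : Fin 6) 5), by rw [Perm.mem_alternatingGroup]; decide⟩,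
    orderOf_eq_prime ?_ ?_, orderOf_eq_prime ?_ ?_, ?_⟩
  · apply Subtype.ext; decide +kernel
  · intro h; revert h; decide
  · apply Subtype.ext; decide +kernel
  · intro h; revert h; decide
  · exact fun g h => y3' g (congrArg Subtype.val h)

theorem no_four_a5 : ∀ x : alternatingGroup (Fin 5), x * x * (x * x) = 1 → x * x = 1 := by (refine of_decide_eq_true ?_; (try (rewrite [Cfsg.Agent.LsF.finFintype_eq, Cfsg.Agent.LsF.dForall_eq, Cfsg.Agent.LsF.dFinEq_eq, Cfsg.Agent.LsF.decide_eq])); decide +kernel)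

end Cfsg.Agent.H853.Der
end

-- part: H853/Der/ASixC
section
/-!
# `A₆` (S3502): `Cos`, subgroups of order eight and twelve, and the row
-/

set_option autoImplicit false

namespace Cfsg.Agent.H853.Der

open Subgroup Equiv Equiv.Perm Cfsg.Agent.H938.Sax Cfsg.Agent.H439.Der

open Cfsg.Agent.LFourA.AltPsiAut

theorem conj_inj {a b : A6} (h : (MulAut.conj a : MulAut A6) = MulAut.conj b) : a = b := by
  rw [← MulAut.conjNormal_val, ← MulAut.conjNormal_val] at h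
  exact Subtype.ext (inj_six h)

theorem cos_a6 : Cos A6 := by
  intro φ hφ
  -- it is enough to find two elements of the coset with different orders
  have key : ∀ t u : A6, ∀ k : ℕ, (MulAut.conj t * φ) ^ k = 1 → (MulAut.conj u * φ) ^ k ≠ 1 →
      ∃ t : A6, orderOf (MulAut.conj t * φ) ≠ orderOf φ := by
    intro t u k h1 h2
    by_contra hcon
    push Not at hcon
    apply h2
    rw [← orderOf_dvd_iff_pow_eq_one] at h1 ⊢
    rw [hcon u, ← hcon t]
    exact h1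
  have hmul : ∀ (a : A6) (y : MulAut A6), (MulAut.conj a * y) * (MulAut.conj a * y) =
      MulAut.conj (a * y a) * (y * y) := by
    intro a y
    ext x : 1
    simp only [MulAut.mul_apply, MulAut.conj_apply, map_mul, map_inv, _root_.mul_inv_rev, mul_assoc]
  obtain ⟨g, hg⟩ := conj_c4 (x := φ c4) (by rw [MulEquiv.orderOf_eq, order_c4])
  obtain ⟨y, hy⟩ : ∃ y : MulAut A6, y = MulAut.conj g * φ := ⟨_, rfl⟩
  have hyc : y c4 = c4 := by rw [hy]; exact hg
  have hcos : ∀ a : A6, MulAut.conj (a * g) * φ = MulAut.conj a * y := by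
    intro a
    rw [hy, map_mul, mul_assoc]
  have hcc : (c4 * c4)⁻¹ = c4 * c4 := inv_eq_of_mul_eq_one_left c4_four
  obtain ⟨u, hu⟩ := sq_a6 y
  have huc : u * c4 = c4 * u := by
    have h1 : (y * y) c4 = c4 := by rw [MulAut.mul_apply, hyc, hyc]
    rw [hu, MulAut.conj_apply] at h1
    exact mul_inv_eq_iff_eq_mul.1 h1
  have hne : (MulAut.conj (c4 * c4) : MulAut A6) ≠ 1 := by
    intro h
    rw [← map_one MulAut.conj] at h
    exact c4_sq (conj_inj h)
  have case3 : u * u = c4 * c4 → ∃ t : A6, orderOf (MulAut.conj t * φ) ≠ orderOf φ := by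
    intro huu
    obtain ⟨d, hd⟩ := c4_real
    obtain ⟨z, hz⟩ : ∃ z : MulAut A6, z = MulAut.conj d * y := ⟨_, rfl⟩
    have hzc : z c4 = c4⁻¹ := by rw [hz, MulAut.mul_apply, hyc, MulAut.conj_apply, hd]
    obtain ⟨v, hv⟩ := sq_a6 z
    have hvc : v * c4 = c4 * v := by
      have h1 : (z * z) c4 = c4 := by rw [MulAut.mul_apply, hzc, map_inv, hzc, inv_inv]
      rw [hv, MulAut.conj_apply] at h1
      exact mul_inv_eq_iff_eq_mul.1 h1
    have hzv : z v = v := by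
      apply conj_inj
      have h1 : MulAut.conj (z v) = z * MulAut.conj v * z⁻¹ := by
        ext x : 1
        simp [MulAut.mul_apply]
      rw [h1, ← hv]
      group
    have hvv : v * v = 1 := by
      have h5 : c4⁻¹ ≠ c4 := fun h => c4_sq (by
        have := congrArg (c4 * ·) h
        rw [mul_inv_cancel] at this
        exact this.symm)
      rcases cent_c4 hvc with h | h | h | h
      · rw [h, mul_one]
      · rw [h, hzc] at hzv
        exact absurd hzv h5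
      · rw [h]; exact c4_four
      · rw [h, map_inv, hzc, inv_inv] at hzv
        exact absurd hzv.symm h5
    refine key (d * g) g 4 ?_ ?_
    · rw [hcos, ← hz, show 4 = 2 + 2 by norm_num, pow_add, pow_two, hv, ← map_mul, hvv, map_one]
    · rw [← hy, show 4 = 2 + 2 by norm_num, pow_add, pow_two, hu, ← map_mul, huu]
      exact hne
  rcases cent_c4 huc with h | h | h | h
  · rw [h, map_one] at hu
    refine key g (c4 * g) 2 ?_ ?_
    · rw [← hy, pow_two, hu]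
    · rw [hcos, pow_two, hmul, hu, mul_one, hyc]
      exact hne
  · exact case3 (by rw [h])
  · rw [h] at hu
    refine key (c4⁻¹ * g) g 2 ?_ ?_
    · rw [hcos, pow_two, hmul, hu, map_inv, hyc, ← map_mul, ← _root_.mul_inv_rev, inv_mul_cancel, map_one]
    · rw [← hy, pow_two, hu]
      exact hne
  · exact case3 (by rw [h, ← _root_.mul_inv_rev, hcc])

/-- no element of order six -/
theorem no_order_six {x : A6} (hx : orderOf x = 6) : False := by
  have h6 := pow_orderOf_eq_one x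
  rw [hx] at h6
  have h7 : x ^ 6 = x * x * x * (x * x * x) := by
    simp only [pow_succ, pow_zero, one_mul, mul_assoc]
  rw [h7] at h6
  have h := no_six_order x (Perm.mem_alternatingGroup.1 x.2) (congrArg Subtype.val h6)
  rcases h with h | h
  · have h1 : x ^ 2 = 1 := Subtype.ext (by rw [pow_two]; exact h)
    have := orderOf_dvd_of_pow_eq_one h1
    rw [hx] at this
    omega
  · have h1 : x ^ 3 = 1 := Subtype.ext (by rw [pow_succ, pow_two]; exact h)
    have := orderOf_dvd_of_pow_eq_one h1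
    rw [hx] at this
    omega

/-- a group of order twelve with an element of order four has an element of order six -/
theorem exists_six {G : Type*} [Group G] [Finite G] (hG : Nat.card G = 12) {x : G} (hx : orderOf x = 4) :
    ∃ y : G, orderOf y = 6 := by
  have h2 : Fact (Nat.Prime 2) := ⟨Nat.prime_two⟩
  have h3 : Fact (Nat.Prime 3) := ⟨Nat.prime_three⟩
  obtain ⟨K, hK⟩ : ∃ K : Subgroup G, K = (zpowers x).normalCore := ⟨_, rfl⟩
  have hKn : K.Normal := by rw [hK]; exact Subgroup.normalCore_normal _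
  have hKle : K ≤ zpowers x := by rw [hK]; exact Subgroup.normalCore_le _
  have hcK := K.card_mul_index
  have hidx : (zpowers x).index = 3 := by
    have h := (zpowers x).card_mul_index
    rw [Nat.card_zpowers, hx, hG] at h
    omega
  have hKi : K.index ∣ 6 := by
    rw [hK, Subgroup.normalCore_eq_ker, Subgroup.index_ker]
    have h1 := Subgroup.card_subgroup_dvd_card (MulAction.toPermHom G (G ⧸ zpowers x)).range
    have h4 : Nat.card (Perm (G ⧸ zpowers x)) = 6 := by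
      rw [Nat.card_perm]
      have h5 : Nat.card (G ⧸ zpowers x) = 3 := hidx
      rw [h5]
      rfl
    rwa [h4] at h1
  have hK2 : 2 ∣ Nat.card K := by
    rw [hG] at hcK
    obtain ⟨j, hj⟩ := hKi
    have h1 : Nat.card K = 2 * j := by
      have h2 : Nat.card K * K.index = (2 * j) * K.index := by rw [hcK]; linarith
      exact Nat.eq_of_mul_eq_mul_right (Nat.pos_of_ne_zero fun h => by rw [h] at hcK; omega) h2
    exact ⟨j, h1⟩
  obtain ⟨z0, hz0⟩ := exists_prime_orderOf_dvd_card' (G := K) 2 hK2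
  -- the elements of order two of `⟨x⟩`
  have huniq : ∀ z ∈ zpowers x, orderOf z = 2 → z = x ^ 2 := by
    intro z hz hz2
    obtain ⟨i, rfl⟩ := mem_zpowers_iff.1 hz
    have h1 : (x ^ i) ^ 2 = 1 := by rw [← hz2]; exact pow_orderOf_eq_one _
    have h4 : (4 : ℤ) ∣ i * 2 := by
      rw [← zpow_natCast, ← zpow_mul] at h1
      have := orderOf_dvd_iff_zpow_eq_one.2 h1
      rw [hx] at this
      exact_mod_cast this
    have h5 : ¬ (4 : ℤ) ∣ i := by
      intro h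
      have h6 : x ^ i = 1 := by
        apply orderOf_dvd_iff_zpow_eq_one.1
        rw [hx]
        exact_mod_cast h
      rw [h6, orderOf_one] at hz2
      omega
    obtain ⟨j, hj⟩ : ∃ j : ℤ, i = 2 + 4 * j := ⟨(i - 2) / 4, by omega⟩
    rw [hj, zpow_add, zpow_mul]
    have h7 : x ^ (4 : ℤ) = 1 := by
      have := pow_orderOf_eq_one x
      rw [hx] at this
      exact_mod_cast this
    rw [h7, one_zpow, mul_one]
    norm_cast
  have hzK : (z0 : G) ∈ K := z0.2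
  have hz2 : orderOf (z0 : G) = 2 := by rw [Subgroup.orderOf_coe, hz0]
  have hzx : (z0 : G) = x ^ 2 := huniq _ (hKle hzK) hz2
  obtain ⟨y, hy⟩ := exists_prime_orderOf_dvd_card' (G := G) 3 (by rw [hG]; norm_num)
  have hyz : y * z0 * y⁻¹ = z0 := by
    have h1 : y * z0 * y⁻¹ ∈ K := hKn.conj_mem _ hzK y
    have h4 : orderOf (y * (z0 : G) * y⁻¹) = 2 := by
      rw [← hz2]; exact orderOf_mulEquiv (MulAut.conj y) _
    rw [huniq _ (hKle h1) h4, hzx]
  have hc : Commute (y : G) z0 := by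
    rw [mul_inv_eq_iff_eq_mul] at hyz
    exact hyz
  refine ⟨y * z0, ?_⟩
  rw [hc.orderOf_mul_eq_mul_orderOf_of_coprime (by rw [hy, hz2]; norm_num), hy, hz2]

theorem no_four_twelve {R : Subgroup A6} (hR : Nat.card R = 12) : ∀ m ∈ R, orderOf m ≠ 4 := by
  intro m hm h4
  obtain ⟨y, hy⟩ := exists_six hR (x := (⟨m, hm⟩ : R)) (by rw [Subgroup.orderOf_mk, h4])
  exact no_order_six (x := (y : A6)) (by rw [Subgroup.orderOf_coe, hy])

theorem outBad_D8 {φ : MulAut A6} (hφ : ∀ t : A6, φ ≠ MulAut.conj t) (hV : D8.map φ.toMonoidHom = D8)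
    (hNE : φ ∈ NE) : ∃ r ∈ D8, ∃ t : A6, t ∉ D8 ∧ t⁻¹ * (r * φ t * r⁻¹) ∈ D8 := by
  obtain ⟨σ, rfl⟩ := exists_conjNormal hNE
  have hσ := sign_eq_neg hφ
  have key : ∀ v : Perm (Fin 6), v ∈ L8 → σ * v * σ⁻¹ ∈ L8 := by
    intro v hv
    have h1 : (⟨v, Perm.mem_alternatingGroup.2 (L8_even v hv)⟩ : A6) ∈ D8 := hv
    have h2 : (MulAut.conjNormal σ : MulAut A6) ⟨v, Perm.mem_alternatingGroup.2 (L8_even v hv)⟩ ∈ D8 := by
      rw [← hV]
      exact ⟨_, h1, rfl⟩
    rw [mem_D8, MulAut.conjNormal_apply] at h2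
    exact h2
  obtain ⟨r, hr, hrσ⟩ := key_six σ hσ (key _ (by decide +kernel)) (key _ (by decide +kernel))
  refine ⟨⟨r, Perm.mem_alternatingGroup.2 (L8_even r hr)⟩, hr, u3, by decide +kernel, ?_⟩
  rw [mem_D8]
  have h3 : (((u3⁻¹ * ((⟨r, Perm.mem_alternatingGroup.2 (L8_even r hr)⟩ : A6) *
      (MulAut.conjNormal σ : MulAut A6) u3 *
        (⟨r, Perm.mem_alternatingGroup.2 (L8_even r hr)⟩ : A6)⁻¹) : A6)) : Perm (Fin 6)) =
      (u3 : Perm (Fin 6))⁻¹ * (r * (σ * u3 * σ⁻¹) * r⁻¹) := by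
    rw [Subgroup.coe_mul, Subgroup.coe_mul, Subgroup.coe_mul, MulAut.conjNormal_apply]
    rfl
  rw [h3]
  have h4 : (u3 : Perm (Fin 6))⁻¹ * (r * (σ * u3 * σ⁻¹) * r⁻¹) =
      (u3 : Perm (Fin 6))⁻¹ * ((r * σ) * u3 * (r * σ)⁻¹) := by group
  rw [h4, hrσ]
  decide +kernel

/-- an automorphism leaving a subgroup of order 24 invariant is not exotic -/
theorem mem_NE_of_24 {φ : MulAut A6} {N : Subgroup A6} (hN : Nat.card N = 24)
    (hφ : N.map φ.toMonoidHom = N) : φ ∈ NE := by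
  have h3 : Fact (Nat.Prime 3) := ⟨Nat.prime_three⟩
  obtain ⟨x, hx⟩ := exists_prime_orderOf_dvd_card' (G := N) 3 (by rw [hN]; norm_num)
  have hφx : φ x ∈ N := by
    have : φ.toMonoidHom x ∈ N.map φ.toMonoidHom := ⟨_, x.2, rfl⟩
    rwa [hφ] at this
  have hxo : orderOf (x : A6) = 3 := by rw [Subgroup.orderOf_coe, hx]
  obtain ⟨y, hy⟩ : ∃ y : N, y = ⟨φ x, hφx⟩ := ⟨_, rfl⟩
  have hyo : orderOf y = 3 := by rw [hy, Subgroup.orderOf_mk, MulEquiv.orderOf_eq, hxo]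
  have hz : ∀ z : N, orderOf z = 3 → IsPGroup 3 (zpowers z) ∧ ¬ 3 ∣ (zpowers z).index := by
    intro z hz
    refine ⟨IsPGroup.of_card (n := 1) (by rw [Nat.card_zpowers, hz, pow_one]), ?_⟩
    have h := (zpowers z).card_mul_index
    rw [Nat.card_zpowers, hz, hN] at h
    omega
  obtain ⟨g, hg⟩ := exists_conj_of_pgroup 3 (hz x hx).1 (hz y hyo).1 (hz x hx).2 (hz y hyo).2
  have h1 : g * y * g⁻¹ ∈ zpowers x := by
    have : y ∈ (zpowers x).comap (MulAut.conj g).toMonoidHom := by rw [hg]; exact mem_zpowers y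
    exact this
  obtain ⟨i, hi⟩ := mem_zpowers_iff.1 h1
  -- the cycle types agree
  have htype : (φ x : A6).1.cycleType = (x : A6).1.cycleType := by
    have h2 : ((g * y * g⁻¹ : N) : A6) = (x : A6) ^ i := by rw [← hi]; rfl
    have h4 : ((g : A6) : Perm (Fin 6)) * ((φ x : A6) : Perm (Fin 6)) * ((g : A6) : Perm (Fin 6))⁻¹ =
        ((x : A6) : Perm (Fin 6)) ^ i := by
      have h5 := congrArg (fun t : A6 => (t : Perm (Fin 6))) h2
      rw [hy] at h5
      exact h5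
    have h6 : (((x : A6) : Perm (Fin 6)) ^ i).cycleType = (φ x : A6).1.cycleType := by
      rw [← h4, cycleType_conj]
    rw [← h6]
    have hx3 : ((x : A6) : Perm (Fin 6)) ^ (3 : ℤ) = 1 := by
      have h7 := pow_orderOf_eq_one (x : A6)
      rw [hxo] at h7
      have h8 := congrArg (fun t : A6 => (t : Perm (Fin 6))) h7
      exact_mod_cast h8
    have hcases : ∃ j : ℤ, i = 3 * j ∨ i = 3 * j + 1 ∨ i = 3 * j + (-1) := by
      rcases (by omega : i % 3 = 0 ∨ i % 3 = 1 ∨ i % 3 = 2) with h | h | h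
      · exact ⟨i / 3, Or.inl (by omega)⟩
      · exact ⟨i / 3, Or.inr (Or.inl (by omega))⟩
      · exact ⟨i / 3 + 1, Or.inr (Or.inr (by omega))⟩
    obtain ⟨j, h | h | h⟩ := hcases
    · exfalso
      rw [h, zpow_mul, hx3, one_zpow] at h4
      have h9 : ((φ x : A6) : Perm (Fin 6)) = 1 := by
        rw [mul_inv_eq_one, mul_eq_left] at h4
        exact h4
      have h10 : orderOf (φ x : A6) = 1 := by rw [← Subgroup.orderOf_coe, h9, orderOf_one]
      rw [MulEquiv.orderOf_eq, hxo] at h10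
      omega
    · rw [h, zpow_add, zpow_mul, hx3, one_zpow, one_mul, zpow_one]
    · rw [h, zpow_add, zpow_mul, hx3, one_zpow, one_mul, zpow_neg_one, cycleType_inv]
  by_contra hne
  rcases three_or hxo with h | h
  · have h2 := type_of_not_mem hne h
    rw [htype, h] at h2
    revert h2; decide
  · have h2 := three_of_not_mem hne h
    rw [IsThreeCycle, htype, h] at h2
    revert h2; decide

theorem outBad_eight {R : Subgroup A6} (hR : Nat.card R = 8) : OutBadN A6 R := by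
  have h2 : Fact (Nat.Prime 2) := ⟨Nat.prime_two⟩
  have hi : ∀ S : Subgroup A6, Nat.card S = 8 → ¬ 2 ∣ S.index := by
    intro S hS
    have h := S.card_mul_index
    rw [hS, card_a6] at h
    omega
  obtain ⟨g, hg⟩ := exists_conj_of_pgroup 2 (IsPGroup.of_card (n := 3) (by rw [hR]; norm_num))
    (IsPGroup.of_card (n := 3) (by rw [card_D8]; norm_num)) (hi R hR) (hi D8 card_D8)
  refine OutBadN.congr (MulAut.conj g) ?_
  rw [hg]
  intro φ hφ hV hN
  refine outBad_D8 hφ hV ?_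
  obtain ⟨N, hN1, hN2, hN3⟩ := hN
  obtain ⟨hd, hlt⟩ := card_lt_of_lt hN1
  rw [card_D8] at hd hlt
  refine mem_NE_of_24 (N := N) ?_ hN3
  rcases sub_a6 hN2.ne with h | h | h | h | ⟨h, _⟩
  · exact absurd (Nat.le_of_dvd (by norm_num) h) (not_le.2 hlt)
  · have := hd.trans h; omega
  · have := hd.trans h; omega
  · exact h
  · rw [h] at hd; omega

/-- the cyclic and other subgroups: two classes of elements of order `b`, one of order `a` missing, even index -/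
theorem fin3_of {R : Subgroup A6} {a b : ℕ} {x y z : A6} (hx : orderOf x = a) (hy : orderOf y = b)
    (hz : orderOf z = b) (hyz : ∀ g : A6, g * y * g⁻¹ ≠ z) (hab : a ≠ b) (ha : ∀ m ∈ R, orderOf m ≠ a)
    (hb : ¬ b ∣ Nat.card R) (hi : 2 ∣ R.index) : Fin3 A6 R :=
  Or.inr ⟨threeT_of' hx hy hz hab hyz ha hb, Two.of_orders hab hx hy ha (no_order hb),
    Or.inl (noOne_of_even sq_a6 hi)⟩

theorem rowW_a6 : RowW A6 := by
  obtain ⟨x3, y3, h3, h3', hn3⟩ := y3_six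
  obtain ⟨x5, y5, h5, h5', hn5⟩ := y5_six
  refine ⟨Or.inr ⟨cos_a6, fun M hM => ?_⟩, fun R hR hR' => ?_⟩
  · -- maximal subgroups
    rcases sub_a6 hM.1 with h | h | h | h | ⟨h, ⟨e⟩⟩
    · exact miss_of h5 fun h1 => by have := h1.trans h; omega
    · exact miss_of h3 fun h1 => by have := h1.trans h; omega
    · exact miss_of h5 fun h1 => by have := h1.trans h; omega
    · exact miss_of h5 (by rw [h]; norm_num)
    · refine OrdGap.miss ⟨c4, fun m hm h4 => ?_⟩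
      rw [order_c4] at h4
      have h6 : orderOf (e ⟨m, hm⟩) = 4 := by rw [MulEquiv.orderOf_eq, Subgroup.orderOf_mk, h4]
      have h7 := pow_orderOf_eq_one (e ⟨m, hm⟩)
      rw [h6] at h7
      have h8 : (e ⟨m, hm⟩) ^ 4 = e ⟨m, hm⟩ * e ⟨m, hm⟩ * (e ⟨m, hm⟩ * e ⟨m, hm⟩) := by
        simp only [pow_succ, pow_zero, one_mul, mul_assoc]
      rw [h8] at h7
      have h9 := no_four_a5 _ h7
      rw [← pow_two] at h9
      have h10 := orderOf_dvd_of_pow_eq_one h9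
      rw [h6] at h10
      omega
  · have hidx := R.card_mul_index
    rw [card_a6] at hidx
    have hpos : 0 < Nat.card R := Nat.card_pos
    have h36 : Nat.card R ≠ 36 ∧ Nat.card R ≠ 24 ∧ Nat.card R ≠ 60 := by
      by_contra hcon
      have hc2 : Nat.card R = 36 ∨ Nat.card R = 24 ∨ Nat.card R = 60 := by tauto
      apply hR'
      refine isCoatom_of hR fun N hN hN' => ?_
      obtain ⟨hd, hlt⟩ := card_lt_of_lt hN
      obtain ⟨j, hj⟩ := hd
      have hN2 : Nat.card N ∣ 8 ∨ Nat.card N ∣ 10 ∨ Nat.card N ∣ 36 ∨ Nat.card N = 24 ∨ Nat.card N = 60 := by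
        rcases sub_a6 hN' with h | h | h | h | ⟨h, _⟩ <;> simp only [h, true_or, or_true]
      rcases hc2 with h6 | h6 | h6 <;> rw [h6] at hj hlt <;> rcases hN2 with h | h | h | h | h
      all_goals first
        | exact absurd (Nat.le_of_dvd (by norm_num) h) (by omega)
        | omega
    have hc : Nat.card R ∣ 8 ∨ Nat.card R ∣ 10 ∨ (Nat.card R ∣ 36 ∧ Nat.card R ≠ 4) := by
      rcases sub_a6 hR with h | h | h | h | ⟨h, _⟩
      · exact Or.inl h
      · exact Or.inr (Or.inl h)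
      · by_cases h4 : Nat.card R = 4
        · exact Or.inl (by rw [h4]; norm_num)
        · exact Or.inr (Or.inr ⟨h, h4⟩)
      · exact absurd h h36.2.1
      · exact absurd h h36.2.2
    rcases hc with h | h | ⟨h, h4⟩
    · -- a 2-group
      by_cases h8 : Nat.card R = 8
      · exact Or.inr ⟨threeT_of h3 h5 h5' (by norm_num) hn5 (by rw [h8]; norm_num) (by rw [h8]; norm_num),
          two_of h3 h5 (by norm_num) (by rw [h8]; norm_num) (by rw [h8]; norm_num), Or.inr (outBad_eight h8)⟩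
      · have h4 : Nat.card R ∣ 4 := by
          have := Nat.le_of_dvd (by norm_num) h
          interval_cases hk : Nat.card R <;> omega
        refine fin3_of h3 h5 h5' hn5 (by norm_num) (no_order fun h1 => by have := h1.trans h; omega)
          (fun h1 => by have := h1.trans h; omega) ?_
        obtain ⟨j, hj⟩ := h4
        have h9 : Nat.card R * R.index = Nat.card R * (90 * j) := by rw [hidx]; linarith
        rw [Nat.eq_of_mul_eq_mul_left hpos h9]
        omega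
    · refine fin3_of order_c4 h3 h3' hn3 (by norm_num) (no_order fun h1 => by have := h1.trans h; omega)
        (fun h1 => by have := h1.trans h; omega) ?_
      obtain ⟨j, hj⟩ := h
      have h9 : Nat.card R * R.index = Nat.card R * (36 * j) := by rw [hidx]; linarith
      rw [Nat.eq_of_mul_eq_mul_left hpos h9]
      omega
    · refine fin3_of order_c4 h5 h5' hn5 (by norm_num) ?_ (fun h1 => by have := h1.trans h; omega) ?_
      · by_cases h12 : Nat.card R = 12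
        · exact no_four_twelve h12
        · apply no_order
          intro h1
          have := Nat.le_of_dvd (by norm_num) h
          interval_cases hk : Nat.card R <;> omega
      · obtain ⟨j, hj⟩ := h
        have h9 : Nat.card R * R.index = Nat.card R * (10 * j) := by rw [hidx]; linarith
        rw [Nat.eq_of_mul_eq_mul_left hpos h9]
        omega

end Cfsg.Agent.H853.Der
end

-- part: H372/DerU/Fuse
section
/-!
# S3502, the rows `PSU n F q`: at most two `Aut`-classes of `v`-singular elements in a large torus (helper372)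

* `pow_eq_of_ev` : `y` an eigenvalue of `Y ∈ SU n F q` of order divisible by a prime `v`, `-q` of order `≥ n - 1` modulo `v`:
  if `y ^ m = ζ` with `ζ ^ n = ζ ^ (q + 1) = 1` then `Y ^ m = ζ`.
* `scc_bound` : `SCC (PSU n F q) v` and `v ∣ orderOf x`: `orderOf x ≤ 2 * (|Aut F| * n) + orderOf x / v`.
-/

set_option autoImplicit false
set_option linter.unusedSectionVars false

namespace Cfsg.Agent.H372.DerU

open Cfsg Matrix Polynomial
open Cfsg.Agent.H439.Der
open Cfsg.Agent.LieClassical.HermBasic Cfsg.Agent.LieClassical.HermSiegel Cfsg.Agent.LieClassical.SUBasic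
open Cfsg.Agent.ClassicalGeometry.PSUAutBasic
open Cfsg.Agent.H272.NFU Cfsg.Agent.H403 Cfsg.Agent.H403.NumTop

variable {F : Type} [Field F] [Fintype F] {n q : ℕ}

section ev

variable {E : Type} [Field E] [IsAlgClosed E] [Algebra F E]

theorem prod_evs (Y : SU n F q) : (evs E (mt Y)).prod = 1 := by
  rw [evs_eq_roots, ← Matrix.det_eq_prod_roots_charpoly, mE, ← RingHom.map_det, det_mt, map_one]

/-- the norm one scalars are fixed by `y ↦ y ^ (-q)` -/
theorem zeta_fix {z : E} (h : z ^ (q + 1) = 1) : z ^ (xv false q) = z := by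
  have h0 : z ≠ 0 := by
    rintro rfl
    rw [zero_pow (Nat.succ_ne_zero q)] at h
    exact zero_ne_one h
  have h1 : xv false q = 1 - ((q + 1 : ℕ) : ℤ) := by simp [xv]
  rw [h1, zpow_sub₀ h0, zpow_one, zpow_natCast, h, div_one]

theorem zeta_fix_pow {z : E} (h : z ^ (q + 1) = 1) (j : ℕ) : z ^ (xv false q ^ j) = z := by
  induction j with
  | zero => simp
  | succ j ih => rw [pow_succ, _root_.zpow_mul, ih, zeta_fix h]

/-- the eigenvalues of an element of large order -/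
theorem evs_struct (hF : Fintype.card F = q ^ 2) {v e : ℕ} (hv : v.Prime)
    (he : orderOf ((xv false q : ℤ) : ZMod v) = e) (he2 : 2 ≤ e) (hne : n ≤ e + 1) {Y : SU n F q} {y : E}
    (hy : y ∈ evs E (mt Y)) (hvy : v ∣ orderOf y) :
    (evs E (mt Y)).Nodup ∧ ∀ m : ℕ, ∀ z : E, z ^ n = 1 → z ^ (q + 1) = 1 → y ^ m = z → ∀ w ∈ evs E (mt Y), w ^ m = z := by
  have hM : Cl (xv false q) (evs E (mt Y)) := cl_mt hF Y
  have hy0 := hM.ne_zero hy
  have hcard := card_evs_mt (E := E) Y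
  -- the period of `y`
  have hper : per (xv false q) y = e := by
    rcases Nat.eq_zero_or_pos (orderOf y) with h0 | h0
    · exfalso
      have h1 := hM.per_pos hy
      have h2 := pow_per (xv false q) y
      have h3 : (Units.mk0 y hy0) ^ (xv false q ^ per (xv false q) y - 1) = 1 := by
        apply Units.ext
        rw [Units.val_zpow_eq_zpow_val, Units.val_mk0, zpow_sub₀ hy0, h2, zpow_one, div_self hy0, Units.val_one]
      have h4 := orderOf_dvd_iff_zpow_eq_one.2 h3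
      rw [← orderOf_units, Units.val_mk0, h0, Nat.cast_zero, zero_dvd_iff] at h4
      have h5 : xv false q ^ per (xv false q) y = 1 := by omega
      have h6 : Int.natAbs (xv false q) ^ per (xv false q) y = 1 := by rw [← Int.natAbs_pow, h5]; rfl
      have h7 : Int.natAbs (xv false q) = q := by simp [xv]
      rw [h7] at h6
      have h8 := Nat.one_lt_pow h1.ne' (two_le hF)
      omega
    · refine per_eq hM hy hv (A := orderOf y / v) he ?_ ?_ (by rw [hcard]; omega)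
      · rw [← pow_mul, Nat.div_mul_cancel hvy, pow_orderOf_eq_one]
      · intro h
        have h1 := orderOf_dvd_of_pow_eq_one h
        have h2 := Nat.le_of_dvd (Nat.div_pos (Nat.le_of_dvd h0 hvy) hv.pos) h1
        have h3 := Nat.div_lt_self h0 hv.one_lt
        omega
  have hle : e ≤ n := by
    rw [← hcard, ← hper, ← card_orb]
    exact Multiset.card_le_card (hM.orb_le hy)
  have horb : ∀ m : ℕ, ∀ z : E, z ^ (q + 1) = 1 → y ^ m = z → ∀ w ∈ orb (xv false q) y, w ^ m = z := by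
    intro m z hz hm w hw
    obtain ⟨j, -, rfl⟩ := Multiset.mem_map.1 hw
    rw [zpow_pow_comm, hm, zeta_fix_pow hz]
  rcases Nat.lt_or_ge e n with hlt | hge
  · obtain ⟨μ, hμ, hμx⟩ := eq_cons_orb hM hy (by rw [hcard, hper]; omega)
    have hnot : μ ∉ orb (xv false q) y := by
      intro hmem
      obtain ⟨j, -, hj⟩ := Multiset.mem_map.1 hmem
      have h1 : y ^ (xv false q) = y := by
        have hinj : Function.Injective fun u : E => u ^ (xv false q ^ j) := by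
          have h2 := hM.inj.iterate j
          intro a b hab
          apply h2
          rw [iterate_zpow, iterate_zpow]
          exact hab
        apply hinj
        show (y ^ (xv false q)) ^ (xv false q ^ j) = y ^ (xv false q ^ j)
        rw [zpow_zpow_comm]
        show (y ^ (xv false q ^ j)) ^ (xv false q) = _
        have hj' : y ^ (xv false q ^ j) = μ := hj
        rw [hj', hμx]
      have h2 : per (xv false q) y ≤ 1 := by
        refine Nat.le_of_dvd one_pos ?_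
        unfold per
        exact (Function.isPeriodicPt_iff_minimalPeriod_dvd).1 (show Function.IsPeriodicPt _ 1 y from h1)
      omega
    refine ⟨?_, fun m z hzn hz hm w hw => ?_⟩
    · rw [hμ, Multiset.nodup_cons]
      exact ⟨hnot, orb_nodup _ _⟩
    · rw [hμ, Multiset.mem_cons] at hw
      rcases hw with rfl | hw
      · have h1 := prod_evs (E := E) Y
        rw [hμ, Multiset.prod_cons] at h1
        have h2 : ((orb (xv false q) y).map fun u => u ^ m).prod = z ^ e := by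
          have h3 : (orb (xv false q) y).map (fun u => u ^ m) = Multiset.replicate e z := by
            rw [Multiset.eq_replicate]
            refine ⟨by rw [Multiset.card_map, card_orb, hper], fun b hb => ?_⟩
            obtain ⟨u, hu, rfl⟩ := Multiset.mem_map.1 hb
            exact horb m z hz hm u hu
          rw [h3, Multiset.prod_replicate]
        rw [Multiset.prod_map_pow, Multiset.map_id'] at h2
        have h3 : w ^ m * z ^ e = 1 := by
          rw [← h2, ← mul_pow, h1, one_pow]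
        have h4 : z * z ^ e = 1 := by
          rw [← pow_succ']
          have : n = e + 1 := by omega
          rw [← this, hzn]
        have h5 : z ^ e ≠ 0 := by
          intro h
          rw [h, mul_zero] at h4
          exact zero_ne_one h4
        exact mul_right_cancel₀ h5 (h3.trans h4.symm)
      · exact horb m z hz hm w hw
  · have hR := eq_orb hM hy (by rw [hcard, hper]; omega)
    refine ⟨by rw [hR]; exact orb_nodup _ _, fun m z hzn hz hm w hw => ?_⟩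
    rw [hR] at hw
    exact horb m z hz hm w hw

/-- central powers -/
theorem pow_eq_of_ev (hF : Fintype.card F = q ^ 2) {v e : ℕ} (hv : v.Prime)
    (he : orderOf ((xv false q : ℤ) : ZMod v) = e) (he2 : 2 ≤ e) (hne : n ≤ e + 1) {Y : SU n F q} {y : E}
    (hy : y ∈ evs E (mt Y)) (hvy : v ∣ orderOf y) {m : ℕ} {ζ : F} (hζn : ζ ^ n = 1) (hζq : ζ ^ (q + 1) = 1)
    (hm : y ^ m = algebraMap F E ζ) : pr n F q Y ^ m = 1 := by
  rcases Nat.eq_zero_or_pos m with rfl | hm0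
  · rw [pow_zero]
  obtain ⟨hnd, hall⟩ := evs_struct hF hv he he2 hne hy hvy
  have h1 := pow_eq_smul_of_nodup E hm0 (c := ζ) hnd
    (hall m _ (by rw [← map_pow, hζn, map_one]) (by rw [← map_pow, hζq, map_one]) hm)
  rw [← mt_pow] at h1
  rw [← map_pow, pr_eq_one_iff, Subgroup.mem_center_iff]
  intro g
  apply mt_inj
  rw [mt_mul, mt_mul, h1, Matrix.smul_mul, Matrix.mul_smul, Matrix.one_mul, Matrix.mul_one]

end ev

/-- `v ∣ orderOf (x ^ k)` if `v ∤ k` -/
theorem dvd_orderOf_pow {G : Type*} [Group G] [Finite G] {v : ℕ} (hv : v.Prime) {x : G} (hx : v ∣ orderOf x) {k : ℕ}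
    (hk : ¬ v ∣ k) : v ∣ orderOf (x ^ k) := by
  have h1 : orderOf (x ^ k) * Nat.gcd (orderOf x) k = orderOf x := by
    rw [orderOf_pow, Nat.div_mul_cancel (Nat.gcd_dvd_left _ _)]
  rw [← h1] at hx
  exact (hv.dvd_mul.1 hx).resolve_right fun h => hk (h.trans (Nat.gcd_dvd_right _ _))

/-- **Fusion**: pairwise `Aut`-conjugate elements of `⟨x⟩`, `v ∣ orderOf x` -/
theorem card_fuse (hF : Fintype.card F = q ^ 2) (hn : 3 ≤ n) (h32 : ¬ (n = 3 ∧ q = 2)) {v e : ℕ} (hv : v.Prime)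
    (he : orderOf ((xv false q : ℤ) : ZMod v) = e) (he2 : 2 ≤ e) (hne : n ≤ e + 1) {x : PSU n F q}
    (hx : v ∣ orderOf x) (P : Finset ℕ) (hP : ∀ k ∈ P, k < orderOf x) (k0 : ℕ)
    (hk0 : ∀ k ∈ P, ∃ φ : PSU n F q ≃* PSU n F q, φ (x ^ k0) = x ^ k) :
    P.card ≤ Nat.card (F ≃+* F) * n := by
  classical
  have := Fact.mk hv
  obtain ⟨p, f, hp, hch, hk, hf0⟩ := exists_prime_pow hF
  have := Fact.mk hp
  have hvp : v ≠ p := by
    rintro rfl
    exact not_dvd_q hv he (by omega) (by rw [hk]; exact dvd_pow_self v hf0.ne')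
  let E := AlgebraicClosure F
  obtain ⟨Y, rfl⟩ := pr_surjective x
  obtain ⟨a, ha, hva⟩ := Cfsg.Agent.H559.UnitMult.exists_root (K := E) p Y hv hvp hx
  have haR : a ∈ evs E (mt Y) := by
    rw [mem_evs_iff]
    exact (Polynomial.mem_roots'.1 ha).2
  obtain ⟨u, hu, hua⟩ := exists_vec haR
  have hmat : ∀ Z : SU n F q, mat Z = mt Z := fun Z => rfl
  -- for each `k` the data of the automorphism
  have hdat : ∀ k ∈ P, ∃ (ρ : F ≃+* F) (c : F), c ≠ 0 ∧ c ^ n = 1 ∧ c ^ (q + 1) = 1 ∧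
      (algebraMap F E c)⁻¹ * a ^ k ∈ (((mat (Y ^ k0)).map ρ).charpoly.map (algebraMap F E)).roots := by
    intro k hkP
    obtain ⟨φ, hφ⟩ := hk0 k hkP
    rw [← map_pow, ← map_pow] at hφ
    obtain ⟨A, B, ρ, c, hAB, hcn, hcq, hM⟩ := Cfsg.Agent.H251.Small.aut_mat hF hn h32 φ hφ
    have hc0 : c ≠ 0 := by
      rintro rfl
      rw [zero_pow (Nat.succ_ne_zero q)] at hcq
      exact zero_ne_one hcq
    refine ⟨ρ, c, hc0, hcn, hcq, ?_⟩
    have hBA : B * A = 1 := _root_.mul_eq_one_comm.1 hAB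
    have hcE : algebraMap F E c ≠ 0 := fun h => hc0 ((algebraMap F E).injective (by rw [h, map_zero]))
    -- the eigenvector
    have h1 : (mE E (Y ^ k)).mulVec u = a ^ k • u := by
      have : ∀ j : ℕ, (mE E (Y ^ j)).mulVec u = a ^ j • u := by
        intro j
        induction j with
        | zero => rw [pow_zero, mE_one, Matrix.one_mulVec, pow_zero, one_smul]
        | succ j ih =>
          rw [pow_succ, mE_mul, ← Matrix.mulVec_mulVec, hua, Matrix.mulVec_smul, ih, smul_smul, pow_succ, mul_comm]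
      exact this k
    have h2 : mE E (Y ^ k) = algebraMap F E c • (A * (mat (Y ^ k0)).map ρ * B).map (algebraMap F E) := by
      rw [mE, ← hmat, hM, RingHom.mapMatrix_apply]
      ext i j
      rw [Matrix.map_apply, Matrix.smul_apply, Matrix.smul_apply, Matrix.map_apply, smul_eq_mul, smul_eq_mul, map_mul]
    have h3 : ((A * (mat (Y ^ k0)).map ρ * B).map (algebraMap F E)).mulVec u = ((algebraMap F E c)⁻¹ * a ^ k) • u := by
      rw [h2, Matrix.smul_mulVec] at h1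
      rw [mul_smul, ← h1, smul_smul, inv_mul_cancel₀ hcE, one_smul]
    have h4 : ((A * (mat (Y ^ k0)).map ρ * B).map (algebraMap F E)).charpoly.IsRoot ((algebraMap F E c)⁻¹ * a ^ k) := by
      rw [← Matrix.mem_spectrum_iff_isRoot_charpoly, ← Matrix.spectrum_toLin',
        ← Module.End.hasEigenvalue_iff_mem_spectrum]
      refine Module.End.hasEigenvalue_of_hasEigenvector (x := u) ⟨Module.End.mem_eigenspace_iff.2 ?_, hu⟩
      rw [Matrix.toLin'_apply, h3]
    rw [Matrix.charpoly_map] at h4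
    have h5 : (A * (mat (Y ^ k0)).map ρ * B).charpoly = ((mat (Y ^ k0)).map ρ).charpoly := by
      rw [Matrix.charpoly_mul_comm, ← Matrix.mul_assoc, hBA, Matrix.one_mul]
    rw [h5] at h4
    exact (Polynomial.mem_roots ((Matrix.charpoly_monic _).map _).ne_zero).2 h4
  choose! ρ c hc0 hcn hcq hmem using hdat
  have : Finite (F ≃+* F) := Finite.of_injective (fun f : F ≃+* F => (f : F → F)) DFunLike.coe_injective
  have := Fintype.ofFinite (F ≃+* F)
  have hsub : P.image (fun k => (algebraMap F E (c k))⁻¹ * a ^ k) ⊆ (Finset.univ : Finset (F ≃+* F)).biUnion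
      fun ρ => (((mat (Y ^ k0)).map ρ).charpoly.map (algebraMap F E)).roots.toFinset := by
    intro b hb
    obtain ⟨k, hkP, rfl⟩ := Finset.mem_image.1 hb
    rw [Finset.mem_biUnion]
    exact ⟨ρ k, Finset.mem_univ _, Multiset.mem_toFinset.2 (hmem k hkP)⟩
  have ha0 : a ≠ 0 := (cl_mt hF Y).ne_zero haR
  have key : ∀ k ∈ P, ∀ l ∈ P, l ≤ k → (algebraMap F E (c k))⁻¹ * a ^ k = (algebraMap F E (c l))⁻¹ * a ^ l → k = l := by
    intro k hkP l hlP hlk h
    have hck : algebraMap F E (c k) ≠ 0 := fun h => hc0 k hkP ((algebraMap F E).injective (by rw [h, map_zero]))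
    have hcl : algebraMap F E (c l) ≠ 0 := fun h => hc0 l hlP ((algebraMap F E).injective (by rw [h, map_zero]))
    have h1 : a ^ (k - l) = algebraMap F E (c k * (c l)⁻¹) := by
      have h2 : a ^ k = a ^ (k - l) * a ^ l := by rw [← pow_add, Nat.sub_add_cancel hlk]
      rw [h2] at h
      have h3 : a ^ l ≠ 0 := pow_ne_zero _ ha0
      rw [map_mul, map_inv₀]
      have h4 : a ^ (k - l) * a ^ l = (algebraMap F E (c k) * (algebraMap F E (c l))⁻¹) * a ^ l := by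
        rw [mul_assoc, ← h, mul_inv_cancel_left₀ hck]
      exact mul_right_cancel₀ h3 h4
    have h2 := pow_eq_of_ev hF hv he he2 hne haR hva (m := k - l) (ζ := c k * (c l)⁻¹)
      (by rw [mul_pow, inv_pow, hcn k hkP, hcn l hlP, inv_one, mul_one])
      (by rw [mul_pow, inv_pow, hcq k hkP, hcq l hlP, inv_one, mul_one]) h1
    have h3 := orderOf_dvd_of_pow_eq_one h2
    have h4 := hP k hkP
    rcases Nat.eq_zero_or_pos (k - l) with h5 | h5
    · omega
    · have := Nat.le_of_dvd h5 h3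
      omega
  have hinj : (P.image (fun k => (algebraMap F E (c k))⁻¹ * a ^ k)).card = P.card := by
    rw [Finset.card_image_of_injOn]
    intro k hk l hl hkl
    rcases le_total l k with h | h
    · exact key k hk l hl h hkl
    · exact (key l hl k hk h hkl.symm).symm
  rw [← hinj]
  refine (Finset.card_le_card hsub).trans (Finset.card_biUnion_le.trans ?_)
  have h5 : ∀ ρ ∈ (Finset.univ : Finset (F ≃+* F)),
      ((((mat (Y ^ k0)).map ρ).charpoly.map (algebraMap F E)).roots.toFinset).card ≤ n := by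
    intro ρ _
    refine (Multiset.toFinset_card_le _).trans ((Polynomial.card_roots' _).trans ?_)
    rw [Polynomial.natDegree_map, Matrix.charpoly_natDegree_eq_dim, Fintype.card_fin]
  refine (Finset.sum_le_card_nsmul _ _ _ h5).trans ?_
  rw [smul_eq_mul, Finset.card_univ, Nat.card_eq_fintype_card]

/-- the number of exponents below `v * m` not divisible by `v` -/
theorem card_not_dvd {v m : ℕ} (hv : 0 < v) : ((Finset.range (v * m)).filter fun k => ¬ v ∣ k).card + m = v * m := by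
  classical
  have h1 : ((Finset.range (v * m)).filter fun k => v ∣ k).card = m := by
    have h2 : (Finset.range (v * m)).filter (fun k => v ∣ k) = (Finset.range m).image fun k => v * k := by
      ext k
      simp only [Finset.mem_filter, Finset.mem_range, Finset.mem_image]
      constructor
      · rintro ⟨h3, j, rfl⟩
        exact ⟨j, Nat.lt_of_mul_lt_mul_left h3, rfl⟩
      · rintro ⟨j, hj, rfl⟩
        exact ⟨Nat.mul_lt_mul_of_pos_left hj hv, dvd_mul_right _ _⟩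
    rw [h2, Finset.card_image_of_injective _ fun a b hab => Nat.eq_of_mul_eq_mul_left hv hab, Finset.card_range]
  have h3 := Finset.card_filter_add_card_filter_not (s := Finset.range (v * m)) (fun k => v ∣ k)
  rw [h1, Finset.card_range] at h3
  omega

/-- **The bound.** -/
theorem scc_bound (hF : Fintype.card F = q ^ 2) (hn : 3 ≤ n) (h32 : ¬ (n = 3 ∧ q = 2)) {v e : ℕ} (hv : v.Prime)
    (he : orderOf ((xv false q : ℤ) : ZMod v) = e) (he2 : 2 ≤ e) (hne : n ≤ e + 1) {x : PSU n F q}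
    (hx : v ∣ orderOf x) (h : SCC (PSU n F q) v) :
    orderOf x ≤ 2 * (Nat.card (F ≃+* F) * n) + orderOf x / v := by
  classical
  have hfin : Finite (PSU n F q) := inferInstance
  obtain ⟨α, β, hαβ⟩ := h
  obtain ⟨m, hm⟩ := hx
  have hx : v ∣ orderOf x := ⟨m, hm⟩
  set P := (Finset.range (orderOf x)).filter fun k => ¬ v ∣ k with hPdef
  have hP : P.card + m = orderOf x := by
    rw [hPdef, hm]
    exact card_not_dvd hv.pos
  obtain ⟨C, hC⟩ : ∃ C : PSU n F q → ℕ → Prop, ∀ γ k, C γ k ↔ ∃ φ : PSU n F q ≃* PSU n F q, φ γ = x ^ k :=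
    ⟨_, fun _ _ => Iff.rfl⟩
  have hPm : ∀ k, k ∈ P ↔ k < orderOf x ∧ ¬ v ∣ k := fun k => by rw [hPdef, Finset.mem_filter, Finset.mem_range]
  clear_value P
  have hcl : ∀ γ : PSU n F q, (P.filter fun k => C γ k).card ≤ Nat.card (F ≃+* F) * n := by
    intro γ
    rcases Finset.eq_empty_or_nonempty (P.filter fun k => C γ k) with h0 | ⟨k0, hk0⟩
    · rw [h0, Finset.card_empty]
      exact Nat.zero_le _
    · obtain ⟨φ0, hφ0⟩ := (hC _ _).1 (Finset.mem_filter.1 hk0).2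
      refine card_fuse hF hn h32 hv he he2 hne hx _ (fun k hk => ?_) k0 fun k hk => ?_
      · exact ((hPm k).1 (Finset.mem_filter.1 hk).1).1
      · obtain ⟨φ, hφ⟩ := (hC _ _).1 (Finset.mem_filter.1 hk).2
        refine ⟨φ0.symm.trans φ, ?_⟩
        rw [MulEquiv.trans_apply, ← hφ0, MulEquiv.symm_apply_apply, hφ]
  have hunion : P ⊆ (P.filter fun k => C α k) ∪ (P.filter fun k => C β k) := by
    intro k hk
    rw [Finset.mem_union, Finset.mem_filter, Finset.mem_filter, hC, hC]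
    have h1 : v ∣ orderOf (x ^ k) := dvd_orderOf_pow hv hx ((hPm k).1 hk).2
    rcases hαβ _ h1 with h2 | h2
    · exact Or.inl ⟨hk, h2⟩
    · exact Or.inr ⟨hk, h2⟩
  have h1 := (Finset.card_le_card hunion).trans (Finset.card_union_le _ _)
  have h2 := hcl α
  have h3 := hcl β
  have h4 : orderOf x / v = m := by rw [hm, Nat.mul_div_cancel_left _ hv.pos]
  omega

end Cfsg.Agent.H372.DerU
end

-- part: H372/DerU/Block
section
/-!
# S3502, the rows `PSU n F q`, `n ≥ 4`: primes dividing the order of `SU (n - 2) F q` (helper372)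
-/

set_option autoImplicit false

namespace Cfsg.Agent.H372.DerU

open Cfsg Cfsg.Agent.H439.Der Cfsg.Agent.H372.FxU
open Cfsg.Agent.ClassicalGeometry.PSUAutBasic (pr pr_surjective pr_eq_one_iff)
open Cfsg.Agent.Phan (emb emb_injective)

theorem not_SCC_of_comm {T : Type*} [Group T] {v a b : ℕ} {x₁ y₁ x₂ y₂ : T} (hv : 0 < v) (hx₁ : orderOf x₁ = v)
    (hy₁ : orderOf y₁ = a) (hx₂ : orderOf x₂ = v) (hy₂ : orderOf y₂ = b) (ha : Nat.Coprime v a)
    (hb : Nat.Coprime v b) (ha1 : a ≠ 1) (hb1 : b ≠ 1) (hab : a ≠ b) (h₁ : Commute x₁ y₁) (h₂ : Commute x₂ y₂) :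
    ¬ SCC T v := by
  have e1 : orderOf (x₁ * y₁) = v * a := by
    rw [h₁.orderOf_mul_eq_mul_orderOf_of_coprime (by rw [hx₁, hy₁]; exact ha), hx₁, hy₁]
  have e2 : orderOf (x₂ * y₂) = v * b := by
    rw [h₂.orderOf_mul_eq_mul_orderOf_of_coprime (by rw [hx₂, hy₂]; exact hb), hx₂, hy₂]
  refine not_SCC_of_orders (x := x₁) (y := x₁ * y₁) (z := x₂ * y₂) (by rw [hx₁]) (by rw [e1]; exact dvd_mul_right _ _)
    (by rw [e2]; exact dvd_mul_right _ _) ?_ ?_ ?_
  · rw [hx₁, e1]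
    intro h
    exact ha1 (Nat.eq_of_mul_eq_mul_left hv (by rw [← h, mul_one]))
  · rw [hx₁, e2]
    intro h
    exact hb1 (Nat.eq_of_mul_eq_mul_left hv (by rw [← h, mul_one]))
  · rw [e1, e2]
    intro h
    exact hab (Nat.eq_of_mul_eq_mul_left hv h)

theorem three_primes {q : ℕ} (hq : 4 ≤ q) : ∃ a b c : ℕ, a.Prime ∧ b.Prime ∧ c.Prime ∧ a ≠ b ∧ a ≠ c ∧ b ≠ c ∧
    a ∣ q * (q ^ 2 - 1) ∧ b ∣ q * (q ^ 2 - 1) ∧ c ∣ q * (q ^ 2 - 1) := by
  have e : q ^ 2 - 1 = (q - 1) * (q + 1) := by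
    obtain ⟨v, rfl⟩ : ∃ v, q = v + 1 := ⟨q - 1, by omega⟩
    rw [Nat.add_sub_cancel]
    have : (v + 1) ^ 2 = v * (v + 1 + 1) + 1 := by ring
    omega
  have hp : ∀ {r : ℕ}, r.Prime → r ∣ q → ¬ r ∣ q + 1 ∧ ¬ r ∣ q - 1 := by
    intro r hr h
    refine ⟨fun h1 => hr.one_lt.ne' (Nat.dvd_one.1 ((Nat.dvd_add_right h).1 h1)), fun h1 => ?_⟩
    have h2 : r ∣ (q - 1) + 1 := by rwa [Nat.sub_add_cancel (by omega)]
    exact hr.one_lt.ne' (Nat.dvd_one.1 ((Nat.dvd_add_right h1).1 h2))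
  obtain ⟨p, hpp, hpq⟩ := Nat.exists_prime_and_dvd (n := q) (by omega)
  obtain ⟨n1, n2⟩ := hp hpp hpq
  rcases Nat.even_or_odd q with he | ho
  · -- `q` even
    obtain ⟨a, ha, ha1⟩ := Nat.exists_prime_and_dvd (n := q + 1) (by omega)
    obtain ⟨b, hb, hb1⟩ := Nat.exists_prime_and_dvd (n := q - 1) (by omega)
    refine ⟨p, a, b, hpp, ha, hb, fun h => n1 (h ▸ ha1), fun h => n2 (h ▸ hb1), ?_, Dvd.dvd.mul_right hpq _, ?_, ?_⟩
    · rintro rfl
      have h1 : a ∣ (q + 1) - (q - 1) := Nat.dvd_sub ha1 hb1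
      have h2 : (q + 1) - (q - 1) = 2 := by omega
      rw [h2] at h1
      have h3 := (Nat.prime_dvd_prime_iff_eq ha Nat.prime_two).1 h1
      rw [h3] at ha1
      have := he.two_dvd
      omega
    · rw [e]; exact Dvd.dvd.mul_left (Dvd.dvd.mul_left ha1 _) _
    · rw [e]; exact Dvd.dvd.mul_left (Dvd.dvd.mul_right hb1 _) _
  · -- `q` odd
    obtain ⟨k, hk⟩ := ho
    have h2 : 2 ∣ q + 1 := ⟨k + 1, by omega⟩
    have hp2 : p ≠ 2 := fun h => n1 (h ▸ h2)
    obtain ⟨c, hc, hc2, hcp, hcd⟩ : ∃ c : ℕ, c.Prime ∧ c ≠ 2 ∧ c ≠ p ∧ c ∣ (q - 1) * (q + 1) := by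
      rcases Nat.even_or_odd k with ⟨j, hj⟩ | ⟨j, hj⟩
      · -- `q + 1 = 2 (2 j + 1)`
        obtain ⟨c, hc, hc1⟩ := Nat.exists_prime_and_dvd (n := k + 1) (by omega)
        have h3 : c ∣ q + 1 := hc1.trans ⟨2, by omega⟩
        refine ⟨c, hc, ?_, fun h => n1 (h ▸ h3), Dvd.dvd.mul_left h3 _⟩
        rintro rfl
        omega
      · -- `q - 1 = 2 (2 j + 1)`
        obtain ⟨c, hc, hc1⟩ := Nat.exists_prime_and_dvd (n := k) (by omega)
        have h3 : c ∣ q - 1 := hc1.trans ⟨2, by omega⟩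
        refine ⟨c, hc, ?_, fun h => n2 (h ▸ h3), Dvd.dvd.mul_right h3 _⟩
        rintro rfl
        omega
    refine ⟨p, 2, c, hpp, Nat.prime_two, hc, hp2, hcp.symm, hc2.symm, Dvd.dvd.mul_right hpq _, ?_, ?_⟩
    · rw [e]; exact Dvd.dvd.mul_left (Dvd.dvd.mul_left h2 _) _
    · rw [e]; exact Dvd.dvd.mul_left hcd _

theorem two_primes {q v : ℕ} (hq : 4 ≤ q) : ∃ a b : ℕ, a.Prime ∧ b.Prime ∧ a ≠ b ∧ v ≠ a ∧ v ≠ b ∧
    a ∣ q * (q ^ 2 - 1) ∧ b ∣ q * (q ^ 2 - 1) := by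
  obtain ⟨a, b, c, ha, hb, hc, hab, hac, hbc, h1, h2, h3⟩ := three_primes hq
  by_cases e1 : v = a
  · exact ⟨b, c, hb, hc, hbc, fun h => hab (e1.symm.trans h), fun h => hac (e1.symm.trans h), h2, h3⟩
  by_cases e2 : v = b
  · exact ⟨a, c, ha, hc, hac, e1, fun h => hbc (e2.symm.trans h), h1, h3⟩
  · exact ⟨a, b, ha, hb, hab, e1, e2, h1, h2⟩

variable {F : Type} [Field F] [Fintype F] {q n : ℕ}

/-- two primes `a ≠ b` dividing the order of a block, `v` dividing the order of the other one -/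
theorem not_scc_of_blocks (hF : Fintype.card F = q ^ 2) (hn : 3 ≤ n) {k m : ℕ} (hk : 1 ≤ k) (hm : 1 ≤ m)
    (hkm : k + m ≤ n) {v : ℕ} (hv : v.Prime) (hd : v ∣ Nat.card ↥(SU k F q)) {a b : ℕ} (ha : a.Prime) (hb : b.Prime)
    (hab : a ≠ b) (hva : v ≠ a) (hvb : v ≠ b) (had : a ∣ Nat.card ↥(SU m F q)) (hbd : b ∣ Nat.card ↥(SU m F q)) :
    ¬ SCC (PSU n F q) v := by
  obtain ⟨x, hx⟩ := exists_emb (F := F) (q := q) hv hd
  obtain ⟨y, hy⟩ := exists_emb (F := F) (q := q) ha had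
  obtain ⟨z, hz⟩ := exists_emb (F := F) (q := q) hb hbd
  have hc : ∀ u : ↥(SU m F q), Commute (pr n F q (emb hF 0 (by omega : 0 + k ≤ n) x)) (pr n F q (emb hF k hkm u)) := by
    intro u
    show _ * _ = _ * _
    rw [← map_mul, emb_comm, map_mul]
  exact not_SCC_of_comm hv.pos (by rw [orderOf_emb hF hn _ (by omega), hx])
    (by rw [orderOf_emb hF hn _ (by omega), hy]) (by rw [orderOf_emb hF hn _ (by omega), hx])
    (by rw [orderOf_emb hF hn _ (by omega), hz]) ((Nat.coprime_primes hv ha).2 hva) ((Nat.coprime_primes hv hb).2 hvb)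
    ha.one_lt.ne' hb.one_lt.ne' hab (hc y) (hc z)

/-- **Primes dividing the order of `SU (n - 2) F q`.** -/
theorem not_scc_block (hF : Fintype.card F = q ^ 2) (hn : 4 ≤ n) (h : 4 ≤ q ∨ (q = 3 ∧ 5 ≤ n) ∨ (q = 2 ∧ 7 ≤ n))
    {v : ℕ} (hv : v.Prime) (hd : v ∣ Nat.card ↥(SU (n - 2) F q)) : ¬ SCC (PSU n F q) v := by
  have hc2 := card_two (F := F) hF
  rcases h with h | ⟨rfl, h5⟩ | ⟨rfl, h7⟩
  · obtain ⟨a, b, ha, hb, hab, hva, hvb, h1, h2⟩ := two_primes (v := v) h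
    exact not_scc_of_blocks hF (by omega) (k := n - 2) (m := 2) (by omega) (by norm_num) (by omega) hv hd ha hb hab hva
      hvb (by rw [hc2]; exact h1) (by rw [hc2]; exact h2)
  · by_cases hv2 : v = 2 ∨ v = 3
    · -- the element of order four of `SU₃(3)`
      obtain ⟨c, -, hc⟩ := exists_unit hF (s := 4) (by norm_num)
      have hc1 : c ^ (3 + 1) = 1 := orderOf_dvd_iff_pow_eq_one.1 (by rw [hc])
      obtain ⟨z, -, hz, -⟩ := exists_D hF (k := 2) le_rfl hc1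
      have hz4 : orderOf z = 4 := by
        rw [← hc]
        exact orderOf_eq_orderOf_iff.2 hz
      have hz2 : orderOf (z ^ 2) = 2 := by rw [orderOf_pow, hz4]; norm_num
      obtain ⟨b, hb⟩ := exists_emb (F := F) (q := 3) Nat.prime_three (m := 2) (by rw [hc2]; norm_num)
      have hcm : ∀ a : ↥(SU 3 F 3), Commute (pr n F 3 (emb hF 0 (by omega : 0 + 3 ≤ n) a))
          (pr n F 3 (emb hF 3 (by omega : 3 + 2 ≤ n) b)) := by
        intro a
        show _ * _ = _ * _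
        rw [← map_mul, emb_comm, map_mul]
      have o1 : orderOf (pr n F 3 (emb hF 0 (by omega : 0 + 3 ≤ n) z)) = 4 := by
        rw [orderOf_emb hF (by omega) _ (by omega), hz4]
      have o2 : orderOf (pr n F 3 (emb hF 0 (by omega : 0 + 3 ≤ n) (z ^ 2))) = 2 := by
        rw [orderOf_emb hF (by omega) _ (by omega), hz2]
      have o3 : orderOf (pr n F 3 (emb hF 3 (by omega : 3 + 2 ≤ n) b)) = 3 := by
        rw [orderOf_emb hF (by omega) _ (by omega), hb]
      rcases hv2 with rfl | rfl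
      · refine not_SCC_of_orders (x := pr n F 3 (emb hF 0 (by omega : 0 + 3 ≤ n) (z ^ 2)))
          (y := pr n F 3 (emb hF 0 (by omega : 0 + 3 ≤ n) z))
          (z := pr n F 3 (emb hF 0 (by omega : 0 + 3 ≤ n) (z ^ 2)) * pr n F 3 (emb hF 3 (by omega : 3 + 2 ≤ n) b)) ?_ ?_ ?_
          ?_ ?_ ?_ <;>
        simp only [(hcm (z ^ 2)).orderOf_mul_eq_mul_orderOf_of_coprime (by rw [o2, o3]; norm_num), o1, o2, o3] <;> norm_num
      · exact not_SCC_of_comm (by norm_num) o3 o2 o3 o1 (by norm_num) (by norm_num) (by norm_num) (by norm_num)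
          (by norm_num) (hcm (z ^ 2)).symm (hcm z).symm
    · push Not at hv2
      exact not_scc_of_blocks hF (by omega) (k := n - 2) (m := 2) (by omega) (by norm_num) (by omega) hv hd
        Nat.prime_two Nat.prime_three (by norm_num) hv2.1 hv2.2 (by rw [hc2]; norm_num) (by rw [hc2]; norm_num)
  · by_cases hv2 : v = 2 ∨ v = 3
    · have hc4 := card_four (F := F) hF
      have hc3 := card_three (F := F) hF
      have h5p : Nat.Prime 5 := by norm_num
      rcases hv2 with rfl | rfl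
      · -- `v = 2`: the orders 2, 6, 10
        obtain ⟨a, ha⟩ := exists_emb (F := F) (q := 2) Nat.prime_three (m := 4) (by rw [hc4]; norm_num)
        obtain ⟨a', ha'⟩ := exists_emb (F := F) (q := 2) h5p (m := 4) (by rw [hc4]; norm_num)
        obtain ⟨b, hb⟩ := exists_emb (F := F) (q := 2) Nat.prime_two (m := 3) (by rw [hc3]; norm_num)
        have hcm : ∀ a : ↥(SU 4 F 2), Commute (pr n F 2 (emb hF 4 (by omega : 4 + 3 ≤ n) b))
            (pr n F 2 (emb hF 0 (by omega : 0 + 4 ≤ n) a)) := by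
          intro a
          show _ * _ = _ * _
          rw [← map_mul, ← emb_comm, map_mul]
        have o : orderOf (pr n F 2 (emb hF 4 (by omega : 4 + 3 ≤ n) b)) = 2 := by
          rw [orderOf_emb hF (by omega) _ (by omega), hb]
        exact not_SCC_of_comm (by norm_num) o (by rw [orderOf_emb hF (by omega) _ (by omega), ha]) o
          (by rw [orderOf_emb hF (by omega) _ (by omega), ha']) (by norm_num) (by norm_num) (by norm_num) (by norm_num)
          (by norm_num) (hcm a) (hcm a')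
      · -- `v = 3`: the orders 3, 6, 15
        obtain ⟨a, ha⟩ := exists_emb (F := F) (q := 2) Nat.prime_two (m := 4) (by rw [hc4]; norm_num)
        obtain ⟨a', ha'⟩ := exists_emb (F := F) (q := 2) h5p (m := 4) (by rw [hc4]; norm_num)
        obtain ⟨b, hb⟩ := exists_emb (F := F) (q := 2) Nat.prime_three (m := 3) (by rw [hc3]; norm_num)
        have hcm : ∀ a : ↥(SU 4 F 2), Commute (pr n F 2 (emb hF 4 (by omega : 4 + 3 ≤ n) b))
            (pr n F 2 (emb hF 0 (by omega : 0 + 4 ≤ n) a)) := by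
          intro a
          show _ * _ = _ * _
          rw [← map_mul, ← emb_comm, map_mul]
        have o : orderOf (pr n F 2 (emb hF 4 (by omega : 4 + 3 ≤ n) b)) = 3 := by
          rw [orderOf_emb hF (by omega) _ (by omega), hb]
        exact not_SCC_of_comm (by norm_num) o (by rw [orderOf_emb hF (by omega) _ (by omega), ha]) o
          (by rw [orderOf_emb hF (by omega) _ (by omega), ha']) (by norm_num) (by norm_num) (by norm_num) (by norm_num)
          (by norm_num) (hcm a) (hcm a')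
    · push Not at hv2
      exact not_scc_of_blocks hF (by omega) (k := n - 2) (m := 2) (by omega) (by norm_num) (by omega) hv hd
        Nat.prime_two Nat.prime_three (by norm_num) hv2.1 hv2.2 (by rw [hc2]; norm_num) (by rw [hc2]; norm_num)

end Cfsg.Agent.H372.DerU
end

-- part: H372/DerU/Num
section
/-!
# S3502, the rows `PSU n F q`, `n ≥ 4`: numbers (helper372)
-/

set_option autoImplicit false

namespace Cfsg.Agent.H372.DerU

/-- the two inequalities for the large tori -/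
def IneqA (n q : ℕ) : Prop := 2 * (n + 1) * q * Nat.gcd n (q + 1) * (q + 1) + 1 < q ^ n

def IneqB (n q : ℕ) : Prop := 2 * q * n ^ 2 * Nat.gcd n (q + 1) + (n - 1) < (n - 1) * q ^ (n - 1)

theorem lin {q c m : ℕ} (hq : 2 ≤ q) (h0 : c * (m + 1) + 1 < q ^ m) : ∀ n : ℕ, m ≤ n → c * (n + 1) + 1 < q ^ n := by
  intro n hn
  induction n, hn using Nat.le_induction with
  | base => exact h0
  | succ n hn ih =>
    have h1 : c ≤ c * (n + 1) := Nat.le_mul_of_pos_right _ (by omega)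
    have h2 : q ^ n * 2 ≤ q ^ (n + 1) := by rw [pow_succ]; exact Nat.mul_le_mul le_rfl hq
    rw [mul_add c (n + 1) 1, mul_one]
    omega

theorem quad {q c m : ℕ} (hq : 2 ≤ q) (hm : 3 ≤ m) (h0 : c * m ^ 2 + (m - 1) < (m - 1) * q ^ (m - 1)) :
    ∀ n : ℕ, m ≤ n → c * n ^ 2 + (n - 1) < (n - 1) * q ^ (n - 1) := by
  intro n hn
  induction n, hn using Nat.le_induction with
  | base => exact h0
  | succ n hn ih =>
    obtain ⟨k, rfl⟩ : ∃ k, n = k + 3 := ⟨n - 3, by omega⟩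
    have e1 : k + 3 - 1 = k + 2 := by omega
    have e2 : k + 3 + 1 - 1 = k + 3 := by omega
    rw [e1] at ih
    rw [e2]
    have h1 : c * (k + 3 + 1) ^ 2 + (k + 3) ≤ 2 * (c * (k + 3) ^ 2 + (k + 2)) := by
      have h3 : (k + 3 + 1) ^ 2 ≤ 2 * (k + 3) ^ 2 := by nlinarith
      have h4 : c * (k + 3 + 1) ^ 2 ≤ c * (2 * (k + 3) ^ 2) := Nat.mul_le_mul le_rfl h3
      have h5 : c * (2 * (k + 3) ^ 2) = 2 * (c * (k + 3) ^ 2) := by ring
      omega
    have h2 : (k + 2) * q ^ (k + 2) * 2 ≤ (k + 3) * q ^ (k + 3) := by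
      rw [pow_succ q (k + 2)]
      calc (k + 2) * q ^ (k + 2) * 2 = (k + 2) * (q ^ (k + 2) * 2) := by ring
        _ ≤ (k + 3) * (q ^ (k + 2) * q) := Nat.mul_le_mul (by omega) (Nat.mul_le_mul le_rfl hq)
    omega

theorem ineqA_seven {q : ℕ} (hq : 7 ≤ q) : ∀ n : ℕ, 4 ≤ n → 2 * (n + 1) * q * n * (q + 1) + 1 < q ^ n := by
  intro n hn
  induction n, hn using Nat.le_induction with
  | base =>
    have h1 : 7 * 7 ≤ q * q := Nat.mul_le_mul hq hq
    have h2 : 49 * (q * q) ≤ q ^ 4 := by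
      have : q ^ 4 = (q * q) * (q * q) := by ring
      rw [this]
      exact Nat.mul_le_mul (by omega) le_rfl
    nlinarith
  | succ n hn ih =>
    have h1 : (n + 1 + 1) * (n + 1) ≤ 2 * ((n + 1) * n) := by nlinarith
    have h2 : 2 * (n + 1 + 1) * q * (n + 1) * (q + 1) ≤ 2 * (2 * (n + 1) * q * n * (q + 1)) := by
      calc 2 * (n + 1 + 1) * q * (n + 1) * (q + 1) = ((n + 1 + 1) * (n + 1)) * (2 * q * (q + 1)) := by ring
        _ ≤ (2 * ((n + 1) * n)) * (2 * q * (q + 1)) := Nat.mul_le_mul h1 le_rfl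
        _ = 2 * (2 * (n + 1) * q * n * (q + 1)) := by ring
    have h3 : q ^ n * 2 ≤ q ^ (n + 1) := by rw [pow_succ]; exact Nat.mul_le_mul le_rfl (by omega)
    omega

theorem ineqB_seven {q : ℕ} (hq : 7 ≤ q) : ∀ n : ℕ, 4 ≤ n → 2 * q * n ^ 3 + (n - 1) < (n - 1) * q ^ (n - 1) := by
  intro n hn
  induction n, hn using Nat.le_induction with
  | base =>
    have h1 : 7 * 7 ≤ q * q := Nat.mul_le_mul hq hq
    have h2 : 49 * q ≤ q ^ 3 := by
      have : q ^ 3 = (q * q) * q := by ring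
      rw [this]
      exact Nat.mul_le_mul (by omega) le_rfl
    norm_num
    omega
  | succ n hn ih =>
    obtain ⟨k, rfl⟩ : ∃ k, n = k + 4 := ⟨n - 4, by omega⟩
    have e1 : k + 4 - 1 = k + 3 := by omega
    have e2 : k + 4 + 1 - 1 = k + 4 := by omega
    rw [e1] at ih
    rw [e2]
    have h1 : 2 * q * (k + 4 + 1) ^ 3 + (k + 4) ≤ 2 * (2 * q * (k + 4) ^ 3 + (k + 3)) := by
      have h3 : (k + 4 + 1) ^ 3 ≤ 2 * (k + 4) ^ 3 := by
        have : 2 * (k + 4) ^ 3 = (k + 4 + 1) ^ 3 + (k ^ 3 + 9 * k ^ 2 + 21 * k + 3) := by ring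
        omega
      have h4 : 2 * q * (k + 4 + 1) ^ 3 ≤ 2 * q * (2 * (k + 4) ^ 3) := Nat.mul_le_mul le_rfl h3
      have h5 : 2 * q * (2 * (k + 4) ^ 3) = 2 * (2 * q * (k + 4) ^ 3) := by ring
      omega
    have h2 : (k + 3) * q ^ (k + 3) * 2 ≤ (k + 4) * q ^ (k + 4) := by
      rw [pow_succ q (k + 3)]
      calc (k + 3) * q ^ (k + 3) * 2 = (k + 3) * (q ^ (k + 3) * 2) := by ring
        _ ≤ (k + 4) * (q ^ (k + 3) * q) := Nat.mul_le_mul (by omega) (Nat.mul_le_mul le_rfl (by omega))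
    omega

theorem ineqA_small {q c m : ℕ} (hq : 2 ≤ q) (hc : ∀ n, Nat.gcd n (q + 1) ≤ c)
    (h0 : (2 * q * c * (q + 1)) * (m + 1) + 1 < q ^ m) {n : ℕ} (hn : m ≤ n) : IneqA n q := by
  have h1 := lin hq h0 n hn
  refine lt_of_le_of_lt (Nat.add_le_add_right ?_ 1) h1
  calc 2 * (n + 1) * q * Nat.gcd n (q + 1) * (q + 1) ≤ 2 * (n + 1) * q * c * (q + 1) :=
        Nat.mul_le_mul (Nat.mul_le_mul le_rfl (hc n)) le_rfl
    _ = (2 * q * c * (q + 1)) * (n + 1) := by ring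

theorem ineqB_small {q c m : ℕ} (hq : 2 ≤ q) (hm : 3 ≤ m) (hc : ∀ n, Nat.gcd n (q + 1) ≤ c)
    (h0 : (2 * q * c) * m ^ 2 + (m - 1) < (m - 1) * q ^ (m - 1)) {n : ℕ} (hn : m ≤ n) : IneqB n q := by
  have h1 := quad hq hm h0 n hn
  refine lt_of_le_of_lt (Nat.add_le_add_right ?_ _) h1
  calc 2 * q * n ^ 2 * Nat.gcd n (q + 1) ≤ 2 * q * n ^ 2 * c := Nat.mul_le_mul le_rfl (hc n)
    _ = (2 * q * c) * n ^ 2 := by ring

theorem ineqs {n q : ℕ} (hn : 4 ≤ n) (hq : 2 ≤ q) (hq6 : q ≠ 6)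
    (hex : (n, q) ∉ ({(4, 2), (4, 3), (5, 2), (6, 2)} : Finset (ℕ × ℕ))) :
    (¬ (n = 5 ∧ q = 4) → IneqA n q) ∧ IneqB n q := by
  simp only [Finset.mem_insert, Finset.mem_singleton, Prod.mk.injEq, not_or, not_and] at hex
  rcases Nat.lt_or_ge q 7 with h7 | h7
  · have hc : ∀ (k : ℕ), 0 < k → ∀ m : ℕ, Nat.gcd m k ≤ k := fun k hk m => Nat.gcd_le_right _ hk
    interval_cases q
    · rcases Nat.lt_or_ge n 9 with h8 | h8
      · have : n = 7 ∨ n = 8 := by omega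
        rcases this with rfl | rfl
        · exact ⟨fun _ => by unfold IneqA; norm_num, by unfold IneqB; norm_num⟩
        · exact ⟨fun _ => by unfold IneqA; norm_num, by unfold IneqB; norm_num⟩
      · exact ⟨fun _ => ineqA_small (q := 2) (c := 3) (m := 9) (by norm_num) (hc 3 (by norm_num)) (by norm_num) h8,
          ineqB_small (q := 2) (c := 3) (m := 9) (by norm_num) (by norm_num) (hc 3 (by norm_num)) (by norm_num) h8⟩
    · rcases Nat.lt_or_ge n 6 with h8 | h8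
      · have : n = 5 := by omega
        subst this
        exact ⟨fun _ => by unfold IneqA; norm_num, by unfold IneqB; norm_num⟩
      · exact ⟨fun _ => ineqA_small (q := 3) (c := 4) (m := 6) (by norm_num) (hc 4 (by norm_num)) (by norm_num) h8,
          ineqB_small (q := 3) (c := 4) (m := 6) (by norm_num) (by norm_num) (hc 4 (by norm_num)) (by norm_num) h8⟩
    · rcases Nat.lt_or_ge n 6 with h8 | h8
      · have : n = 4 ∨ n = 5 := by omega
        rcases this with rfl | rfl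
        · exact ⟨fun _ => by unfold IneqA; norm_num, by unfold IneqB; norm_num⟩
        · exact ⟨fun h => absurd ⟨rfl, rfl⟩ h, by unfold IneqB; norm_num⟩
      · exact ⟨fun _ => ineqA_small (q := 4) (c := 5) (m := 6) (by norm_num) (hc 5 (by norm_num)) (by norm_num) h8,
          ineqB_small (q := 4) (c := 5) (m := 6) (by norm_num) (by norm_num) (hc 5 (by norm_num)) (by norm_num) h8⟩
    · rcases Nat.lt_or_ge n 5 with h8 | h8
      · have : n = 4 := by omega
        subst this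
        exact ⟨fun _ => by unfold IneqA; norm_num, by unfold IneqB; norm_num⟩
      · exact ⟨fun _ => ineqA_small (q := 5) (c := 6) (m := 5) (by norm_num) (hc 6 (by norm_num)) (by norm_num) h8,
          ineqB_small (q := 5) (c := 6) (m := 5) (by norm_num) (by norm_num) (hc 6 (by norm_num)) (by norm_num) h8⟩
    · exact absurd rfl hq6
  · have hg : Nat.gcd n (q + 1) ≤ n := Nat.gcd_le_left _ (by omega)
    refine ⟨fun _ => lt_of_le_of_lt (Nat.add_le_add_right ?_ 1) (ineqA_seven h7 n hn),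
      lt_of_le_of_lt (Nat.add_le_add_right ?_ _) (ineqB_seven h7 n hn)⟩
    · exact Nat.mul_le_mul (Nat.mul_le_mul le_rfl hg) le_rfl
    · calc 2 * q * n ^ 2 * Nat.gcd n (q + 1) ≤ 2 * q * n ^ 2 * n := Nat.mul_le_mul le_rfl hg
        _ = 2 * q * n ^ 3 := by ring

end Cfsg.Agent.H372.DerU
end

-- part: H372/DerU/Ntc
section
/-!
# S3502, the rows `PSU n F q`, `n ≥ 4`: `NTC` (helper372)

* `ntc_psu` : `NTC (PSU n F q)` for `n ≥ 4`, `(n, q) ≠ (4, 2), (4, 3), (5, 2), (6, 2), (5, 4)`.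
* `ntc_ne`  : the primes different from `41` for `(5, 4)`.
-/

set_option autoImplicit false

namespace Cfsg.Agent.H372.DerU

open Cfsg Cfsg.Agent.H439.Der Cfsg.Agent.H403 Cfsg.Agent.H403.NumTop
open Cfsg.Agent.LieClassical.HermBasic
open Cfsg.Agent.H948.UBase Cfsg.Agent.H948.UProd Cfsg.Agent.H948.UTorus Cfsg.Agent.H948.UMain

theorem ph_iff {q i v : ℕ} (hq : 1 ≤ q) : v ∣ ph q i ↔ ((xv false q : ℤ) : ZMod v) ^ (i + 1) = 1 := by
  have h1 := Cfsg.Agent.H360.Iso.ph_cast hq i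
  have h2 : ((xv false q : ℤ) : ZMod v) = -(q : ZMod v) := by simp [xv]
  have h3 : ((-1 : ZMod v)) ^ (i + 1) * (-1) ^ (i + 1) = 1 := by rw [← mul_pow]; norm_num
  rw [h2, neg_pow, ← ZMod.natCast_eq_zero_iff]
  have h4 : ((ph q i : ℕ) : ZMod v) = (q : ZMod v) ^ (i + 1) - (-1) ^ (i + 1) := by
    have := congrArg (fun z : ℤ => (z : ZMod v)) h1
    simpa using this
  rw [h4, sub_eq_zero]
  constructor
  · intro h
    rw [h, h3]
  · intro h
    calc (q : ZMod v) ^ (i + 1) = ((-1) ^ (i + 1) * (-1) ^ (i + 1)) * (q : ZMod v) ^ (i + 1) := by rw [h3, one_mul]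
      _ = (-1) ^ (i + 1) * ((-1) ^ (i + 1) * (q : ZMod v) ^ (i + 1)) := by ring
      _ = (-1) ^ (i + 1) := by rw [h, mul_one]

theorem order_sub {n q v : ℕ} (hq : 1 ≤ q) (hn : 2 ≤ n) (hlt : ∀ i : ℕ, i < n - 2 → ¬ v ∣ ph q i)
    (h : v ∣ ph q (n - 2)) : orderOf ((xv false q : ℤ) : ZMod v) = n - 1 := by
  have h1 := (ph_iff hq).1 h
  have e : n - 2 + 1 = n - 1 := by omega
  rw [e] at h1
  have h2 := orderOf_dvd_of_pow_eq_one h1
  have h3 := Nat.le_of_dvd (by omega) h2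
  have h4 : 0 < orderOf ((xv false q : ℤ) : ZMod v) := Nat.pos_of_dvd_of_pos h2 (by omega)
  by_contra hne
  refine hlt (orderOf ((xv false q : ℤ) : ZMod v) - 1) (by omega) ((ph_iff hq).2 ?_)
  rw [Nat.sub_add_cancel h4, pow_orderOf_eq_one]

theorem order_top {n q v : ℕ} (hq : 1 ≤ q) (hn : 3 ≤ n) (hlt : ∀ i : ℕ, i < n - 2 → ¬ v ∣ ph q i)
    (h : v ∣ ph q (n - 1)) : orderOf ((xv false q : ℤ) : ZMod v) = n := by
  have h1 := (ph_iff hq).1 h
  have e : n - 1 + 1 = n := by omega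
  rw [e] at h1
  have h2 := orderOf_dvd_of_pow_eq_one h1
  have h3 := Nat.le_of_dvd (by omega) h2
  have h4 : 0 < orderOf ((xv false q : ℤ) : ZMod v) := Nat.pos_of_dvd_of_pos h2 (by omega)
  by_contra hne
  rcases Nat.lt_or_ge (orderOf ((xv false q : ℤ) : ZMod v)) (n - 1) with h5 | h5
  · refine hlt (orderOf ((xv false q : ℤ) : ZMod v) - 1) (by omega) ((ph_iff hq).2 ?_)
    rw [Nat.sub_add_cancel h4, pow_orderOf_eq_one]
  · have h6 : orderOf ((xv false q : ℤ) : ZMod v) = n - 1 := by omega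
    rw [h6] at h2
    have h7 : n - 1 ∣ (n - 1) + 1 := by rwa [Nat.sub_add_cancel (by omega)]
    have h8 := Nat.dvd_one.1 ((Nat.dvd_add_right dvd_rfl).1 h7)
    omega

theorem pow_le_ph (q i : ℕ) (hq : 1 ≤ q) : q ^ (i + 1) ≤ ph q i + 1 := by
  have h1 : 1 ≤ q ^ (i + 1) := Nat.one_le_pow _ _ hq
  unfold ph
  split_ifs <;> omega

variable {F : Type} [Field F] [Fintype F] {n q : ℕ}

/-- **Primes for which `-q` has order `n - 1`** -/
theorem not_scc_sub (hF : Fintype.card F = q ^ 2) (hn : 3 ≤ n) (h32 : ¬ (n = 3 ∧ q = 2)) (hI : IneqB n q) {v : ℕ}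
    (hv : v.Prime) (hvq1 : ¬ v ∣ q + 1) (hord : orderOf ((xv false q : ℤ) : ZMod v) = n - 1)
    (h : v ∣ ph q (n - 2)) : ¬ SCC (PSU n F q) v := by
  intro hs
  have hq := two_le hF
  have hfin : Finite (PSU n F q) := inferInstance
  have hvg : ¬ v ∣ Nat.gcd n (q + 1) := fun h => hvq1 (h.trans (Nat.gcd_dvd_right _ _))
  have hg0 : 0 < Nat.gcd n (q + 1) := Nat.gcd_pos_of_pos_right _ (by omega)
  obtain ⟨x, hx⟩ := Cfsg.Agent.H360.Iso.exists_subU hF (n := n) (by omega)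
  have h5 : v ∣ orderOf x := ((hv.dvd_mul).1 (h.trans hx)).resolve_right hvg
  have hb := scc_bound hF hn h32 hv hord (by omega) (by omega) h5 hs
  have hvn : n ≤ v := by
    have h6 := order_dvd_pred hv (by omega) hord
    have h7 := Nat.le_of_dvd (by have := hv.two_le; omega) h6
    omega
  have h8 := Nat.le_of_dvd (Nat.mul_pos (orderOf_pos x) hg0) hx
  have h9 := pow_le_ph q (n - 2) (by omega)
  have e : n - 2 + 1 = n - 1 := by omega
  rw [e] at h9
  have hA := Cfsg.Agent.H219.RowPsu.card_aut_le hF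
  obtain ⟨N, hN⟩ : ∃ N, N = orderOf x := ⟨_, rfl⟩
  obtain ⟨A, hA'⟩ : ∃ A, A = Nat.card (F ≃+* F) := ⟨_, rfl⟩
  obtain ⟨g, hg⟩ : ∃ g, g = Nat.gcd n (q + 1) := ⟨_, rfl⟩
  unfold IneqB at hI
  rw [← hg] at h8 hI
  rw [← hN] at h8 hb
  rw [← hA'] at hb hA
  -- `(n - 1) N ≤ 2 q n²`
  have h10 : N / v ≤ N / n := Nat.div_le_div_left hvn (by omega)
  have h11 : n * (N / n) ≤ N := Nat.mul_div_le N n
  have h12 : A * n ≤ q * n := Nat.mul_le_mul hA le_rfl
  obtain ⟨k, rfl⟩ : ∃ k, n = k + 1 := ⟨n - 1, by omega⟩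
  rw [Nat.add_sub_cancel] at hI h9
  have h13 : k * N ≤ 2 * q * (k + 1) ^ 2 := by
    have h14 : (k + 1) * N ≤ (k + 1) * (2 * (q * (k + 1)) + N / (k + 1)) := Nat.mul_le_mul le_rfl (by omega)
    have e1 : (k + 1) * (2 * (q * (k + 1)) + N / (k + 1)) = 2 * q * (k + 1) ^ 2 + (k + 1) * (N / (k + 1)) := by ring
    have e2 : (k + 1) * N = k * N + N := by ring
    omega
  have h15 : k * q ^ k ≤ k * (N * g + 1) := Nat.mul_le_mul le_rfl (by omega)
  have h16 : k * N * g ≤ 2 * q * (k + 1) ^ 2 * g := Nat.mul_le_mul h13 le_rfl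
  have h17 : k * (N * g + 1) = k * N * g + k := by ring
  omega

/-- **Primes for which `-q` has order `n`** -/
theorem not_scc_top (hF : Fintype.card F = q ^ 2) (hn : 3 ≤ n) (h32 : ¬ (n = 3 ∧ q = 2)) (hI : IneqA n q) {v : ℕ}
    (hv : v.Prime) (hvq1 : ¬ v ∣ q + 1) (hord : orderOf ((xv false q : ℤ) : ZMod v) = n)
    (h : v ∣ ph q (n - 1)) : ¬ SCC (PSU n F q) v := by
  intro hs
  have hq := two_le hF
  have hfin : Finite (PSU n F q) := inferInstance
  have hvg : ¬ v ∣ Nat.gcd n (q + 1) := fun h => hvq1 (h.trans (Nat.gcd_dvd_right _ _))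
  have hg0 : 0 < Nat.gcd n (q + 1) := Nat.gcd_pos_of_pos_right _ (by omega)
  obtain ⟨x, hx⟩ := Cfsg.Agent.H360.Iso.exists_topU hF (n := n) (by omega)
  have h5 : v ∣ orderOf x := ((hv.dvd_mul).1 (((hv.dvd_mul).1 (h.trans hx)).resolve_right hvq1)).resolve_right hvg
  have hb := scc_bound hF hn h32 hv hord (by omega) (by omega) h5 hs
  have hvn : n + 1 ≤ v := by
    have h6 := order_dvd_pred hv (by omega) hord
    have h7 := Nat.le_of_dvd (by have := hv.two_le; omega) h6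
    omega
  have h8 := Nat.le_of_dvd (Nat.mul_pos (Nat.mul_pos (orderOf_pos x) hg0) (by omega)) hx
  have h9 := pow_le_ph q (n - 1) (by omega)
  have e : n - 1 + 1 = n := by omega
  rw [e] at h9
  have hA := Cfsg.Agent.H219.RowPsu.card_aut_le hF
  obtain ⟨N, hN⟩ : ∃ N, N = orderOf x := ⟨_, rfl⟩
  obtain ⟨A, hA'⟩ : ∃ A, A = Nat.card (F ≃+* F) := ⟨_, rfl⟩
  obtain ⟨g, hg⟩ : ∃ g, g = Nat.gcd n (q + 1) := ⟨_, rfl⟩
  unfold IneqA at hI
  rw [← hg] at h8 hI
  rw [← hN] at h8 hb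
  rw [← hA'] at hb hA
  have h10 : N / v ≤ N / (n + 1) := Nat.div_le_div_left hvn (by omega)
  have h11 : (n + 1) * (N / (n + 1)) ≤ N := Nat.mul_div_le N (n + 1)
  have h12 : A * n ≤ q * n := Nat.mul_le_mul hA le_rfl
  -- `N ≤ 2 (n + 1) q`
  have h13 : N ≤ 2 * (n + 1) * q := by
    have h14 : (n + 1) * N ≤ (n + 1) * (2 * (q * n) + N / (n + 1)) := Nat.mul_le_mul le_rfl (by omega)
    have h15 : n * N ≤ n * (2 * (n + 1) * q) := by
      have e1 : (n + 1) * (2 * (q * n) + N / (n + 1)) = n * (2 * (n + 1) * q) + (n + 1) * (N / (n + 1)) := by ring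
      have e2 : (n + 1) * N = n * N + N := by ring
      omega
    exact Nat.le_of_mul_le_mul_left h15 (by omega)
  have h16 : N * g * (q + 1) ≤ 2 * (n + 1) * q * g * (q + 1) :=
    Nat.mul_le_mul (Nat.mul_le_mul h13 le_rfl) le_rfl
  omega

theorem ne_six (hF : Fintype.card F = q ^ 2) : q ≠ 6 := by
  rintro rfl
  obtain ⟨p, k, hp, -, hk, -⟩ := exists_prime_pow hF
  have h2 := (Nat.prime_dvd_prime_iff_eq Nat.prime_two hp).1
    (Nat.prime_two.dvd_of_dvd_pow (hk ▸ (by norm_num : 2 ∣ 6)))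
  have h3 := (Nat.prime_dvd_prime_iff_eq Nat.prime_three hp).1
    (Nat.prime_three.dvd_of_dvd_pow (hk ▸ (by norm_num : 3 ∣ 6)))
  omega

/-- the primes of `PSU n F q` -/
theorem ntc_aux (hF : Fintype.card F = q ^ 2) (hn : 4 ≤ n)
    (hex : (n, q) ∉ ({(4, 2), (4, 3), (5, 2), (6, 2)} : Finset (ℕ × ℕ))) {v : ℕ} (hv : v.Prime)
    (hd : v ∣ Nat.card (PSU n F q)) (h54 : n = 5 → q = 4 → ¬ v ∣ ph q 4) : ¬ SCC (PSU n F q) v := by
  have hq := two_le hF
  have hq6 := ne_six hF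
  obtain ⟨hIA, hIB⟩ := ineqs hn hq hq6 hex
  have hcond : 4 ≤ q ∨ (q = 3 ∧ 5 ≤ n) ∨ (q = 2 ∧ 7 ≤ n) := by
    simp only [Finset.mem_insert, Finset.mem_singleton, Prod.mk.injEq, not_or, not_and] at hex
    omega
  by_cases hvq : v ∣ q
  · refine not_scc_block hF hn hcond hv ?_
    have h1 : Nat.card (SU 2 F q) ∣ Nat.card (SU (n - 2) F q) := H372.FxU.card_dvd hF (by omega)
    refine dvd_trans ?_ h1
    rw [H372.FxU.card_two hF]
    exact Dvd.dvd.mul_right hvq _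
  by_cases hlt : ∀ i : ℕ, i < n - 2 → ¬ v ∣ ph q i
  swap
  · push Not at hlt
    obtain ⟨i, hi, hid⟩ := hlt
    exact not_scc_block hF hn hcond hv (dvd_card_SU hF (by omega) hi hid)
  have hvq1 : ¬ v ∣ q + 1 := fun h => hlt 0 (by omega) (by rw [ph_zero]; exact h)
  rcases (prime_dvd_card_PSU hF (by omega) hv hd) with h | ⟨i, hi, hid⟩
  · exact absurd h hvq
  rcases Nat.lt_or_ge i (n - 2) with h3 | h3
  · exact absurd hid (hlt i h3)
  rcases Nat.lt_or_ge i (n - 1) with h4 | h4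
  · obtain rfl : i = n - 2 := by omega
    exact not_scc_sub hF (by omega) (by omega) hIB hv hvq1 (order_sub (by omega) (by omega) hlt hid) hid
  · obtain rfl : i = n - 1 := by omega
    refine not_scc_top hF (by omega) (by omega) (hIA ?_) hv hvq1 (order_top (by omega) (by omega) hlt hid) hid
    rintro ⟨rfl, rfl⟩
    exact h54 rfl rfl hid

/-- **`NTC` for `PSU n F q`** -/
theorem ntc_psu (hF : Fintype.card F = q ^ 2) (hn : 4 ≤ n)
    (hex : (n, q) ∉ ({(4, 2), (4, 3), (5, 2), (6, 2)} : Finset (ℕ × ℕ))) (h54 : ¬ (n = 5 ∧ q = 4)) :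
    NTC (PSU n F q) := fun _ hv hd => ntc_aux hF hn hex hv hd fun h1 h2 => absurd ⟨h1, h2⟩ h54

/-- the primes of `PSU 5 F 4` -/
theorem ntc_ne (hF : Fintype.card F = 4 ^ 2) {v : ℕ} (hv : v.Prime) (hd : v ∣ Nat.card (PSU 5 F 4)) (h41 : v ≠ 41) :
    ¬ SCC (PSU 5 F 4) v := by
  by_cases h : v ∣ ph 4 4
  · have h1 : ph 4 4 = 5 * 5 * 41 := by unfold ph; norm_num [Nat.even_iff]
    rw [h1] at h
    have h5 : v = 5 := by
      rcases hv.dvd_mul.1 h with h2 | h2
      · rcases hv.dvd_mul.1 h2 with h3 | h3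
        · exact (Nat.prime_dvd_prime_iff_eq hv (by norm_num)).1 h3
        · exact (Nat.prime_dvd_prime_iff_eq hv (by norm_num)).1 h3
      · exact absurd ((Nat.prime_dvd_prime_iff_eq hv (by norm_num)).1 h2) h41
    subst h5
    exact not_scc_block hF (by norm_num) (Or.inl le_rfl) hv
      (dvd_card_SU hF (by norm_num) (i := 0) (by norm_num) (by rw [ph_zero]))
  · exact ntc_aux hF (by norm_num) (by decide) hv hd fun _ _ => h

end Cfsg.Agent.H372.DerU
end

private theorem dce_10ae7723e3f4 : _root_.True := by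
  try have : _root_.True := by simp only [_root_.Cfsg.Agent.Phan.emb.congr_simp]
  exact _root_.True.intro
end

-- part: H410/Three/Psl2_mg
section
prune_inst 0x450004340130000080000001000000010080000b000000000808002400200200000820000000010000228000100050008010000000000000000000000000101000000800010400000420000800000000000000000000000000000000000000004000000000
set_option linter.all false
open scoped Cfsg.Agent.FastGrp

-- part: H410/Three/Psl2Cl
section
/-!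
# Classes of semisimple elements of `PSL₂(q)` under `Aut` (helper410, S3502)

`totient_le` : if every element of order `n` (prime to `p`) is `Aut T`-conjugate to one of `m` given elements, then
`φ(n) ≤ 2 m f` (`q = p ^ f`). In particular `not_SC_of_totient`, `not_SCC_of_totient`.
-/

set_option autoImplicit false

namespace Cfsg.Agent.H410.Three.Psl2

open Matrix Subgroup Cfsg.Agent.H439.Der
open Cfsg.Agent.ClassicalGeometry.AutPSL.Root (pr pr_surjective)
open Cfsg.Agent.ClassicalGeometry.AutPSL.Auto (cj fld lift lift_pr coe_cj coe_fld_apply)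

variable {F : Type*} [Field F]

/-- the trace -/
def tr (X : SpecialLinearGroup (Fin 2) F) : F := (X : Matrix (Fin 2) (Fin 2) F).trace

theorem coe_sq (X : SpecialLinearGroup (Fin 2) F) :
    (X : Matrix (Fin 2) (Fin 2) F) * X = tr X • (X : Matrix (Fin 2) (Fin 2) F) - 1 := by
  have h := X.det_coe
  rw [Matrix.det_fin_two] at h
  unfold tr
  rw [Matrix.trace_fin_two]
  ext i j
  fin_cases i <;> fin_cases j
  · simp [Matrix.mul_apply, Fin.sum_univ_two]
    linear_combination (-1 : F) * h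
  · simp [Matrix.mul_apply, Fin.sum_univ_two]
    ring
  · simp [Matrix.mul_apply, Fin.sum_univ_two]
    ring
  · simp [Matrix.mul_apply, Fin.sum_univ_two]
    linear_combination (-1 : F) * h

theorem coe_pow' (X : SpecialLinearGroup (Fin 2) F) (n : ℕ) :
    ((X ^ n : SpecialLinearGroup (Fin 2) F) : Matrix (Fin 2) (Fin 2) F) = (X : Matrix (Fin 2) (Fin 2) F) ^ n :=
  Matrix.SpecialLinearGroup.coe_pow X n

theorem tr_def (X : SpecialLinearGroup (Fin 2) F) : tr X = (X : Matrix (Fin 2) (Fin 2) F).trace := rfl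

theorem tr_pow_add_two (X : SpecialLinearGroup (Fin 2) F) (k : ℕ) :
    tr (X ^ (k + 2)) = tr X * tr (X ^ (k + 1)) - tr (X ^ k) := by
  rw [tr_def, tr_def (X ^ (k + 1)), tr_def (X ^ k), coe_pow', coe_pow', coe_pow', pow_add _ k 2, pow_two,
    coe_sq, mul_sub, mul_one, mul_smul_comm, ← pow_succ, Matrix.trace_sub, Matrix.trace_smul, smul_eq_mul]

theorem exists_zeta (X : SpecialLinearGroup (Fin 2) F) : ∃ ζ : AlgebraicClosure F, ζ ≠ 0 ∧
    ∀ k : ℕ, algebraMap F (AlgebraicClosure F) (tr (X ^ k)) = ζ ^ k + (ζ ^ k)⁻¹ := by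
  set K := AlgebraicClosure F
  set t : K := algebraMap F K (tr X) with ht
  obtain ⟨ζ, hζ⟩ : ∃ ζ : K, ζ * ζ - t * ζ + 1 = 0 := by
    have h1 : (Polynomial.X ^ 2 - Polynomial.C t * Polynomial.X + 1 : Polynomial K).degree ≠ 0 := by
      have : (Polynomial.X ^ 2 - Polynomial.C t * Polynomial.X + 1 : Polynomial K).degree = 2 := by compute_degree!
      rw [this]
      norm_num
    obtain ⟨ζ, hζ⟩ := IsAlgClosed.exists_root _ h1
    refine ⟨ζ, ?_⟩
    simpa [Polynomial.IsRoot, pow_two] using hζ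
  have h0 : ζ ≠ 0 := by
    rintro rfl
    simp at hζ
  refine ⟨ζ, h0, ?_⟩
  have ht2 : t = ζ + ζ⁻¹ := by
    have h1 : t * ζ = (ζ + ζ⁻¹) * ζ := by
      rw [add_mul, inv_mul_cancel₀ h0]
      linear_combination -hζ
    exact mul_right_cancel₀ h0 h1
  intro k
  induction k using Nat.twoStepInduction with
  | zero =>
    rw [pow_zero, pow_zero]
    have : tr (1 : SpecialLinearGroup (Fin 2) F) = 2 := by simp [tr]
    rw [this, map_ofNat]
    norm_num
  | one => rw [pow_one, pow_one, ← ht, ht2]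
  | more k ih1 ih2 =>
    rw [tr_pow_add_two, map_sub, map_mul, ih1, ih2, ← ht, ht2]
    have hk : ζ ^ k ≠ 0 := pow_ne_zero _ h0
    rw [show ζ ^ (k + 2) = ζ ^ k * ζ * ζ by ring, show ζ ^ (k + 1) = ζ ^ k * ζ by ring]
    field_simp
    ring

theorem coe_of_pr_eq {X Y : SpecialLinearGroup (Fin 2) F} (h : pr X = pr Y) :
    ∃ c : F, c * c = 1 ∧ (X : Matrix (Fin 2) (Fin 2) F) = c • (Y : Matrix (Fin 2) (Fin 2) F) := by
  have h1 : Y⁻¹ * X ∈ Subgroup.center (SpecialLinearGroup (Fin 2) F) := QuotientGroup.eq.1 h.symm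
  obtain ⟨c, hc, hc'⟩ := Matrix.SpecialLinearGroup.mem_center_iff.1 h1
  rw [Fintype.card_fin] at hc
  refine ⟨c, by rw [← pow_two, hc], ?_⟩
  have h2 : X = Y * (Y⁻¹ * X) := by group
  have h3 : (X : Matrix (Fin 2) (Fin 2) F) = (Y : Matrix (Fin 2) (Fin 2) F) *
      ((Y⁻¹ * X : SpecialLinearGroup (Fin 2) F) : Matrix (Fin 2) (Fin 2) F) := by
    conv_lhs => rw [h2]
    exact Matrix.SpecialLinearGroup.coe_mul _ _
  rw [h3, ← hc', Matrix.scalar_apply, ← Matrix.smul_one_eq_diagonal, mul_smul_comm, mul_one]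

/-- the square of the trace of a lift -/
theorem tau_pr {X Y : SpecialLinearGroup (Fin 2) F} (h : pr X = pr Y) : tr X ^ 2 = tr Y ^ 2 := by
  obtain ⟨c, hc, h1⟩ := coe_of_pr_eq h
  unfold tr
  rw [h1, Matrix.trace_smul, smul_eq_mul, mul_pow, pow_two c, hc, one_mul]

theorem tr_cj (A : GL (Fin 2) F) (X : SpecialLinearGroup (Fin 2) F) : tr (cj A X) = tr X := by
  unfold tr
  rw [coe_cj, Matrix.trace_mul_cycle, ← Units.val_mul, inv_mul_cancel, Units.val_one, one_mul]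

theorem tr_fld (σ : F ≃+* F) (X : SpecialLinearGroup (Fin 2) F) : tr (fld σ X) = σ (tr X) := by
  unfold tr
  rw [Matrix.trace_fin_two, Matrix.trace_fin_two, map_add, coe_fld_apply, coe_fld_apply]

theorem tau_aut [Fintype F] (p : ℕ) [Fact p.Prime] [CharP F p]
    (φ : ProjectiveSpecialLinearGroup (Fin 2) F ≃* ProjectiveSpecialLinearGroup (Fin 2) F)
    {X Y : SpecialLinearGroup (Fin 2) F} (h : φ (pr X) = pr Y) : ∃ σ : F ≃+* F, tr Y ^ 2 = σ (tr X ^ 2) := by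
  obtain ⟨A, σ, hA⟩ := Cfsg.Agent.ClassicalGeometry.AutPSL.Main.surj_two p (φ : MulAut _)
  refine ⟨σ, ?_⟩
  have h1 : pr (cj A (fld σ X)) = pr Y := by
    rw [← h]
    have h2 : φ (pr X) = lift (cj A * fld σ) (pr X) := by rw [← hA]
    rw [h2, lift_pr, MulAut.mul_apply]
  rw [← tau_pr h1, tr_cj, tr_fld, map_pow]

/-- `tr = ±2` : unipotent up to sign -/
theorem pow_of_tr {p : ℕ} [hp : Fact p.Prime] [CharP F p] {Y : SpecialLinearGroup (Fin 2) F} {ε : F} (hε : ε * ε = 1)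
    (h : tr Y = 2 * ε) : (pr Y) ^ p = 1 := by
  obtain ⟨M, hM⟩ : ∃ M : Matrix (Fin 2) (Fin 2) F, (Y : Matrix (Fin 2) (Fin 2) F) = M := ⟨_, rfl⟩
  have h1 : (M - ε • 1) * (M - ε • 1) = 0 := by
    have h2 := coe_sq Y
    rw [h, hM] at h2
    rw [sub_mul, mul_sub, mul_sub, h2]
    simp only [smul_mul_assoc, mul_smul_comm, one_mul, mul_one, smul_smul, hε]
    rw [mul_smul, one_smul, two_smul]
    abel
  have hchM : CharP (Matrix (Fin 2) (Fin 2) F) p := inferInstance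
  have h3 : (M - ε • 1) ^ p = 0 := by
    obtain ⟨r, hr⟩ : ∃ r, p = r + 2 := ⟨p - 2, by have := hp.out.two_le; omega⟩
    rw [hr, pow_add, pow_two, h1, mul_zero]
  have h4 : M ^ p = (ε ^ p) • (1 : Matrix (Fin 2) (Fin 2) F) := by
    have h5 : (M - ε • 1) ^ p = M ^ p - (ε • 1) ^ p := by
      rw [sub_pow_char_of_commute]
      exact (Commute.one_right M).smul_right ε
    rw [h3, smul_pow, one_pow] at h5
    exact (sub_eq_zero.1 h5.symm)
  have h6 : Y ^ p ∈ Subgroup.center (SpecialLinearGroup (Fin 2) F) := by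
    rw [Matrix.SpecialLinearGroup.mem_center_iff]
    refine ⟨ε ^ p, ?_, ?_⟩
    · rw [Fintype.card_fin, ← pow_mul, mul_comm, pow_mul, pow_two, hε, one_pow]
    · rw [coe_pow', hM, h4]
      ext i j
      simp [Matrix.scalar_apply, Matrix.diagonal_apply, Matrix.one_apply]
  have h7 : pr (Y ^ p) = 1 := (QuotientGroup.eq_one_iff _).2 h6
  rw [← h7]
  exact (map_pow pr Y p).symm

theorem pow_eq_one_of_zeta {p : ℕ} [hp : Fact p.Prime] [CharP F p] {X : SpecialLinearGroup (Fin 2) F}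
    {ζ : AlgebraicClosure F}
    (hζ : ∀ k : ℕ, algebraMap F (AlgebraicClosure F) (tr (X ^ k)) = ζ ^ k + (ζ ^ k)⁻¹)
    (hpn : ¬ p ∣ orderOf (pr X)) {m : ℕ} (h : ζ ^ (2 * m) = 1) : orderOf (pr X) ∣ m := by
  have h1 : (ζ ^ m) * (ζ ^ m) = 1 := by rw [← pow_add, ← two_mul, h]
  have h2 : ∃ ε : F, ε * ε = 1 ∧ algebraMap F (AlgebraicClosure F) ε = ζ ^ m := by
    rcases mul_self_eq_one_iff.1 h1 with h3 | h3
    · exact ⟨1, by ring, by rw [map_one, h3]⟩
    · exact ⟨-1, by ring, by rw [map_neg, map_one, h3]⟩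
  obtain ⟨ε, hε, hε'⟩ := h2
  have h4 : tr (X ^ m) = 2 * ε := by
    apply (algebraMap F (AlgebraicClosure F)).injective
    rw [hζ, map_mul, hε', map_ofNat]
    have h5 : (ζ ^ m)⁻¹ = ζ ^ m := inv_eq_of_mul_eq_one_left h1
    rw [h5]; ring
  have h5 := pow_of_tr (p := p) hε h4
  have h6 : (pr X) ^ (m * p) = 1 := by rw [pow_mul, ← h5]; rw [map_pow]
  exact (Nat.Coprime.dvd_of_dvd_mul_right (((Nat.Prime.coprime_iff_not_dvd hp.out).2 hpn).symm)
    (orderOf_dvd_of_pow_eq_one h6))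

theorem tau_inj {p : ℕ} [hp : Fact p.Prime] [CharP F p] {X : SpecialLinearGroup (Fin 2) F}
    (hpn : ¬ p ∣ orderOf (pr X)) {k j : ℕ} (h : tr (X ^ k) ^ 2 = tr (X ^ j) ^ 2) :
    orderOf (pr X) ∣ k + j ∨ k ≡ j [MOD orderOf (pr X)] := by
  wlog hkj : j ≤ k generalizing k j
  · rcases this h.symm (by omega) with h1 | h1
    · left; rwa [add_comm]
    · exact Or.inr h1.symm
  obtain ⟨ζ, h0, hζ⟩ := exists_zeta X
  have h1 := congrArg (algebraMap F (AlgebraicClosure F)) h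
  rw [map_pow, map_pow, hζ, hζ] at h1
  set a := ζ ^ k with ha
  set b := ζ ^ j with hb
  have ha0 : a ≠ 0 := pow_ne_zero _ h0
  have hb0 : b ≠ 0 := pow_ne_zero _ h0
  have h2 : (a * a - b * b) * (a * a * (b * b) - 1) = 0 := by
    field_simp at h1
    linear_combination h1
  rcases mul_eq_zero.1 h2 with h3 | h3
  · right
    obtain ⟨i, rfl⟩ : ∃ i, k = j + i := ⟨k - j, by omega⟩
    have h4 : ζ ^ (2 * i) = 1 := by
      have h5 : a * a = b * b * ζ ^ (2 * i) := by rw [ha, hb]; ring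
      have h6 : b * b * (ζ ^ (2 * i) - 1) = 0 := by rw [mul_sub, ← h5, mul_one, h3]
      rcases mul_eq_zero.1 h6 with h7 | h7
      · exact absurd h7 (mul_ne_zero hb0 hb0)
      · exact sub_eq_zero.1 h7
    have h8 := pow_eq_one_of_zeta hζ hpn h4
    have h9 : j + i ≡ j + 0 [MOD orderOf (pr X)] := Nat.ModEq.add_left j ((Nat.modEq_zero_iff_dvd).2 h8)
    simpa using h9
  · left
    apply pow_eq_one_of_zeta hζ hpn
    rw [← sub_eq_zero, ← h3, ha, hb]
    ring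

/-- **the number of classes of elements of order `n`** -/
theorem totient_le [Fintype F] {p f n m : ℕ} [hp : Fact p.Prime] [CharP F p] (hf : 1 ≤ f)
    (hF : Fintype.card F = p ^ f) (hn : 3 ≤ n) (hpn : ¬ p ∣ n)
    {x : ProjectiveSpecialLinearGroup (Fin 2) F} (hx : orderOf x = n)
    (a : Fin m → ProjectiveSpecialLinearGroup (Fin 2) F)
    (h : ∀ z : ProjectiveSpecialLinearGroup (Fin 2) F, n ∣ orderOf z →
      ∃ i, ∃ φ : ProjectiveSpecialLinearGroup (Fin 2) F ≃* ProjectiveSpecialLinearGroup (Fin 2) F, φ (a i) = z) :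
    n.totient ≤ 2 * (m * f) := by
  classical
  have : NeZero n := ⟨by omega⟩
  have : Finite (F ≃+* F) := Finite.of_injective (fun σ => (σ : F → F)) fun σ τ h => RingEquiv.ext (congrFun h)
  have : Fintype (F ≃+* F) := Fintype.ofFinite _
  obtain ⟨X, rfl⟩ := pr_surjective x
  choose A hA using fun i => pr_surjective (a i)
  let g : (ZMod n)ˣ → F := fun k => tr (X ^ (k : ZMod n).val) ^ 2
  let S : Finset F := Finset.univ.image (fun u : Fin m × (F ≃+* F) => u.2 (tr (A u.1) ^ 2))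
  have hgS : ∀ k, g k ∈ S := by
    intro k
    have ho : orderOf (pr X ^ (k : ZMod n).val) = n := by
      rw [Nat.Coprime.orderOf_pow (by rw [hx]; exact (ZMod.val_coe_unit_coprime k).symm), hx]
    obtain ⟨i, φ, hφ⟩ := h _ (by rw [ho])
    rw [← hA i, ← map_pow] at hφ
    obtain ⟨σ, hσ⟩ := tau_aut p φ hφ
    exact Finset.mem_image.2 ⟨(i, σ), Finset.mem_univ _, hσ.symm⟩
  have hS : S.card ≤ m * f := by
    refine Finset.card_image_le.trans ?_
    rw [Finset.card_univ, Fintype.card_prod, Fintype.card_fin, ← Nat.card_eq_fintype_card (α := F ≃+* F),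
      Cfsg.Agent.Lib.FieldAutCard.card_ringAut hf hF]
  have hfib : ∀ y ∈ (Finset.univ : Finset (ZMod n)ˣ).image g,
      ((Finset.univ : Finset (ZMod n)ˣ).filter (fun k => g k = y)).card ≤ 2 := by
    intro y hy
    obtain ⟨k₀, -, rfl⟩ := Finset.mem_image.1 hy
    have hsub : (Finset.univ : Finset (ZMod n)ˣ).filter (fun k => g k = g k₀) ⊆ {k₀, -k₀} := by
      intro k hk
      rw [Finset.mem_filter] at hk
      rw [Finset.mem_insert, Finset.mem_singleton]
      rcases tau_inj (p := p) (by rwa [hx]) hk.2 with h1 | h1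
      · right
        rw [hx] at h1
        apply Units.ext
        rw [Units.val_neg, eq_neg_iff_add_eq_zero]
        have h2 : (((k : ZMod n).val + (k₀ : ZMod n).val : ℕ) : ZMod n) = 0 := (ZMod.natCast_eq_zero_iff _ _).2 h1
        rwa [Nat.cast_add, ZMod.natCast_zmod_val, ZMod.natCast_zmod_val] at h2
      · left
        rw [hx] at h1
        apply Units.ext
        apply ZMod.val_injective n
        rw [Nat.ModEq, Nat.mod_eq_of_lt (ZMod.val_lt _), Nat.mod_eq_of_lt (ZMod.val_lt _)] at h1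
        exact h1
    exact (Finset.card_le_card hsub).trans (Finset.card_le_two)
  have h1 := Finset.card_le_mul_card_image (Finset.univ : Finset (ZMod n)ˣ) 2 hfib
  rw [Finset.card_univ, ZMod.card_units_eq_totient] at h1
  have h2 : ((Finset.univ : Finset (ZMod n)ˣ).image g).card ≤ S.card :=
    Finset.card_le_card (fun y hy => by
      obtain ⟨k, -, rfl⟩ := Finset.mem_image.1 hy
      exact hgS k)
  exact h1.trans (Nat.mul_le_mul_left 2 (h2.trans hS))

theorem not_SC_of_totient [Fintype F] {p f n : ℕ} [hp : Fact p.Prime] [CharP F p] (hf : 1 ≤ f)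
    (hF : Fintype.card F = p ^ f) (hn : 3 ≤ n) (hpn : ¬ p ∣ n)
    {x : ProjectiveSpecialLinearGroup (Fin 2) F} (hx : orderOf x = n) (h : 2 * f < n.totient) :
    ¬ SC (ProjectiveSpecialLinearGroup (Fin 2) F) n := by
  intro hs
  have h1 := totient_le (m := 1) hf hF hn hpn hx (fun _ => x) (fun z hz => by
    obtain ⟨φ, hφ⟩ := hs x z (by rw [hx]) hz
    exact ⟨0, φ, hφ⟩)
  omega

theorem not_SCC_of_totient [Fintype F] {p f n : ℕ} [hp : Fact p.Prime] [CharP F p] (hf : 1 ≤ f)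
    (hF : Fintype.card F = p ^ f) (hn : 3 ≤ n) (hpn : ¬ p ∣ n)
    {x : ProjectiveSpecialLinearGroup (Fin 2) F} (hx : orderOf x = n) (h : 4 * f < n.totient) :
    ¬ SCC (ProjectiveSpecialLinearGroup (Fin 2) F) n := by
  rintro ⟨a, b, hs⟩
  have h1 := totient_le (m := 2) hf hF hn hpn hx ![a, b] (fun z hz => by
    rcases hs z hz with ⟨φ, hφ⟩ | ⟨φ, hφ⟩
    · exact ⟨0, φ, hφ⟩
    · exact ⟨1, φ, hφ⟩)
  omega

end Cfsg.Agent.H410.Three.Psl2
end

-- part: H410/Three/Psl2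
section
/-!
# Three classes of derangements (S3502): `PSL₂(q)` (helper410)

`rowS_psl2`: `RowS (PSL₂(q))` for `q ≥ 4`, `q ∉ {4,5,7,8,9}`.
-/

set_option autoImplicit false
set_option linter.unusedSectionVars false

namespace Cfsg.Agent.H410.Three.Psl2

open Subgroup Cfsg Cfsg.Agent.H439.Der Cfsg.Agent.H383.Der.Psl2

section

variable {F : Type*} [Field F] [Fintype F] {p f q d np nm : ℕ}

local notation "T2" => Matrix.ProjectiveSpecialLinearGroup (Fin 2) F

/-- Dickson's theorem, numerically, with a little more information -/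
theorem dickson' [Fact p.Prime] [CharP F p] (hF : Fintype.card F = q) (h : Ar p f q d np nm) (M : Subgroup T2)
    (hM : M ≠ ⊤) :
    (∃ k, (k ∣ np ∨ k ∣ nm) ∧ Nat.card M ∣ 2 * k) ∨
    (∃ (P : Sylow p T2) (K : Subgroup T2), K ≤ normalizer ((P : Subgroup T2) : Set T2) ∧ Nonempty (M ≃* K)) ∨
    ((∀ m ∈ M, orderOf m ≤ 5) ∧ (¬ 5 ∣ Nat.card M ∨ Nonempty (M ≃* alternatingGroup (Fin 5)))) ∨
    (∃ q0 m : ℕ, 2 ≤ q0 ∧ 2 ≤ m ∧ q0 ^ m = q ∧ p ∣ q0 ∧ Nat.card M ∣ q0 * (q0 ^ 2 - 1) ∧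
      (q = 16 → ∀ x ∈ M, orderOf x ≠ 15)) := by
  have : Finite T2 := finite_psl
  have h11 := h.hq11
  have hdick := Cfsg.Agent.S0799.result hF p M
  rw [← h.hd, ← h.hnp, ← h.hnm] at hdick
  rcases hdick with ⟨k, hk, hk'⟩ | hB | ⟨⟨e⟩⟩ | ⟨⟨e⟩⟩ | ⟨⟨e⟩⟩ | ⟨K, iK, iK', m, hm, he⟩
  · left
    refine ⟨k, hk, ?_⟩
    rcases hk' with ⟨-, h⟩ | ⟨⟨e⟩⟩
    · rw [h]; exact Dvd.intro_left 2 rfl
    · rw [Nat.card_congr e.toEquiv, DihedralGroup.nat_card]
  · exact Or.inr (Or.inl hB)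
  · refine Or.inr (Or.inr (Or.inl ⟨fun m hm => ?_, Or.inl ?_⟩))
    · have h1 := orderOf_A4 (e ⟨m, hm⟩)
      rwa [MulEquiv.orderOf_eq, ← Subgroup.orderOf_coe] at h1
    · rw [Nat.card_congr e.toEquiv, nat_card_alternatingGroup, Nat.card_eq_fintype_card, Fintype.card_fin]
      decide
  · refine Or.inr (Or.inr (Or.inl ⟨fun m hm => ?_, Or.inl ?_⟩))
    · have h1 := orderOf_S4 (e ⟨m, hm⟩)
      rwa [MulEquiv.orderOf_eq, ← Subgroup.orderOf_coe] at h1
    · rw [Nat.card_congr e.toEquiv, Nat.card_perm, Nat.card_eq_fintype_card, Fintype.card_fin]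
      decide
  · refine Or.inr (Or.inr (Or.inl ⟨fun m hm => ?_, Or.inr ⟨e⟩⟩))
    have h1 := orderOf_A5 (e ⟨m, hm⟩)
    rwa [MulEquiv.orderOf_eq, ← Subgroup.orderOf_coe] at h1
  · refine Or.inr (Or.inr (Or.inr ?_))
    obtain ⟨q0, hq0⟩ : ∃ q0, Fintype.card K = q0 := ⟨_, rfl⟩
    have hq01 : 1 < q0 := hq0 ▸ Fintype.one_lt_card
    rw [hq0] at hm
    have hm0 : m ≠ 0 := by rintro rfl; rw [pow_zero] at hm; omega
    have hpp := h.hp
    obtain ⟨a, -, ha⟩ := (Nat.dvd_prime_pow hpp).1 (show q0 ∣ p ^ f by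
      rw [← h.hq, ← hm]; exact dvd_pow_self q0 hm0)
    have ha0 : a ≠ 0 := by rintro rfl; rw [pow_zero] at ha; omega
    have hpq0 : p ∣ q0 := ha ▸ dvd_pow_self p ha0
    have hcT := Cfsg.Agent.H394.SqPsl2.card_psl (F := F)
    rw [hF] at hcT
    have hM1 : Nat.card M ∣ q0 * (q0 ^ 2 - 1) ∧ (q0 = q → Nat.card T2 ≤ Nat.card M) := by
      rcases he with ⟨⟨e⟩⟩ | ⟨⟨e⟩⟩
      · have h1 := Cfsg.Agent.H394.SqPsl2.card_psl (F := K)
        rw [hq0, ← Nat.card_congr e.toEquiv] at h1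
        refine ⟨⟨_, by rw [← h1]; ring⟩, ?_⟩
        rintro rfl
        rw [← hcT] at h1
        exact (Nat.eq_of_mul_eq_mul_left (Nat.gcd_pos_of_pos_left _ (by norm_num)) h1).ge
      · have h1 := Cfsg.Agent.H394.SqPsl2.card_pgl (F := K)
        rw [hq0, ← Nat.card_congr e.toEquiv] at h1
        refine ⟨by rw [h1], ?_⟩
        rintro rfl
        rw [h1, ← hcT]
        exact Nat.le_mul_of_pos_left _ (Nat.gcd_pos_of_pos_left _ (by norm_num))
    have hm2 : 2 ≤ m := by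
      by_contra hm2
      have hm1 : m = 1 := by omega
      rw [hm1, pow_one] at hm
      apply hM
      exact Subgroup.eq_top_of_le_card M (hM1.2 hm)
    refine ⟨q0, m, hq01, hm2, hm, hpq0, hM1.1, ?_⟩
    intro hq16 x hx hx15
    have hd15 : 15 ∣ Nat.card M := by
      rw [← hx15, ← Subgroup.orderOf_mk x hx]
      exact orderOf_dvd_natCard _
    -- `q0 = 4`
    have hp2 : p = 2 := by
      have h1 : p ∣ 2 ^ 4 := by
        rw [show (2 : ℕ) ^ 4 = q by rw [hq16]; norm_num, h.hq]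
        exact dvd_pow_self p (by have := h.hf; omega)
      exact (Nat.prime_dvd_prime_iff_eq hpp Nat.prime_two).1 (hpp.dvd_of_dvd_pow h1)
    subst hp2
    have hq0' : q0 = 4 := by
      have h1 : q0 ^ 2 ≤ 16 := by
        rw [← hq16, ← hm]
        exact Nat.pow_le_pow_right (by omega) hm2
      have h2 : q0 ≤ 4 := by nlinarith
      have h3 := hd15.trans hM1.1
      interval_cases q0
      · norm_num at h3
      · norm_num at hpq0
      · rfl
    subst hq0'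
    have : CharP K 2 := by
      obtain ⟨r, hr⟩ := CharP.exists K
      have hr' : r.Prime := CharP.char_is_prime K r
      obtain ⟨n, -, hn⟩ := FiniteField.card K r
      have h1 : r ∣ 2 ^ 2 := by
        rw [show (2 : ℕ) ^ 2 = Fintype.card K by rw [hq0]; norm_num, hn]
        exact dvd_pow_self r n.ne_zero
      rwa [(Nat.prime_dvd_prime_iff_eq hr' Nat.prime_two).1 (hr'.dvd_of_dvd_pow h1)] at hr
    obtain ⟨e⟩ : Nonempty (M ≃* Matrix.ProjectiveSpecialLinearGroup (Fin 2) K) := by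
      rcases he with he | ⟨⟨e⟩⟩
      · exact he
      · obtain ⟨e'⟩ := LieExceptional.PGLeqPSL.nonempty_pgl_mulEquiv_psl K (fun y => by
          obtain ⟨r, hr⟩ := (isSquare_iff_exists_sq y).1 (FiniteField.isSquare_of_char_two
            (ringChar.eq K 2) y)
          exact ⟨r, hr⟩)
        exact ⟨e.trans e'⟩
    have h1 : (15 : ℕ) ∈ Set.range (orderOf : Matrix.ProjectiveSpecialLinearGroup (Fin 2) K → ℕ) :=
      ⟨e ⟨x, hx⟩, by rw [MulEquiv.orderOf_eq, Subgroup.orderOf_mk, hx15]⟩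
    rw [Cfsg.Agent.H390.PslSpec.range_orderOf (p := 2) (by omega)] at h1
    have h2 : Cfsg.Agent.H390.PslSpec.dd 4 = 1 := by decide
    rw [hq0] at h1
    simp [Cfsg.Agent.H390.PslSpec.specSet, h2] at h1

theorem ord_dvd {M : Subgroup T2} {x : T2} (hx : x ∈ M) : orderOf x ∣ Nat.card M := by
  rw [← Subgroup.orderOf_mk x hx]
  exact orderOf_dvd_natCard _

/-- `2 f < np - 1` -/
theorem two_f (h : Ar p f q d np nm) : 2 * f < np - 1 := by
  have h1 := h.bound
  by_cases hp2 : p = 2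
  · obtain ⟨e, -⟩ := h.even hp2
    rw [e, mul_one] at h1
    exact h1
  · obtain ⟨e, -⟩ := h.odd hp2
    have := h.hf
    rw [e] at h1
    omega

theorem pow_two_lt : ∀ f : ℕ, 5 ≤ f → 4 * f + 2 < 2 ^ f := by
  intro f hf
  induction f, hf using Nat.le_induction with
  | base => norm_num
  | succ n hn ih => rw [pow_succ]; omega

/-- `4 f < np - 1` unless `q = 16` -/
theorem four_f (h : Ar p f q d np nm) (h16 : q ≠ 16) : 4 * f < np - 1 ∧ (p = 2 → 4 * f < nm - 1) := by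
  by_cases hp2 : p = 2
  · subst hp2
    obtain ⟨-, hf4, e1, e2, -⟩ := h.even rfl
    have hf5 : 5 ≤ f := by
      rcases Nat.eq_or_lt_of_le hf4 with h4 | h4
      · exfalso
        apply h16
        rw [h.hq, ← h4]
        norm_num
      · exact h4
    have := pow_two_lt f hf5
    rw [← h.hq] at this
    exact ⟨by omega, fun _ => by omega⟩
  · refine ⟨?_, fun h2 => absurd h2 hp2⟩
    have h1 := h.bound
    rw [(h.odd hp2).1] at h1
    omega

/-- facts about a number `n` dividing the order of a torus -/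
theorem exists_ord [Fact p.Prime] [CharP F p] (hF : Fintype.card F = q) (h : Ar p f q d np nm) {n k : ℕ}
    (hn : n = np ∨ n = nm) (hk : k ∣ n) : ∃ g : T2, orderOf g = k := (spec hF h k).2 (by
  rcases hn with rfl | rfl
  · exact Or.inr (Or.inr hk)
  · exact Or.inr (Or.inl hk))

theorem not_dvd_n (h : Ar p f q d np nm) {n : ℕ} (hn : n = np ∨ n = nm) : ¬ p ∣ n := by
  rcases hn with rfl | rfl
  · exact h.not_dvd_np
  · exact h.not_dvd_nm

/-- **a torus order coprime to `|M|`** -/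
theorem three_of_coprime [Fact p.Prime] [CharP F p] (hF : Fintype.card F = q) (h : Ar p f q d np nm) {n : ℕ}
    (hn : n = np ∨ n = nm) (h4 : 4 * f < n - 1) (h5 : 5 ≤ n) {M : Subgroup T2} (hM : Nat.Coprime n (Nat.card M)) :
    Three T2 M := by
  have : Finite T2 := finite_psl
  have hFp : Fintype.card F = p ^ f := hF.trans h.hq
  have hnd : ∀ k, k ∣ n → k ≠ 1 → ¬ k ∣ Nat.card M := fun k hk h1 h2 =>
    h1 (Nat.eq_one_of_dvd_coprimes hM hk h2)
  have hmis : ∀ k, k ∣ n → k ≠ 1 → ∀ m ∈ M, orderOf m ≠ k := fun k hk h1 m hm h2 =>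
    hnd k hk h1 (h2 ▸ ord_dvd hm)
  have hpn := not_dvd_n h hn
  obtain ⟨y, hy⟩ := exists_ord hF h hn dvd_rfl
  by_cases hv : n.Prime
  · refine Three.of_not_dvd (v := n) (hnd n dvd_rfl (by omega)) ?_ ⟨y, by rw [hy]⟩
    exact not_SCC_of_totient h.hf hFp (by omega) hpn hy (by rw [Nat.totient_prime hv]; exact h4)
  · have hr : n.minFac.Prime := Nat.minFac_prime (by omega)
    obtain ⟨s, hs⟩ := n.minFac_dvd
    set r := n.minFac with hrd
    have hs1 : s ≠ 1 := by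
      rintro rfl
      rw [mul_one] at hs
      exact hv (hs ▸ hr)
    have hs0 : 0 < s := Nat.pos_of_ne_zero (by rintro rfl; omega)
    have hr2 := hr.two_le
    have hsn : s < n := by
      rw [hs]
      exact lt_mul_of_one_lt_left hs0 hr2
    have hrn : r < n := by
      rw [hs]
      exact lt_mul_of_one_lt_right (by omega) (by omega)
    obtain ⟨x, hx⟩ := exists_ord hF h hn (n.minFac_dvd)
    by_cases hrs : s = r
    · refine Three.of_not_SC_order (v := n) (c := r) (hnd n dvd_rfl (by omega)) ?_ hx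
        (hmis r n.minFac_dvd hr.one_lt.ne') ?_
      · refine not_SC_of_totient h.hf hFp (by omega) hpn hy ?_
        have h6 : n = r ^ 2 := by rw [hs, hrs, pow_two]
        rw [h6, Nat.totient_prime_pow hr (by norm_num)]
        have h7 : 4 * f < r ^ 2 - 1 := by rw [← h6]; exact h4
        have h8 : r ^ 2 - 1 ≤ 2 * (r ^ (2 - 1) * (r - 1)) := by
          obtain ⟨t, ht⟩ : ∃ t, r = t + 1 := ⟨r - 1, by omega⟩
          rw [ht, Nat.add_sub_cancel]
          have : (t + 1) ^ 2 - 1 = t * t + 2 * t := by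
            have : (t + 1) ^ 2 = t * t + 2 * t + 1 := by ring
            omega
          rw [this]
          norm_num
          nlinarith
        omega
      · intro h6
        have := Nat.le_of_dvd (by omega) h6
        omega
    · obtain ⟨z, hz⟩ := exists_ord hF h hn (k := s) ⟨r, by rw [mul_comm]; exact hs⟩
      exact Three.of_orders (a := r) (b := s) (c := n) (Ne.symm hrs) hrn.ne hsn.ne hx hz hy
        (hmis r n.minFac_dvd hr.one_lt.ne') (hmis s ⟨r, by rw [mul_comm]; exact hs⟩ hs1) (hmis n dvd_rfl (by omega))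

/-- dihedral subgroups, `q` odd -/
theorem three_of_dihedral [Fact p.Prime] [CharP F p] (hF : Fintype.card F = q) (h : Ar p f q d np nm) (hp2 : p ≠ 2)
    {n n' : ℕ} (hn : (n = np ∧ n' = nm) ∨ (n = nm ∧ n' = np)) {k : ℕ} (hk : k ∣ n') {M : Subgroup T2}
    (hM : Nat.card M ∣ 2 * k) : Three T2 M := by
  have : Finite T2 := finite_psl
  have hFp : Fintype.card F = p ^ f := hF.trans h.hq
  have hc : Nat.Coprime n n' := by
    rcases hn with ⟨rfl, rfl⟩ | ⟨rfl, rfl⟩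
    · exact h.coprime
    · exact h.coprime.symm
  have hn' : n = np ∨ n = nm := hn.imp And.left And.left
  have h5 : 5 ≤ n := by
    rcases hn' with rfl | rfl
    · exact (by norm_num : 5 ≤ 6).trans h.six_le
    · exact h.five_le
  have hf2 : 2 * f < n - 1 := by
    rcases hn' with rfl | rfl
    · exact two_f h
    · have h1 := h.bound
      obtain ⟨e1, -, -, e2⟩ := h.odd hp2
      have := h.hf
      rw [e1] at h1
      omega
  have hp' := h.hp
  have hpk : ¬ p ∣ Nat.card M := by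
    intro h1
    rcases h.hp.dvd_mul.1 (h1.trans hM) with h2 | h2
    · exact hp2 ((Nat.prime_dvd_prime_iff_eq h.hp Nat.prime_two).1 h2)
    · rcases hn with ⟨-, rfl⟩ | ⟨-, rfl⟩
      · exact h.not_dvd_nm (h2.trans hk)
      · exact h.not_dvd_np (h2.trans hk)
  have hpn := not_dvd_n h hn'
  have hmiss : ∀ j, j ∣ n → 3 ≤ j → ¬ j ∣ Nat.card M := by
    intro j hj h3 h1
    have h2 : j ∣ 2 := ((hc.coprime_dvd_left hj).coprime_dvd_right hk).dvd_of_dvd_mul_right (h1.trans hM)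
    have := Nat.le_of_dvd (by norm_num) h2
    omega
  obtain ⟨x, hx⟩ := (spec hF h p).2 (Or.inl dvd_rfl)
  obtain ⟨y, hy⟩ := exists_ord hF h hn' dvd_rfl
  by_cases hv : n.Prime
  · refine Three.of_not_SC_order (v := n) (c := p) (hmiss n dvd_rfl (by omega))
      (not_SC_of_totient h.hf hFp (by omega) hpn hy (by rw [Nat.totient_prime hv]; exact hf2)) hx
      (fun m hm h1 => hpk (h1 ▸ ord_dvd hm)) ?_
    intro h1
    exact hpn (by rw [(Nat.prime_dvd_prime_iff_eq hv hp').1 h1])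
  · have hr : n.minFac.Prime := Nat.minFac_prime (by omega)
    obtain ⟨s, hs⟩ := n.minFac_dvd
    have hs1 : s ≠ 1 := by
      rintro rfl
      rw [mul_one] at hs
      exact hv (hs ▸ hr)
    have hs0 : 0 < s := Nat.pos_of_ne_zero (by rintro rfl; omega)
    have hrs : n.minFac ≤ s := Nat.minFac_le_of_dvd (by omega) ⟨n.minFac, by rw [mul_comm]; exact hs⟩
    have h3 : 3 ≤ s := by
      by_contra h3
      have h6 : s = 2 := by omega
      have h7 : n.minFac = 2 := by have := hr.two_le; omega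
      rw [h6, h7] at hs
      omega
    have hsn : s ∣ n := ⟨n.minFac, by rw [mul_comm]; exact hs⟩
    obtain ⟨z, hz⟩ := exists_ord hF h hn' hsn
    refine Three.of_orders (a := p) (b := s) (c := n) (fun h1 => hpn (h1 ▸ hsn)) (fun h1 => hpn (h1 ▸ dvd_rfl))
      (fun h1 => ?_) hx hz hy (fun m hm h1 => hpk (h1 ▸ ord_dvd hm)) (fun m hm h1 => hmiss s hsn h3 (h1 ▸ ord_dvd hm))
      (fun m hm h1 => hmiss n dvd_rfl (by omega) (h1 ▸ ord_dvd hm))
    have := hr.two_le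
    have : s * 1 < n.minFac * s := by rw [mul_comm]; exact Nat.mul_lt_mul_of_pos_right (by omega) hs0
    omega

/-- small subgroups -/
theorem three_of_small [Fact p.Prime] [CharP F p] (hF : Fintype.card F = q) (h : Ar p f q d np nm) (hq11 : q ≠ 11)
    {M : Subgroup T2} (hM : ∀ m ∈ M, orderOf m ≤ 5) : Three T2 M := by
  have : Finite T2 := finite_psl
  have hFp : Fintype.card F = p ^ f := hF.trans h.hq
  have h11 := h.hq11
  have hnm : 6 ≤ nm := by
    rcases h.six_or with h6 | h6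
    · exact h6
    · by_cases hp2 : p = 2
      · omega
      · have e := h.odd hp2
        have h12 : 12 ≤ q := by omega
        have h13 : q ≠ 12 := by omega
        omega
  have hnp : 7 ≤ np := by have := h.nm_lt; omega
  obtain ⟨x, hx⟩ := exists_ord hF h (Or.inl rfl) (dvd_refl np)
  obtain ⟨y, hy⟩ := exists_ord hF h (Or.inr rfl) (dvd_refl nm)
  by_cases hp7 : 7 ≤ p
  · obtain ⟨z, hz⟩ := (spec hF h p).2 (Or.inl dvd_rfl)
    refine Three.of_orders (a := np) (b := nm) (c := p) h.nm_lt.ne' (fun h1 => h.not_dvd_np (h1 ▸ dvd_rfl))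
      (fun h1 => h.not_dvd_nm (h1 ▸ dvd_rfl)) hx hy hz (fun m hm h1 => ?_) (fun m hm h1 => ?_) (fun m hm h1 => ?_)
    all_goals have := hM m hm; omega
  · by_cases hv : np.Prime
    · have := Fact.mk hv
      refine Three.of_not_SC_order (v := np) (c := nm) (fun h1 => ?_)
        (not_SC_of_totient h.hf hFp (by omega) h.not_dvd_np hx (by rw [Nat.totient_prime hv]; exact two_f h)) hy
        (fun m hm h1 => by have := hM m hm; omega) (fun h1 => ?_)
      · obtain ⟨g, hg⟩ := exists_prime_orderOf_dvd_card' np h1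
        have := hM g g.2
        rw [Subgroup.orderOf_coe, hg] at this
        omega
      · exact hv.one_lt.ne' (Nat.eq_one_of_dvd_coprimes h.coprime dvd_rfl h1)
    · have hr : np.minFac.Prime := Nat.minFac_prime (by omega)
      obtain ⟨s, hs⟩ := np.minFac_dvd
      have hs1 : s ≠ 1 := by
        rintro rfl
        rw [mul_one] at hs
        exact hv (hs ▸ hr)
      have hs0 : 0 < s := Nat.pos_of_ne_zero (by rintro rfl; omega)
      have hrs : np.minFac ≤ s := Nat.minFac_le_of_dvd (by omega) ⟨np.minFac, by rw [mul_comm]; exact hs⟩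
      have hsn : s ∣ np := ⟨np.minFac, by rw [mul_comm]; exact hs⟩
      have hslt : s < np := by
        have := hr.two_le
        have h1 : s * 1 < np.minFac * s := by rw [mul_comm]; exact Nat.mul_lt_mul_of_pos_right (by omega) hs0
        omega
      have h6 : 6 ≤ s := by
        by_contra h6
        have h7 : np ≤ 25 := by
          rw [hs]
          calc np.minFac * s ≤ 5 * 5 := Nat.mul_le_mul (by omega) (by omega)
            _ = 25 := by norm_num
        have hp := h.hp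
        have hpcases : p = 2 ∨ p = 3 ∨ p = 5 := by
          have := hp.two_le
          have h8 : p ≠ 4 := by rintro rfl; norm_num at hp
          have h9 : p ≠ 6 := by rintro rfl; norm_num at hp
          omega
        rcases hpcases with rfl | rfl | rfl
        · obtain ⟨-, hf4, e1, -⟩ := h.even rfl
          have hq := h.hq
          have hf5 : f < 5 := by
            by_contra h5
            have : 2 ^ 5 ≤ 2 ^ f := Nat.pow_le_pow_right (by norm_num) (by omega)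
            omega
          have hf' : f = 4 := by omega
          rw [hf'] at hq
          have : np = 17 := by omega
          rw [this] at hv
          norm_num at hv
        · obtain ⟨-, e1, -⟩ := h.odd (by norm_num)
          have hq := h.hq
          have hf4 : f < 4 := by
            by_contra h5
            have : 3 ^ 4 ≤ 3 ^ f := Nat.pow_le_pow_right (by norm_num) (by omega)
            omega
          interval_cases f
          · omega
          · omega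
          · omega
          · have h14 : np = 14 := by omega
            rw [h14] at hs hr hrs
            have h2 : Nat.minFac 14 = 2 := by norm_num
            rw [h2] at hs
            omega
        · obtain ⟨-, e1, -⟩ := h.odd (by norm_num)
          have hq := h.hq
          have hf4 : f < 3 := by
            by_contra h5
            have : 5 ^ 3 ≤ 5 ^ f := Nat.pow_le_pow_right (by norm_num) (by omega)
            omega
          interval_cases f
          · omega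
          · omega
          · have h14 : np = 13 := by omega
            rw [h14] at hv
            norm_num at hv
      obtain ⟨z, hz⟩ := exists_ord hF h (Or.inl rfl) hsn
      refine Three.of_orders (a := np) (b := nm) (c := s) h.nm_lt.ne' hslt.ne' (fun h1 => ?_) hx hy hz
        (fun m hm h1 => ?_) (fun m hm h1 => ?_) (fun m hm h1 => ?_)
      · have := Nat.eq_one_of_dvd_coprimes h.coprime hsn (h1 ▸ dvd_rfl)
        omega
      all_goals have := hM m hm; omega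

/-- subfield subgroups -/
theorem three_of_subfield [Fact p.Prime] [CharP F p] (hF : Fintype.card F = q) (h : Ar p f q d np nm) (h16 : q ≠ 16)
    {M : Subgroup T2} {q0 m : ℕ} (hq0 : 2 ≤ q0) (hm : 2 ≤ m) (hqm : q0 ^ m = q) (hpq0 : p ∣ q0)
    (hdvd : Nat.card M ∣ q0 * (q0 ^ 2 - 1)) : Three T2 M := by
  have : Finite T2 := finite_psl
  have hFp : Fintype.card F = p ^ f := hF.trans h.hq
  have h11 := h.hq11
  have hcop := h.coprime
  have h6 := h.six_le
  rcases Nat.even_or_odd m with he | ho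
  · -- `np` is coprime to `|M|`
    refine three_of_coprime hF h (Or.inl rfl) (four_f h h16).1 (by omega) ?_
    refine Nat.Coprime.coprime_dvd_right hdvd ?_
    apply Nat.Coprime.mul_right
    · refine Nat.Coprime.coprime_dvd_right ?_ h.coprime_q
      rw [← hqm]
      exact dvd_pow_self q0 (by omega)
    · obtain ⟨j, hj⟩ := he
      have h2 : q0 ^ 2 - 1 ∣ q - 1 := by
        rw [← hqm, hj, ← two_mul, pow_mul]
        simpa using Nat.sub_dvd_pow_sub_pow (q0 ^ 2) 1 j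
      refine Nat.Coprime.coprime_dvd_right h2 ?_
      by_cases hp2 : p = 2
      · rw [← (h.even hp2).2.2.2.1]; exact hcop
      · obtain ⟨-, e1, e2, e3⟩ := h.odd hp2
        rw [← e2]
        refine Nat.Coprime.mul_right ?_ hcop
        -- `np` is odd
        rw [Nat.coprime_comm, Nat.coprime_two_left]
        have h3 : q0 % 2 = 1 := by
          by_contra h3
          have h4 : 2 ∣ q := by rw [← hqm]; exact dvd_pow (by omega) (by omega)
          rw [h.hq] at h4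
          exact hp2 ((Nat.prime_dvd_prime_iff_eq Nat.prime_two h.hp).1 (Nat.prime_two.dvd_of_dvd_pow h4)).symm
        have h4 : q % 4 = 1 := by
          rw [← hqm, hj, ← two_mul, pow_mul, Nat.pow_mod]
          have h5 : q0 ^ 2 % 4 = 1 := by
            rw [Nat.pow_mod]
            have : q0 % 4 = 1 ∨ q0 % 4 = 3 := by omega
            rcases this with h5 | h5 <;> rw [h5]
          rw [h5, one_pow]
          norm_num
        rw [Nat.odd_iff]
        omega
  · have hm3 : 3 ≤ m := by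
      rcases Nat.eq_or_lt_of_le hm with h2 | h2
      · exfalso
        rw [← h2] at ho
        exact absurd ho (by decide)
      · exact h2
    -- a primitive prime divisor of `q0 ^ (2 m) - 1`
    obtain ⟨r, hr, hr1, hr2, hr3⟩ := Cfsg.Agent.Lib.Zsigmondy.exists_primitive (a := q0) (n := 2 * m)
      (by omega) (by omega) (by omega) (by
        rintro ⟨h9, h10⟩
        have h11' : m = 3 := by omega
        rw [h9, h11'] at hqm
        omega)
    -- a primitive prime divisor of `q0 ^ m - 1`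
    obtain ⟨s, hs, hs1, hs2, hs3⟩ := Cfsg.Agent.Lib.Zsigmondy.exists_primitive (a := q0) (n := m)
      (by omega) (by omega) (by omega) (by
        rintro ⟨h9, h10⟩
        rw [h10] at ho
        exact absurd ho (by decide))
    have hq2 : r ∣ q ^ 2 - 1 := by
      rw [← hqm, ← pow_mul]
      exact (hr1 _).2 (by rw [mul_comm])
    have hqm1 : ¬ r ∣ q - 1 := by
      rw [← hqm]
      intro h1
      have := Nat.le_of_dvd (by omega) ((hr1 m).1 h1)
      omega
    have hrM : ¬ r ∣ Nat.card M := by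
      intro h1
      rcases hr.dvd_mul.1 (h1.trans hdvd) with h2 | h2
      · exact hr3 h2
      · have := Nat.le_of_dvd (by norm_num) ((hr1 2).1 h2)
        omega
    have hsM : ¬ s ∣ Nat.card M := by
      intro h1
      rcases hs.dvd_mul.1 (h1.trans hdvd) with h2 | h2
      · exact hs3 h2
      · have := Nat.le_of_dvd (by norm_num) ((hs1 2).1 h2)
        omega
    have hr2' : r ≠ 2 := by
      rintro rfl
      have := Nat.le_of_dvd (by norm_num) hr2
      omega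
    have hs2' : s ≠ 2 := by
      rintro rfl
      have := Nat.le_of_dvd (by norm_num) hs2
      omega
    have hrq : r ∣ q + 1 := by
      rw [Cfsg.Agent.H394.SqPsl2.sub_mul_self (by omega)] at hq2
      exact (hr.dvd_mul.1 hq2).resolve_right hqm1
    have hsq : s ∣ q - 1 := by rw [← hqm]; exact (hs1 m).2 dvd_rfl
    have hrn : r ∣ np := by
      by_cases hp2 : p = 2
      · rw [(h.even hp2).2.2.1]; exact hrq
      · rw [← (h.odd hp2).2.1] at hrq
        rcases hr.dvd_mul.1 hrq with h2 | h2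
        · exact absurd ((Nat.prime_dvd_prime_iff_eq hr Nat.prime_two).1 h2) hr2'
        · exact h2
    have hsn : s ∣ nm := by
      by_cases hp2 : p = 2
      · rw [(h.even hp2).2.2.2.1]; exact hsq
      · rw [← (h.odd hp2).2.2.1] at hsq
        rcases hs.dvd_mul.1 hsq with h2 | h2
        · exact absurd ((Nat.prime_dvd_prime_iff_eq hs Nat.prime_two).1 h2) hs2'
        · exact h2
    obtain ⟨z, hz⟩ := exists_ord hF h (Or.inr rfl) hsn
    have hrs : r ≠ s := fun h1 => hr.one_lt.ne' (Nat.eq_one_of_dvd_coprimes hcop hrn (h1 ▸ hsn))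
    have hsnp : ¬ s ∣ np := fun h1 => hs.one_lt.ne' (Nat.eq_one_of_dvd_coprimes hcop h1 hsn)
    obtain ⟨y, hy⟩ := exists_ord hF h (Or.inl rfl) (dvd_refl np)
    by_cases hne : r = np
    · refine Three.of_not_SC_order (v := r) (c := s) hrM ?_ hz (fun m hm h1 => hsM (h1 ▸ ord_dvd hm)) ?_
      · rw [hne]
        exact not_SC_of_totient h.hf hFp (by omega) h.not_dvd_np hy
          (by rw [Nat.totient_prime (hne ▸ hr)]; exact two_f h)
      · exact fun h1 => hrs ((Nat.prime_dvd_prime_iff_eq hr hs).1 h1)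
    · obtain ⟨x, hx⟩ := exists_ord hF h (Or.inl rfl) hrn
      exact Three.of_orders (a := r) (b := np) (c := s) hne hrs (fun h1 => hsnp (h1 ▸ dvd_rfl)) hx hy hz
        (fun m hm h1 => hrM (h1 ▸ ord_dvd hm)) (fun m hm h1 => hrM (hrn.trans (h1 ▸ ord_dvd hm)))
        (fun m hm h1 => hsM (h1 ▸ ord_dvd hm))

/-- the generic case -/
theorem three_gen [Fact p.Prime] [CharP F p] (hF : Fintype.card F = q) (h : Ar p f q d np nm) (h16 : q ≠ 16)
    (hq11 : q ≠ 11) (M : Subgroup T2) (hM : M ≠ ⊤) : Three T2 M := by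
  have : Finite T2 := finite_psl
  have hcop := h.coprime
  have h6 := h.six_le
  have h5 := h.five_le
  rcases dickson' hF h M hM with ⟨k, hk, hk2⟩ | ⟨P, K, hK, ⟨e⟩⟩ | ⟨h5, -⟩ | ⟨q0, m, hq0, hm, hqm, hpq0, hdvd, -⟩
  · by_cases hp2 : p = 2
    · obtain ⟨-, -, -, -, -, he1, he2⟩ := h.even hp2
      rcases hk with hk | hk
      · refine three_of_coprime hF h (Or.inr rfl) ((four_f h h16).2 hp2) h5 (Nat.Coprime.coprime_dvd_right hk2 ?_)
        exact Nat.Coprime.mul_right ((Nat.Prime.coprime_iff_not_dvd Nat.prime_two).2 he2).symm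
          (hcop.symm.coprime_dvd_right hk)
      · refine three_of_coprime hF h (Or.inl rfl) (four_f h h16).1 (by omega) (Nat.Coprime.coprime_dvd_right hk2 ?_)
        exact Nat.Coprime.mul_right ((Nat.Prime.coprime_iff_not_dvd Nat.prime_two).2 he1).symm
          (hcop.coprime_dvd_right hk)
    · rcases hk with hk | hk
      · exact three_of_dihedral hF h hp2 (Or.inr ⟨rfl, rfl⟩) hk hk2
      · exact three_of_dihedral hF h hp2 (Or.inl ⟨rfl, rfl⟩) hk hk2
  · refine three_of_coprime hF h (Or.inl rfl) (four_f h h16).1 (by omega) ?_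
    have h1 : Nat.card M ∣ q * nm := by
      rw [← card_B hF h P, Nat.card_congr e.toEquiv]
      exact card_dvd_of_le hK
    exact Nat.Coprime.coprime_dvd_right h1 (Nat.Coprime.mul_right h.coprime_q hcop)
  · exact three_of_small hF h hq11 h5
  · exact three_of_subfield hF h h16 hq0 hm hqm hpq0 hdvd

/-- a subgroup of order divisible by `2`, `3` and `5` -/
theorem thirty_dvd {n : ℕ} (h2 : 2 ∣ n) (h3 : 3 ∣ n) (h5 : 5 ∣ n) : 30 ∣ n := by omega

/-- `q = 11` -/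
theorem three_eleven [Fact p.Prime] [CharP F p] (hF : Fintype.card F = q) (h : Ar p f q d np nm)
    (hq11 : q = 11) (M : Subgroup T2) (hM : M ≠ ⊤) : Three T2 M ∨ ∀ R < M, Three T2 R := by
  have : Finite T2 := finite_psl
  have hcop := h.coprime
  have h6 := h.six_le
  have h5 := h.five_le
  have hp : p = 11 := by
    have h1 : p ∣ 11 := by
      rw [← hq11, h.hq]
      exact dvd_pow_self p (by have := h.hf; omega)
    exact (Nat.prime_dvd_prime_iff_eq h.hp (by norm_num)).1 h1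
  have hp2 : p ≠ 2 := by omega
  obtain ⟨-, e1, e2, -⟩ := h.odd hp2
  have hnp : np = 6 := by omega
  have hnm : nm = 5 := by omega
  obtain ⟨x6, hx6⟩ := exists_ord hF h (Or.inl rfl) (dvd_refl np)
  obtain ⟨x5, hx5⟩ := exists_ord hF h (Or.inr rfl) (dvd_refl nm)
  obtain ⟨x11, hx11⟩ := (spec hF h p).2 (Or.inl dvd_rfl)
  rw [hnp] at hx6
  rw [hnm] at hx5
  rw [hp] at hx11
  rcases dickson' hF h M hM with ⟨k, hk, hk2⟩ | ⟨P, K, hK, ⟨e⟩⟩ | ⟨h5, hA⟩ | ⟨q0, m, hq0, hm, hqm, hpq0, hdvd, -⟩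
  · left
    rcases hk with hk | hk
    · exact three_of_dihedral hF h hp2 (Or.inr ⟨rfl, rfl⟩) hk hk2
    · exact three_of_dihedral hF h hp2 (Or.inl ⟨rfl, rfl⟩) hk hk2
  · left
    refine three_of_coprime hF h (Or.inl rfl) (four_f h (by omega)).1 (by omega) ?_
    have h1 : Nat.card M ∣ q * nm := by
      rw [← card_B hF h P, Nat.card_congr e.toEquiv]
      exact card_dvd_of_le hK
    exact Nat.Coprime.coprime_dvd_right h1 (Nat.Coprime.mul_right h.coprime_q hcop)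
  · have key : ∀ (R : Subgroup T2), R ≤ M → ∀ w : ℕ, (w = 2 ∨ w = 3 ∨ w = 5) → ¬ w ∣ Nat.card R → Three T2 R := by
      intro R hR w hw hwR
      obtain ⟨y, hy⟩ : ∃ y : T2, orderOf y = w := by
        rcases hw with rfl | rfl | rfl
        · exact exists_ord hF h (Or.inl rfl) (by rw [hnp]; norm_num)
        · exact exists_ord hF h (Or.inl rfl) (by rw [hnp]; norm_num)
        · exact ⟨x5, hx5⟩
      refine Three.of_orders (a := 6) (b := 11) (c := w) (by norm_num) (by omega) (by omega) hx6 hx11 hy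
        (fun m hm h1 => ?_) (fun m hm h1 => ?_) (fun m hm h1 => hwR (h1 ▸ ord_dvd hm))
      · have := h5 m (hR hm); omega
      · have := h5 m (hR hm); omega
    rcases hA with hA | ⟨⟨e⟩⟩
    · exact Or.inl (key M le_rfl 5 (by simp) hA)
    · right
      intro R hR
      by_cases h2 : 2 ∣ Nat.card R
      swap
      · exact key R hR.le 2 (by simp) h2
      by_cases h3 : 3 ∣ Nat.card R
      swap
      · exact key R hR.le 3 (by simp) h3
      by_cases h5' : 5 ∣ Nat.card R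
      swap
      · exact key R hR.le 5 (by simp) h5'
      exfalso
      have hcM : Nat.card M = 60 := by
        rw [Nat.card_congr e.toEquiv, nat_card_alternatingGroup, Nat.card_eq_fintype_card, Fintype.card_fin]
        decide
      have h30 := thirty_dvd h2 h3 h5'
      have hRM : Nat.card R ∣ 60 := by rw [← hcM]; exact card_dvd_of_le hR.le
      have hlt : Nat.card R < 60 := by
        rw [← hcM]
        exact Set.Finite.card_lt_card (Set.toFinite _) hR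
      have hR30 : Nat.card R = 30 := by
        obtain ⟨c, hc⟩ := h30
        have := Nat.card_pos (α := R)
        omega
      have hidx : (R.subgroupOf M).index = 2 := by
        have h1 := (R.subgroupOf M).card_mul_index
        rw [Nat.card_congr (Subgroup.subgroupOfEquivOfLe hR.le).toEquiv, hR30, hcM] at h1
        omega
      have hnor := Subgroup.normal_of_index_eq_two hidx
      have hs : IsSimpleGroup M := by
        have := alternatingGroup.isSimpleGroup_five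
        exact MulEquiv.isSimpleGroup e
      rcases hnor.eq_bot_or_eq_top with h1 | h1
      · rw [h1, Subgroup.index_bot, hcM] at hidx
        omega
      · rw [h1, Subgroup.index_top] at hidx
        omega
  · left
    exact three_of_subfield hF h (by omega) hq0 hm hqm hpq0 hdvd

/-- the Borel subgroup `2 ^ 4 : 15` of `PSL₂(16)` -/
theorem borel_sixteen [Fact (Nat.Prime 2)] [CharP F 2] {q f d np nm : ℕ} (hF : Fintype.card F = q)
    (h : Ar 2 f q d np nm) (hnp : np = 17) (hnm : nm = 15)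
    (P : Sylow 2 T2) (R : Subgroup T2) (hR : R ≤ normalizer ((P : Subgroup T2) : Set T2)) {t : T2} (htR : t ∈ R)
    (ht : orderOf t = 15) (h2 : 2 ∣ Nat.card R) : 240 ∣ Nat.card R := by
  have : Finite T2 := finite_psl
  obtain ⟨u, hu⟩ := exists_prime_orderOf_dvd_card' 2 h2
  have hu' : orderOf (u : T2) = 2 := by rw [Subgroup.orderOf_coe, hu]
  have huP : (u : T2) ∈ (P : Subgroup T2) := by
    have hpg : IsPGroup 2 (zpowers (u : T2)) := IsPGroup.of_card (n := 1) (by rw [Nat.card_zpowers, hu', pow_one])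
    have h3 : IsPGroup 2 ((P : Subgroup T2) ⊔ zpowers (u : T2) : Subgroup T2) :=
      IsPGroup.to_sup_of_normal_left' P.2 hpg ((zpowers_le).2 (hR u.2))
    have h4 := P.3 h3 le_sup_left
    rw [← h4]
    exact le_sup_right (a := (P : Subgroup T2)) (mem_zpowers (u : T2))
  set V : Subgroup T2 := R ⊓ P with hV
  -- sixteen elements
  let g : Option (Fin 15) → V := fun i => match i with
    | none => 1
    | some i => ⟨t ^ (i : ℕ) * u * (t ^ (i : ℕ))⁻¹, by
        refine ⟨R.mul_mem (R.mul_mem (R.pow_mem htR _) u.2) (R.inv_mem (R.pow_mem htR _)), ?_⟩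
        exact (Subgroup.mem_normalizer_iff.1 (Subgroup.pow_mem _ (hR htR) (i : ℕ)) (u : T2)).1 huP⟩
  have hu1 : (u : T2) ≠ 1 := by
    intro h1
    rw [h1, orderOf_one] at hu'
    omega
  have key : ∀ a : ℕ, 0 < a → a < 15 → ¬ Commute (t ^ a) (u : T2) := by
    intro a ha ha' hc
    have h1 : orderOf (t ^ a) ∣ 15 := by rw [← ht]; exact orderOf_pow_dvd a
    have h3 : orderOf (t ^ a) ≠ 1 := by
      intro h4
      rw [orderOf_eq_one_iff] at h4
      have := orderOf_dvd_of_pow_eq_one h4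
      rw [ht] at this
      have := Nat.le_of_dvd ha this
      omega
    have h4 : orderOf (t ^ a * u) = orderOf (t ^ a) * 2 := by
      rw [hc.orderOf_mul_eq_mul_orderOf_of_coprime, hu']
      rw [hu']
      exact Nat.Coprime.coprime_dvd_left h1 (by norm_num)
    have h5 := (spec hF h _).1 ⟨_, h4⟩
    rw [hnp, hnm] at h5
    rcases h5 with h5 | h5 | h5
    · have h6 := Nat.le_of_dvd (by norm_num) h5
      have : 0 < orderOf (t ^ a) := orderOf_pos _
      omega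
    · have h6 : 2 ∣ 15 := (Dvd.intro_left _ rfl).trans h5
      omega
    · have h6 : 2 ∣ 17 := (Dvd.intro_left _ rfl).trans h5
      omega
  have hg : Function.Injective g := by
    have h1 : ∀ i j : Fin 15, i ≤ j → g (some i) = g (some j) → i = j := by
      intro i j hij hgij
      have h3 : t ^ (i : ℕ) * (u : T2) * (t ^ (i : ℕ))⁻¹ = t ^ (j : ℕ) * u * (t ^ (j : ℕ))⁻¹ :=
        congrArg Subtype.val hgij
      by_contra hne
      have hlt : (i : ℕ) < j := lt_of_le_of_ne hij fun h4 => hne (Fin.ext h4)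
      apply key ((j : ℕ) - i) (by omega) (by omega)
      have h4 : t ^ (j : ℕ) = t ^ (i : ℕ) * t ^ ((j : ℕ) - i) := by rw [← pow_add]; congr 1; omega
      rw [h4] at h3
      have h5 : (u : T2) = t ^ ((j : ℕ) - i) * u * (t ^ ((j : ℕ) - i))⁻¹ := by
        have h6 := congrArg (fun z => (t ^ (i : ℕ))⁻¹ * z * t ^ (i : ℕ)) h3
        simpa [mul_assoc] using h6
      change t ^ ((j : ℕ) - i) * u = u * t ^ ((j : ℕ) - i)
      conv_rhs => rw [h5]
      group
    intro i j hij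
    match i, j with
    | none, none => rfl
    | none, some j =>
      exfalso
      have h3 : (1 : T2) = t ^ (j : ℕ) * u * (t ^ (j : ℕ))⁻¹ := congrArg Subtype.val hij
      apply hu1
      have h6 := congrArg (fun z => (t ^ (j : ℕ))⁻¹ * z * t ^ (j : ℕ)) h3
      simpa [mul_assoc] using h6.symm
    | some i, none =>
      exfalso
      have h3 : t ^ (i : ℕ) * u * (t ^ (i : ℕ))⁻¹ = (1 : T2) := congrArg Subtype.val hij
      apply hu1
      have h6 := congrArg (fun z => (t ^ (i : ℕ))⁻¹ * z * t ^ (i : ℕ)) h3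
      simpa [mul_assoc] using h6
    | some i, some j =>
      rcases le_total i j with h3 | h3
      · rw [h1 i j h3 hij]
      · rw [h1 j i h3 hij.symm]
  have hcard : 16 ≤ Nat.card V := by
    have h1 := Nat.card_le_card_of_injective g hg
    simpa using h1
  obtain ⟨a, ha⟩ := IsPGroup.iff_card.1 (P.2.to_le (inf_le_right : V ≤ P))
  have h16 : 16 ∣ Nat.card V := by
    rw [ha] at hcard ⊢
    have h4 : 4 ≤ a := by
      by_contra h4
      have : 2 ^ a ≤ 2 ^ 3 := Nat.pow_le_pow_right (by norm_num) (by omega)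
      omega
    exact pow_dvd_pow 2 h4
  have h1 : 16 ∣ Nat.card R := h16.trans (card_dvd_of_le inf_le_left)
  have h3 : 15 ∣ Nat.card R := ht ▸ ord_dvd htR
  omega

/-- `q = 16` -/
theorem three_sixteen [Fact p.Prime] [CharP F p] (hF : Fintype.card F = q) (h : Ar p f q d np nm)
    (hq16 : q = 16) (M : Subgroup T2) (hM : M ≠ ⊤) : Three T2 M ∨ ∀ R < M, Three T2 R := by
  have : Finite T2 := finite_psl
  have hFp : Fintype.card F = p ^ f := hF.trans h.hq
  have hp : p = 2 := by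
    have h1 : p ∣ 2 ^ 4 := by
      rw [show (2 : ℕ) ^ 4 = q by rw [hq16]; norm_num, h.hq]
      exact dvd_pow_self p (by have := h.hf; omega)
    exact (Nat.prime_dvd_prime_iff_eq h.hp Nat.prime_two).1 (h.hp.dvd_of_dvd_pow h1)
  subst hp
  obtain ⟨hd, -, e1, e2, -⟩ := h.even rfl
  have hnp : np = 17 := by omega
  have hnm : nm = 15 := by omega
  have hf4 : f = 4 := by
    have h1 := h.hq
    rw [hq16, show 16 = 2 ^ 4 by norm_num] at h1
    exact (Nat.pow_right_injective le_rfl h1).symm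
  have hcT : Nat.card T2 = 4080 := by
    rw [card_T hF h, hq16, hd, hnp, hnm]
  obtain ⟨x17, hx17⟩ := exists_ord hF h (Or.inl rfl) (dvd_refl np)
  obtain ⟨x15, hx15⟩ := exists_ord hF h (Or.inr rfl) (dvd_refl nm)
  rw [hnp] at hx17
  rw [hnm] at hx15
  have hp17 : Nat.Prime 17 := by norm_num
  have hSC : ¬ SC T2 17 := not_SC_of_totient h.hf hFp (by norm_num) (by norm_num) hx17
    (by rw [Nat.totient_prime hp17, hf4]; norm_num)
  -- a subgroup of order prime to 17 with another missing prime or without elements of order 15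
  have key : ∀ (R : Subgroup T2), ¬ 17 ∣ Nat.card R → ∀ w : ℕ, (w = 2 ∨ w = 3 ∨ w = 5) → ¬ w ∣ Nat.card R →
      Three T2 R := by
    intro R h17 w hw hwR
    refine Three.of_two_primes hp17 ?_ (w := w) ?_ ?_ h17 hwR hSC
    · rcases hw with rfl | rfl | rfl <;> norm_num
    · omega
    · rw [hcT]
      rcases hw with rfl | rfl | rfl <;> norm_num
  have key2 : ∀ (R : Subgroup T2), ¬ 17 ∣ Nat.card R → (∀ m ∈ R, orderOf m ≠ 15) → Three T2 R :=
    fun R h17 h15 => Three.of_not_SC_order h17 hSC hx15 h15 (by norm_num)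
  rcases dickson' hF h M hM with ⟨k, hk, hk2⟩ | ⟨P, K, hK, ⟨e⟩⟩ | ⟨h5, -⟩ | ⟨q0, m, hq0, hm, hqm, hpq0, hdvd, hno⟩
  · rcases hk with hk | hk
    · left
      -- orders 3, 5, 15
      rw [hnp] at hk
      have h34 : Nat.card M ∣ 34 := hk2.trans (by simpa using Nat.mul_dvd_mul_left 2 hk)
      obtain ⟨x3, hx3⟩ := exists_ord hF h (n := nm) (k := 3) (Or.inr rfl) (by rw [hnm]; norm_num)
      obtain ⟨x5, hx5⟩ := exists_ord hF h (n := nm) (k := 5) (Or.inr rfl) (by rw [hnm]; norm_num)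
      refine Three.of_orders (a := 3) (b := 5) (c := 15) (by norm_num) (by norm_num) (by norm_num) hx3 hx5 hx15
        (fun m hm h1 => ?_) (fun m hm h1 => ?_) (fun m hm h1 => ?_)
      all_goals
        have h2 := (ord_dvd hm).trans h34
        rw [h1] at h2
        norm_num at h2
    · right
      rw [hnm] at hk
      have h30 : Nat.card M ∣ 30 := hk2.trans (by simpa using Nat.mul_dvd_mul_left 2 hk)
      intro R hR
      have hR30 : Nat.card R ∣ 30 := (card_dvd_of_le hR.le).trans h30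
      have h17 : ¬ 17 ∣ Nat.card R := fun h1 => by
        have := h1.trans hR30
        norm_num at this
      by_cases h2 : 2 ∣ Nat.card R
      swap
      · exact key R h17 2 (by simp) h2
      by_cases h3 : 3 ∣ Nat.card R
      swap
      · exact key R h17 3 (by simp) h3
      by_cases h5' : 5 ∣ Nat.card R
      swap
      · exact key R h17 5 (by simp) h5'
      exfalso
      have h4 := Nat.le_of_dvd Nat.card_pos (thirty_dvd h2 h3 h5')
      have h6 := Nat.le_of_dvd (by norm_num) h30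
      have h7 : Nat.card R < Nat.card M := Set.Finite.card_lt_card (Set.toFinite _) hR
      omega
  · right
    intro R hR
    have hcM : Nat.card M ∣ 240 := by
      have h1 : Nat.card M ∣ q * nm := by
        rw [← card_B hF h P, Nat.card_congr e.toEquiv]
        exact card_dvd_of_le hK
      rwa [hq16, hnm] at h1
    have h17 : ¬ 17 ∣ Nat.card R := fun h1 => by
      have := (h1.trans (card_dvd_of_le hR.le)).trans hcM
      norm_num at this
    by_cases h2 : 2 ∣ Nat.card R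
    swap
    · exact key R h17 2 (by simp) h2
    by_cases h15 : ∀ m ∈ R, orderOf m ≠ 15
    · exact key2 R h17 h15
    push Not at h15
    obtain ⟨t, htR, ht⟩ := h15
    exfalso
    let ψ : M →* T2 := K.subtype.comp e.toMonoidHom
    have hψ : Function.Injective ψ := K.subtype_injective.comp e.injective
    set R' := (R.subgroupOf M).map ψ with hR'
    have hcR : Nat.card R' = Nat.card R := by
      rw [hR', ← Nat.card_congr (Subgroup.subgroupOfEquivOfLe hR.le).toEquiv]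
      exact (Nat.card_congr ((R.subgroupOf M).equivMapOfInjective ψ hψ).toEquiv).symm
    have hR'N : R' ≤ normalizer ((P : Subgroup T2) : Set T2) := by
      rw [hR', Subgroup.map_le_iff_le_comap]
      intro m _
      exact hK (e m).2
    have h240 := borel_sixteen hF h hnp hnm P R' hR'N (t := ψ ⟨t, hR.le htR⟩)
      ⟨⟨t, hR.le htR⟩, htR, rfl⟩ (by rw [orderOf_injective ψ hψ, Subgroup.orderOf_mk, ht]) (by rwa [hcR])
    rw [hcR] at h240
    have h4 := Nat.le_of_dvd Nat.card_pos h240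
    have h6 := Nat.le_of_dvd (by norm_num) hcM
    have h7 : Nat.card R < Nat.card M := Set.Finite.card_lt_card (Set.toFinite _) hR
    omega
  · exact Or.inl (three_of_small hF h (by omega) h5)
  · left
    refine key2 M (fun h17 => ?_) (hno hq16)
    have h1 := h17.trans hdvd
    have h2 : q0 ^ 2 ≤ 16 := by
      rw [← hq16, ← hqm]
      exact Nat.pow_le_pow_right (by omega) hm
    have h3 : q0 ≤ 4 := by nlinarith
    interval_cases q0 <;> norm_num at h1

end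

/-- **S3502-PSL2** -/
theorem rowS_psl2 {F : Type} [Field F] [Fintype F] (h4 : 4 ≤ Fintype.card F)
    (hq : Fintype.card F ∉ ({4, 5, 7, 8, 9} : Finset ℕ)) :
    RowS (Matrix.ProjectiveSpecialLinearGroup (Fin 2) F) := by
  obtain ⟨p, hchar⟩ := CharP.exists F
  have hp : Fact p.Prime := ⟨CharP.char_is_prime F p⟩
  obtain ⟨f, -, hf⟩ := FiniteField.card F p
  have h := exists_ar hp.out f.2 hf h4 hq
  have : Finite (Matrix.ProjectiveSpecialLinearGroup (Fin 2) F) := finite_psl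
  refine RowS.of_coatoms fun M hM => ?_
  by_cases h11 : Fintype.card F = 11
  · exact (three_eleven rfl h h11 M hM.1).imp id fun h1 => ⟨two_psl2 h4 hq M hM.1, h1⟩
  by_cases h16 : Fintype.card F = 16
  · exact (three_sixteen rfl h h16 M hM.1).imp id fun h1 => ⟨two_psl2 h4 hq M hM.1, h1⟩
  exact Or.inl (three_gen rfl h h16 h11 M hM.1)

end Cfsg.Agent.H410.Three.Psl2
end

-- part: H916/Der/SixMat
section
/-!
# `Sp₆(2)`: more elements (helper916, for S3502)
-/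

set_option autoImplicit false

namespace Cfsg.Agent.H916.Der.Six

open Cfsg.Agent.H547.Der.Six

/-- order 6 -/
def W6 : M6 := Matrix.fromBlocks !![0,1,0; 1,1,0; 0,1,0] !![0,0,1; 1,0,1; 0,0,0]
    !![1,0,1; 0,1,0; 0,0,1] !![0,0,0; 1,0,1; 0,1,0]
/-- order 8 -/
def T8 : M6 := Matrix.fromBlocks !![0,1,0; 1,0,1; 0,0,0] !![0,0,0; 0,0,0; 1,0,1]
    !![0,0,0; 0,0,0; 0,0,1] !![0,1,0; 1,0,0; 0,0,0]
/-- order 12 -/
def T12 : M6 := Matrix.fromBlocks !![1,1,0; 0,0,1; 0,0,0] !![0,1,0; 0,0,0; 1,1,0]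
    !![0,0,0; 0,0,0; 1,0,0] !![0,1,0; 0,0,1; 0,0,0]
/-- order 10 -/
def T10 : M6 := Matrix.fromBlocks !![0,0,0; 0,0,0; 0,0,0] !![0,0,1; 1,0,0; 0,1,0]
    !![0,0,1; 1,0,0; 0,1,0] !![1,0,0; 0,0,1; 0,0,0]

private noncomputable def _root_.Cfsg.Agent.LsF.f492c6c_0 : {f // @Cfsg.Agent.H916.Der.Six.W6 = f} := ⟨_, by first | (delta Cfsg.Agent.H916.Der.Six.W6; rewrite [Cfsg.Agent.LsF.mof_pat, Cfsg.Agent.LsF.vecCons_eq]; exact rfl) | exact rfl⟩
private noncomputable def _root_.Cfsg.Agent.LsF.f492c6c_1 : {f // @Cfsg.Agent.H547.Der.Six.W9 = f} := ⟨_, by first | (delta Cfsg.Agent.H547.Der.Six.W9; rewrite [Cfsg.Agent.LsF.mof_pat, Cfsg.Agent.LsF.vecCons_eq]; exact rfl) | exact rfl⟩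
private noncomputable def _root_.Cfsg.Agent.LsF.f492c6c_2 : {f // @Cfsg.Agent.H547.Der.Six.C3 = f} := ⟨_, by first | (delta Cfsg.Agent.H547.Der.Six.C3; rewrite [Cfsg.Agent.LsF.f492c6c_1.2, Cfsg.Agent.LsF.finFintype_eq, Cfsg.Agent.LsF.instMHMul_eq, Cfsg.Agent.LsF.instZMul_pat, Cfsg.Agent.LsF.zACM_pat]; exact rfl) | exact rfl⟩
set_option maxRecDepth 100000 in
theorem W6_props : W6 * Matrix.J (Fin 3) (ZMod 2) * W6.transpose = Matrix.J (Fin 3) (ZMod 2) ∧
    W6 * W6 * (W6 * W6) = C3 ∧ W6 * (W6 * W6) ≠ 1 ∧ W6 * (W6 * W6) * (W6 * (W6 * W6)) = 1 := by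
  (refine of_decide_eq_true ?_; (try (rewrite [Cfsg.Agent.LsF.f492c6c_0.2, Cfsg.Agent.LsF.f492c6c_2.2, Cfsg.Agent.LsF.zdecEq_eq, Cfsg.Agent.LsF.finFintype_eq, Cfsg.Agent.LsF.dMat_eq, Cfsg.Agent.LsF.instMHMul_eq, Cfsg.Agent.LsF.transpose_eq, Cfsg.Agent.LsF.instMOne_eq, Cfsg.Agent.LsF.instZMul_pat, Cfsg.Agent.LsF.zACM_pat, Cfsg.Agent.LsF.dAnd_eq, Cfsg.Agent.LsF.dNot_eq, Cfsg.Agent.LsF.dFinEq_eq, Cfsg.Agent.LsF.decide_eq])); decide +kernel)

private noncomputable def _root_.Cfsg.Agent.LsF.f492c6c_3 : {f // @Cfsg.Agent.H916.Der.Six.T8 = f} := ⟨_, by first | (delta Cfsg.Agent.H916.Der.Six.T8; rewrite [Cfsg.Agent.LsF.mof_pat, Cfsg.Agent.LsF.vecCons_eq]; exact rfl) | exact rfl⟩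
set_option maxRecDepth 100000 in
theorem T8_props : T8 * Matrix.J (Fin 3) (ZMod 2) * T8.transpose = Matrix.J (Fin 3) (ZMod 2) ∧
    T8 * T8 * (T8 * T8) ≠ 1 ∧ T8 * T8 * (T8 * T8) * (T8 * T8 * (T8 * T8)) = 1 := by
  (refine of_decide_eq_true ?_; (try (rewrite [Cfsg.Agent.LsF.f492c6c_3.2, Cfsg.Agent.LsF.zdecEq_eq, Cfsg.Agent.LsF.finFintype_eq, Cfsg.Agent.LsF.dMat_eq, Cfsg.Agent.LsF.instMHMul_eq, Cfsg.Agent.LsF.transpose_eq, Cfsg.Agent.LsF.instMOne_eq, Cfsg.Agent.LsF.instZMul_pat, Cfsg.Agent.LsF.zACM_pat, Cfsg.Agent.LsF.dAnd_eq, Cfsg.Agent.LsF.dNot_eq, Cfsg.Agent.LsF.dFinEq_eq, Cfsg.Agent.LsF.decide_eq])); decide +kernel)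

private noncomputable def _root_.Cfsg.Agent.LsF.f492c6c_4 : {f // @Cfsg.Agent.H916.Der.Six.T12 = f} := ⟨_, by first | (delta Cfsg.Agent.H916.Der.Six.T12; rewrite [Cfsg.Agent.LsF.mof_pat, Cfsg.Agent.LsF.vecCons_eq]; exact rfl) | exact rfl⟩
set_option maxRecDepth 100000 in
theorem T12_props : T12 * Matrix.J (Fin 3) (ZMod 2) * T12.transpose = Matrix.J (Fin 3) (ZMod 2) ∧
    T12 * T12 * (T12 * T12) ≠ 1 ∧ T12 * T12 * (T12 * T12) * (T12 * T12) ≠ 1 ∧
    T12 * T12 * (T12 * T12) * (T12 * T12 * (T12 * T12)) * (T12 * T12 * (T12 * T12)) = 1 := by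
  (refine of_decide_eq_true ?_; (try (rewrite [Cfsg.Agent.LsF.f492c6c_4.2, Cfsg.Agent.LsF.zdecEq_eq, Cfsg.Agent.LsF.finFintype_eq, Cfsg.Agent.LsF.dMat_eq, Cfsg.Agent.LsF.instMHMul_eq, Cfsg.Agent.LsF.transpose_eq, Cfsg.Agent.LsF.instMOne_eq, Cfsg.Agent.LsF.instZMul_pat, Cfsg.Agent.LsF.zACM_pat, Cfsg.Agent.LsF.dAnd_eq, Cfsg.Agent.LsF.dNot_eq, Cfsg.Agent.LsF.dFinEq_eq, Cfsg.Agent.LsF.decide_eq])); decide +kernel)

private noncomputable def _root_.Cfsg.Agent.LsF.f492c6c_5 : {f // @Cfsg.Agent.H916.Der.Six.T10 = f} := ⟨_, by first | (delta Cfsg.Agent.H916.Der.Six.T10; rewrite [Cfsg.Agent.LsF.mof_pat, Cfsg.Agent.LsF.vecCons_eq]; exact rfl) | exact rfl⟩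
set_option maxRecDepth 100000 in
theorem T10_props : T10 * Matrix.J (Fin 3) (ZMod 2) * T10.transpose = Matrix.J (Fin 3) (ZMod 2) ∧
    T10 * T10 ≠ 1 ∧ T10 * T10 * (T10 * T10) * T10 ≠ 1 ∧
    T10 * T10 * (T10 * T10) * T10 * (T10 * T10 * (T10 * T10) * T10) = 1 := by
  (refine of_decide_eq_true ?_; (try (rewrite [Cfsg.Agent.LsF.f492c6c_5.2, Cfsg.Agent.LsF.zdecEq_eq, Cfsg.Agent.LsF.finFintype_eq, Cfsg.Agent.LsF.dMat_eq, Cfsg.Agent.LsF.instMHMul_eq, Cfsg.Agent.LsF.transpose_eq, Cfsg.Agent.LsF.instMOne_eq, Cfsg.Agent.LsF.instZMul_pat, Cfsg.Agent.LsF.zACM_pat, Cfsg.Agent.LsF.dAnd_eq, Cfsg.Agent.LsF.dNot_eq, Cfsg.Agent.LsF.dFinEq_eq, Cfsg.Agent.LsF.decide_eq])); decide +kernel)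

/-- order 6 -/
def w6 : G6 := ⟨W6, SymplecticGroup.mem_iff.2 W6_props.1⟩
/-- order 8 -/
def t8 : G6 := ⟨T8, SymplecticGroup.mem_iff.2 T8_props.1⟩
/-- order 12 -/
def t12 : G6 := ⟨T12, SymplecticGroup.mem_iff.2 T12_props.1⟩
/-- order 10 -/
def t10 : G6 := ⟨T10, SymplecticGroup.mem_iff.2 T10_props.1⟩

theorem pow4 {G : Type*} [Monoid G] (x : G) : x ^ 4 = x * x * (x * x) := by
  rw [show 4 = 2 + 2 by norm_num, pow_add, pow_two]

theorem pow3 {G : Type*} [Monoid G] (x : G) : x ^ 3 = x * (x * x) := by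
  rw [show 3 = 1 + 2 by norm_num, pow_add, pow_two, pow_one]

theorem w6_pow4 : w6 ^ 4 = w9 ^ 3 := by
  apply Subtype.ext
  rw [coe_c3, pow4]
  exact W6_props.2.1

theorem w6_pow3 : w6 ^ 3 ≠ 1 := by
  intro h
  apply W6_props.2.2.1
  have := congrArg Subtype.val h
  rw [pow3] at this
  exact this

theorem w6_pow6 : w6 ^ 6 = 1 := by
  apply Subtype.ext
  rw [show 6 = 3 * 2 by norm_num, pow_mul, pow_two, pow3]
  exact W6_props.2.2.2

/-- the order from the maximal proper divisors -/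
theorem order_of {G : Type*} [Group G] {x : G} {n : ℕ} (hn : 0 < n) (h1 : x ^ n = 1)
    (h : ∀ p : ℕ, p.Prime → p ∣ n → x ^ (n / p) ≠ 1) : orderOf x = n :=
  orderOf_eq_of_pow_and_pow_div_prime hn h1 h

theorem order_w6 : orderOf w6 = 6 := by
  refine order_of (by norm_num) w6_pow6 fun p hp hd => ?_
  have h1 : p ∈ Nat.primeFactors 6 := Nat.mem_primeFactors.2 ⟨hp, hd, by norm_num⟩
  rw [show Nat.primeFactors 6 = {2, 3} by decide +kernel] at h1
  simp only [Finset.mem_insert, Finset.mem_singleton] at h1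
  rcases h1 with rfl | rfl
  · exact w6_pow3
  · intro h
    have h2 : w6 ^ 4 = 1 := by
      rw [show 4 = (6 / 3) * 2 by norm_num, pow_mul, h, one_pow]
    rw [w6_pow4] at h2
    have h3 := order_c3
    rw [h2, orderOf_one] at h3
    norm_num at h3

theorem t8_pow8 : t8 ^ 8 = 1 := by
  apply Subtype.ext
  rw [show 8 = 4 * 2 by norm_num, pow_mul, pow_two, pow4]
  exact T8_props.2.2

theorem order_t8 : orderOf t8 = 8 := by
  refine order_of (by norm_num) t8_pow8 fun p hp hd => ?_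
  have h1 : p ∈ Nat.primeFactors 8 := Nat.mem_primeFactors.2 ⟨hp, hd, by norm_num⟩
  rw [show Nat.primeFactors 8 = {2} by decide +kernel] at h1
  simp only [Finset.mem_singleton] at h1
  subst h1
  intro h
  apply T8_props.2.1
  have := congrArg Subtype.val h
  rw [show 8 / 2 = 4 by norm_num, pow4] at this
  exact this

theorem t12_pow12 : t12 ^ 12 = 1 := by
  apply Subtype.ext
  rw [show 12 = 4 * 3 by norm_num, pow_mul, pow_succ, pow_two, pow4]
  exact T12_props.2.2.2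

theorem t12_pow4 : t12 ^ 4 ≠ 1 := by
  intro h
  apply T12_props.2.1
  have := congrArg Subtype.val h
  rw [pow4] at this
  exact this

theorem t12_pow6 : t12 ^ 6 ≠ 1 := by
  intro h
  apply T12_props.2.2.1
  have := congrArg Subtype.val h
  rw [show 6 = 4 + 2 by norm_num, pow_add, pow4, pow_two] at this
  exact this

theorem order_t12 : orderOf t12 = 12 := by
  refine order_of (by norm_num) t12_pow12 fun p hp hd => ?_
  have h1 : p ∈ Nat.primeFactors 12 := Nat.mem_primeFactors.2 ⟨hp, hd, by norm_num⟩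
  rw [show Nat.primeFactors 12 = {2, 3} by decide +kernel] at h1
  simp only [Finset.mem_insert, Finset.mem_singleton] at h1
  rcases h1 with rfl | rfl
  · exact t12_pow6
  · exact t12_pow4

theorem order_t10 : orderOf t10 = 10 := by
  refine order_of (by norm_num) ?_ fun p hp hd => ?_
  · apply Subtype.ext
    rw [show 10 = 5 * 2 by norm_num, pow_mul, pow_two, show 5 = 4 + 1 by norm_num, pow_add, pow4, pow_one]
    exact T10_props.2.2.2
  have h1 : p ∈ Nat.primeFactors 10 := Nat.mem_primeFactors.2 ⟨hp, hd, by norm_num⟩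
  rw [show Nat.primeFactors 10 = {2, 5} by decide +kernel] at h1
  simp only [Finset.mem_insert, Finset.mem_singleton] at h1
  rcases h1 with rfl | rfl
  · intro h
    apply T10_props.2.2.1
    have := congrArg Subtype.val h
    rw [show 10 / 2 = 4 + 1 by norm_num, pow_add, pow4, pow_one] at this
    exact this
  · intro h
    apply T10_props.2.1
    have := congrArg Subtype.val h
    rw [show 10 / 5 = 2 by norm_num, pow_two] at this
    exact this

end Cfsg.Agent.H916.Der.Six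
end

-- part: H916/Der/SixForm
section
/-!
# `Sp₆(2)`: the action on the 64 quadratic forms (helper916, for S3502)
-/

set_option autoImplicit false

namespace Cfsg.Agent.H916.Der.Six

open Cfsg.Agent.H547.Der.Six

/-- quadratic forms with polar form `bil` -/
def Fm : Type := {f : V6 → ZMod 2 // ∀ u v, f (u + v) = f u + f v + bil u v}

instance : Finite Fm := inferInstanceAs (Finite {f : V6 → ZMod 2 // ∀ u v, f (u + v) = f u + f v + bil u v})

theorem inv_mulVec (g : G6) (v : V6) : ((g⁻¹ : G6) : M6).mulVec ((g : M6).mulVec v) = v := by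
  rw [Matrix.mulVec_mulVec]
  have : ((g⁻¹ : G6) : M6) * (g : M6) = ((g⁻¹ * g : G6) : M6) := rfl
  rw [this, inv_mul_cancel]
  exact Matrix.one_mulVec v

theorem mulVec_inv (g : G6) (v : V6) : (g : M6).mulVec (((g⁻¹ : G6) : M6).mulVec v) = v := by
  rw [Matrix.mulVec_mulVec]
  have : (g : M6) * ((g⁻¹ : G6) : M6) = ((g * g⁻¹ : G6) : M6) := rfl
  rw [this, mul_inv_cancel]
  exact Matrix.one_mulVec v

/-- the action on forms -/
instance actF : MulAction G6 Fm where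
  smul g f := ⟨fun v => f.1 (((g⁻¹ : G6) : M6).mulVec v), fun u v => by
    show f.1 (((g⁻¹ : G6) : M6).mulVec (u + v)) = f.1 (((g⁻¹ : G6) : M6).mulVec u) +
      f.1 (((g⁻¹ : G6) : M6).mulVec v) + bil u v
    rw [Matrix.mulVec_add, f.2, bil_smul]⟩
  one_smul f := by
    apply Subtype.ext
    funext v
    show f.1 (((1⁻¹ : G6) : M6).mulVec v) = f.1 v
    rw [inv_one]
    exact congrArg f.1 (Matrix.one_mulVec v)
  mul_smul g h f := by
    apply Subtype.ext
    funext v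
    show f.1 ((((g * h)⁻¹ : G6) : M6).mulVec v) = f.1 (((h⁻¹ : G6) : M6).mulVec (((g⁻¹ : G6) : M6).mulVec v))
    rw [Matrix.mulVec_mulVec, mul_inv_rev]
    rfl

theorem smul_val (g : G6) (f : Fm) (v : V6) : (g • f).1 v = f.1 (((g⁻¹ : G6) : M6).mulVec v) := rfl

theorem smul_val' (g : G6) (f : Fm) (v : V6) : (g • f).1 ((g : M6).mulVec v) = f.1 v := by
  rw [smul_val, inv_mulVec]

theorem add_hom_eq_zero (d : V6 →+ ZMod 2) (h : ∀ i : I6, d (Pi.single i 1) = 0) : d = 0 := by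
  have h1 : AddMonoidHom.toZModLinearMap 2 d = 0 := by
    apply LinearMap.pi_ext'
    intro i
    apply LinearMap.ext_ring
    exact h i
  exact DFunLike.ext _ _ fun v => LinearMap.congr_fun h1 v

/-- equality of forms from the values on the basis -/
theorem smul_eq {g : G6} {f f' : Fm} (h : ∀ i : I6, f'.1 ((g : M6).mulVec (Pi.single i 1)) = f.1 (Pi.single i 1)) :
    g • f = f' := by
  have hz : ∀ p : Fm, p.1 0 = 0 := by
    intro p
    have := p.2 0 0
    rw [add_zero] at this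
    have hb : bil 0 0 = 0 := by decide +kernel
    rw [hb, add_zero] at this
    have h2 : p.1 0 + p.1 0 = 0 := CharTwo.add_self_eq_zero _
    rwa [h2] at this
  let d : V6 →+ ZMod 2 :=
    { toFun := fun v => f'.1 ((g : M6).mulVec v) - f.1 v
      map_zero' := by rw [Matrix.mulVec_zero, hz, hz, sub_self]
      map_add' := fun u v => by rw [Matrix.mulVec_add, f'.2, f.2, bil_smul]; ring }
  have hd : d = 0 := add_hom_eq_zero d fun i => by
    show f'.1 ((g : M6).mulVec (Pi.single i 1)) - f.1 (Pi.single i 1) = 0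
    rw [h i, sub_self]
  apply Subtype.ext
  funext v
  rw [smul_val]
  have h1 : f'.1 ((g : M6).mulVec (((g⁻¹ : G6) : M6).mulVec v)) - f.1 (((g⁻¹ : G6) : M6).mulVec v) = 0 :=
    DFunLike.congr_fun hd _
  rw [mulVec_inv] at h1
  exact (sub_eq_zero.1 h1).symm

/-- the form `Q₀` -/
def q0 (v : V6) : ZMod 2 := v (.inl 0) * v (.inr 0) + v (.inl 1) * v (.inr 1) + v (.inl 2) * v (.inr 2)

/-- the forms by codes -/
def fv (n : P6) (v : V6) : ZMod 2 := q0 v + bil (dec n) v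

/-- the forms by codes -/
def fq (n : P6) : Fm := ⟨fv n, fun u v => by
  unfold fv q0 bil
  simp only [Pi.add_apply]
  ring⟩

theorem fq_surj (f : Fm) : ∃ n : P6, fq n = f := by
  refine ⟨enc (Sum.elim (fun i => f.1 (Pi.single (.inr i) 1)) (fun i => f.1 (Pi.single (.inl i) 1))), ?_⟩
  rw [← one_smul G6 (fq _)]
  apply smul_eq
  intro i
  show f.1 ((1 : M6).mulVec (Pi.single i 1)) = fv _ (Pi.single i 1)
  rw [Matrix.one_mulVec]
  unfold fv
  rw [dec_enc]
  rcases i with i | i <;> fin_cases i <;> simp [q0, bil]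

private noncomputable def _root_.Cfsg.Agent.KO7cf8507.k0 : ((x0 : Prop) → ((@Decidable @x0) → @Bool)) := @(fun (x0 : Prop) (x1 : @Decidable @x0) => @Decidable.rec.{1} @x0 @(fun (x2 : @Decidable @x0) => @Bool) @(fun (x2 : @Not @x0) => @Bool.false) @(fun (x2 : x0) => @Bool.true) @x1)
private theorem _root_.Cfsg.Agent.KO7cf8507.e0 : @Decidable.decide = @_root_.Cfsg.Agent.KO7cf8507.k0 := by delta _root_.Cfsg.Agent.KO7cf8507.k0; rfl'
private noncomputable def _root_.Cfsg.Agent.KO7cf8507.k2.{ku0, ku1} : ((x0 : Sort ku0) → ((x1 : (x0 → (x0 → Prop))) → ((x2 : ((@Quot.{ku0} @x0 @x1) → Sort ku1)) → ((x3 : ((x3 : x0) → @x2 (@Quot.mk.{ku0} @x0 @x1 @x3))) → (((x4 : x0) → ((x5 : x0) → ((x6 : @x1 @x4 @x5) → @Eq.{ku1} (@x2 (@Quot.mk.{ku0} @x0 @x1 @x5)) (@Eq.ndrec.{ku1, ku0} (@Quot.{ku0} @x0 @x1) (@Quot.mk.{ku0} @x0 @x1 @x4) @x2 (@x3 @x4) (@Quot.mk.{ku0} @x0 @x1 @x5) (@Quot.sound.{ku0} @x0 @x1 @x4 @x5 @x6)) (@x3 @x5)))) → ((x5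 : @Quot.{ku0} @x0 @x1) → @x2 @x5)))))) := @(fun (x0 : Sort ku0) (x1 : (x0 → (x0 → Prop))) (x2 : ((@Quot.{ku0} @x0 @x1) → Sort ku1)) (x3 : ((x3 : x0) → @x2 (@Quot.mk.{ku0} @x0 @x1 @x3))) (x4 : ((x4 : x0) → ((x5 : x0) → ((x6 : @x1 @x4 @x5) → @Eq.{ku1} (@x2 (@Quot.mk.{ku0} @x0 @x1 @x5)) (@Eq.ndrec.{ku1, ku0} (@Quot.{ku0} @x0 @x1) (@Quot.mk.{ku0} @x0 @x1 @x4) @x2 (@x3 @x4) (@Quot.mk.{ku0} @x0 @x1 @x5) (@Quot.sound.{ku0} @x0 @x1 @x4 @x5 @x6)) (@x3 @x5))))) (x5 : @Quot.{ku0} @x0 @x1) => @Eq.rec.{ku1, ku0} (@Quot.{ku0} @x0 @x1) (@PSigma.fst.{ku0, ku1} (@Quot.{ku0} @x0 @x1) @x2 (@Quot.lift.{ku0, (max (max 1 ku1) ku0)} @x0 @x1 (@PSigma.{ku0, ku1} (@Quot.{ku0} @x0 @x1) @x2) (@Quot.indep.{ku0, ku1} @x0 @x1 @x2 @x3) (@Quot.indepCoherent.{ku0, ku1} @x0 @x1 @x2 @x3 @x4) @x5)) @(fun (x6 : @Quot.{ku0} @x0 @x1) (x7 : @Eq.{ku0} (@Quot.{ku0} @x0 @x1) (@PSigma.fst.{ku0, ku1} (@Quot.{ku0} @x0 @x1) @x2 (@Quot.lift.{ku0, (max (max 1 ku1)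 ku0)} @x0 @x1 (@PSigma.{ku0, ku1} (@Quot.{ku0} @x0 @x1) @x2) (@Quot.indep.{ku0, ku1} @x0 @x1 @x2 @x3) (@Quot.indepCoherent.{ku0, ku1} @x0 @x1 @x2 @x3 @x4) @x5)) @x6) => @x2 @x6) (@PSigma.snd.{ku0, ku1} (@Quot.{ku0} @x0 @x1) @x2 (@Quot.lift.{ku0, (max (max 1 ku1) ku0)} @x0 @x1 (@PSigma.{ku0, ku1} (@Quot.{ku0} @x0 @x1) @x2) (@Quot.indep.{ku0, ku1} @x0 @x1 @x2 @x3) (@Quot.indepCoherent.{ku0, ku1} @x0 @x1 @x2 @x3 @x4) @x5)) @x5 (@Quot.liftIndepPr1.{ku0, ku1} @x0 @x1 @x2 @x3 @x4 @x5))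
private theorem _root_.Cfsg.Agent.KO7cf8507.e2.{ku0, ku1} : @Quot.rec.{ku0, ku1} = @_root_.Cfsg.Agent.KO7cf8507.k2.{ku0, ku1} := by delta _root_.Cfsg.Agent.KO7cf8507.k2; rfl'
private noncomputable def _root_.Cfsg.Agent.KO7cf8507.k3.{ku0, ku1} : ((x0 : Sort ku0) → ((x1 : (x0 → (x0 → Prop))) → ((x2 : ((@Quot.{ku0} @x0 @x1) → Sort ku1)) → (((x3 : x0) → @Subsingleton.{ku1} (@x2 (@Quot.mk.{ku0} @x0 @x1 @x3))) → ((x4 : @Quot.{ku0} @x0 @x1) → (((x5 : x0) → @x2 (@Quot.mk.{ku0} @x0 @x1 @x5)) → @x2 @x4)))))) := @(fun (x0 : Sort ku0) (x1 : (x0 → (x0 → Prop))) (x2 : ((@Quot.{ku0} @x0 @x1) → Sort ku1)) (x3 : ((x3 : x0) → @Subsingleton.{ku1} (@x2 (@Quot.mk.{ku0} @x0 @x1 @x3)))) (x4 : @Quot.{ku0} @x0 @x1) (x5 : ((x5 : x0) → @x2 (@Quot.mk.{ku0} @x0 @x1 @x5))) => @Cfsg.Agent.KO7cf8507.k2.{ku0, ku1} @x0 @x1 @(fun (x6 : @Quot.{ku0} @x0 @x1) => @x2 @x6) @(fun (x6 : x0) => @x5 @x6) (@Quot.recOnSubsingleton._proof_1.{ku1, ku0} @x0 @x1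 @x2 @x3 @x5) @x4)
private theorem _root_.Cfsg.Agent.KO7cf8507.e3.{ku0, ku1} : @Quot.recOnSubsingleton.{ku0, ku1} = @_root_.Cfsg.Agent.KO7cf8507.k3.{ku0, ku1} := by delta _root_.Cfsg.Agent.KO7cf8507.k3; rewrite [← Cfsg.Agent.KO7cf8507.e2.{ku0, ku1}]; rfl'
private theorem _root_.Cfsg.Agent.KO7cf8507.e4.{ku, kv} {α : Type kv} {M : List α → Sort ku} (φ : ∀ l, M l) {z : M List.nil} {s : ∀ a l, M l → M (List.cons a l)} (h0 : φ List.nil = z) (hs : ∀ a l, φ (List.cons a l) = s a l (φ l)) (l : List α) : φ l = @List.rec α M z s l := List.rec h0 (fun a l ih => (hs a l).trans (congrArg (s a l) ih)) l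
private noncomputable def _root_.Cfsg.Agent.KO7cf8507.k5.{ku0} : ((x0 : Sort (ku0+1)) → ((x1 : (x0 → Prop)) → ((@DecidablePred.{(ku0+1)} @x0 @x1) → ((x3 : @List.{ku0} @x0) → @Decidable ((x4 : x0) → ((@Membership.mem.{ku0, ku0} @x0 (@List.{ku0} @x0) (@List.instMembership.{ku0} @x0) @x3 @x4) → @x1 @x4)))))) := @(fun (x0 : Sort (ku0+1)) (x1 : (x0 → Prop)) (x2 : @DecidablePred.{(ku0+1)} @x0 @x1) (x3 : @List.{ku0} @x0) => @List.rec.{1, ku0} @x0 @(fun (x4 : @List.{ku0} @x0) => @Decidable ((x5 : x0) → ((@Membership.mem.{ku0, ku0} @x0 (@List.{ku0} @x0) (@List.instMembership.{ku0} @x0) @x4 @x5) → @x1 @x5))) (@Decidable.isTrue ((x4 : x0) → ((@Membership.mem.{ku0, ku0} @x0 (@List.{ku0} @x0) (@List.instMembership.{ku0} @x0) (@List.nil.{ku0} @x0) @x4) → @x1 @x4)) (@List.decidableBAll._proof_1.{ku0} @x0 @x1)) @(fun (x4 : x0) (x5 : @List.{ku0} @x0) (x6 : @Decidable ((x6 : x0) → ((@Membership.mem.{ku0, ku0} @x0 (@List.{ku0} @x0)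 (@List.instMembership.{ku0} @x0) @x5 @x6) → @x1 @x6))) => @Decidable.rec.{1} (@x1 @x4) @(fun (x7 : @Decidable (@x1 @x4)) => @Decidable ((x8 : x0) → ((@Membership.mem.{ku0, ku0} @x0 (@List.{ku0} @x0) (@List.instMembership.{ku0} @x0) (@List.cons.{ku0} @x0 @x4 @x5) @x8) → @x1 @x8))) @(fun (x7 : @Not (@x1 @x4)) => @Decidable.isFalse ((x8 : x0) → ((@Membership.mem.{ku0, ku0} @x0 (@List.{ku0} @x0) (@List.instMembership.{ku0} @x0) (@List.cons.{ku0} @x0 @x4 @x5) @x8) → @x1 @x8)) (@List.decidableBAll._proof_4.{ku0} @x0 @x1 @x4 @x5 @x7)) @(fun (x7 : @x1 @x4) => @Decidable.rec.{1} ((x8 : x0) → ((@Membership.mem.{ku0, ku0} @x0 (@List.{ku0} @x0) (@List.instMembership.{ku0} @x0) @x5 @x8) → @x1 @x8)) @(fun (x8 : @Decidable ((x8 : x0) → ((@Membership.mem.{ku0, ku0} @x0 (@List.{ku0} @x0) (@List.instMembership.{ku0} @x0) @x5 @x8) → @x1 @x8))) => @Decidable ((x9 : x0) → ((@Membership.mem.{ku0, ku0} @x0 (@List.{ku0} @x0) (@List.instMembership.{ku0}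 @x0) (@List.cons.{ku0} @x0 @x4 @x5) @x9) → @x1 @x9))) @(fun (x8 : @Not ((x8 : x0) → ((@Membership.mem.{ku0, ku0} @x0 (@List.{ku0} @x0) (@List.instMembership.{ku0} @x0) @x5 @x8) → @x1 @x8))) => @Decidable.isFalse ((x9 : x0) → ((@Membership.mem.{ku0, ku0} @x0 (@List.{ku0} @x0) (@List.instMembership.{ku0} @x0) (@List.cons.{ku0} @x0 @x4 @x5) @x9) → @x1 @x9)) (@List.decidableBAll._proof_3.{ku0} @x0 @x1 @x4 @x5 @x8)) @(fun (x8 : ((x8 : x0) → ((@Membership.mem.{ku0, ku0} @x0 (@List.{ku0} @x0) (@List.instMembership.{ku0} @x0) @x5 @x8) → @x1 @x8))) => @Decidable.isTrue ((x9 : x0) → ((@Membership.mem.{ku0, ku0} @x0 (@List.{ku0} @x0) (@List.instMembership.{ku0} @x0) (@List.cons.{ku0} @x0 @x4 @x5) @x9) → @x1 @x9)) (@List.decidableBAll._proof_2.{ku0} @x0 @x1 @x4 @x5 @x7 @x8)) @x6) (@x2 @x4)) @x3)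
private theorem _root_.Cfsg.Agent.KO7cf8507.e5.{ku0} : @List.decidableBAll.{ku0} = @_root_.Cfsg.Agent.KO7cf8507.k5.{ku0} := by delta _root_.Cfsg.Agent.KO7cf8507.k5; funext a0 a1 a2 a3; refine (_root_.Cfsg.Agent.KO7cf8507.e4 (fun a3 => @List.decidableBAll.{ku0} a0 a1 a2 a3) ?_ (fun c0 c1 => ?_) a3 :) <;> (rfl')
private noncomputable def _root_.Cfsg.Agent.KO7cf8507.k6.{ku0} : ((x0 : Sort (ku0+1)) → ((x1 : @Multiset.{ku0} @x0) → ((x2 : (x0 → Prop)) → (((x3 : x0) → @Decidable (@x2 @x3)) → @Decidable ((x4 : x0) → ((@Membership.mem.{ku0, ku0} @x0 (@Multiset.{ku0} @x0) (@Multiset.instMembership.{ku0} @x0) @x1 @x4) → @x2 @x4)))))) := @(fun (x0 : Sort (ku0+1)) (x1 : @Multiset.{ku0} @x0) (x2 : (x0 → Prop)) (x3 : ((x3 : x0) → @Decidable (@x2 @x3))) => @Cfsg.Agent.KO7cf8507.k3.{(ku0+1), 1} (@List.{ku0} @x0) (@Setoid.r.{(ku0+1)} (@List.{ku0} @x0) (@List.isSetoid.{ku0} @x0)) @(fun (x4 : @Quotient.{(ku0+1)} (@List.{ku0} @x0) (@List.isSetoid.{ku0}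 @x0)) => @Decidable ((x5 : x0) → ((@Membership.mem.{ku0, ku0} @x0 (@Multiset.{ku0} @x0) (@Multiset.instMembership.{ku0} @x0) @x4 @x5) → @x2 @x5))) (@Multiset.decidableForallMultiset._proof_2.{ku0} @x0 @x2) @x1 @(fun (x4 : @List.{ku0} @x0) => @Decidable.rec.{1} ((x5 : x0) → ((@Membership.mem.{ku0, ku0} @x0 (@List.{ku0} @x0) (@List.instMembership.{ku0} @x0) @x4 @x5) → @x2 @x5)) @(fun (x5 : @Decidable ((x5 : x0) → ((@Membership.mem.{ku0, ku0} @x0 (@List.{ku0} @x0) (@List.instMembership.{ku0} @x0) @x4 @x5) → @x2 @x5))) => @Decidable ((x6 : x0) → ((@Membership.mem.{ku0, ku0} @x0 (@Multiset.{ku0} @x0) (@Multiset.instMembership.{ku0} @x0) (@Quotient.mk.{(ku0+1)} (@List.{ku0} @x0) (@List.isSetoid.{ku0} @x0) @x4) @x6) → @x2 @x6))) @(fun (x5 : @Not ((x5 : x0) → ((@Membership.mem.{ku0, ku0} @x0 (@List.{ku0} @x0) (@List.instMembership.{ku0} @x0) @x4 @x5) → @x2 @x5))) => @Decidable.isFalse ((x6 : x0) → ((@Membership.mem.{ku0,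 ku0} @x0 (@Multiset.{ku0} @x0) (@Multiset.instMembership.{ku0} @x0) (@Quotient.mk.{(ku0+1)} (@List.{ku0} @x0) (@List.isSetoid.{ku0} @x0) @x4) @x6) → @x2 @x6)) (@decidable_of_decidable_of_iff._proof_1 ((x6 : x0) → ((@Membership.mem.{ku0, ku0} @x0 (@List.{ku0} @x0) (@List.instMembership.{ku0} @x0) @x4 @x6) → @x2 @x6)) ((x6 : x0) → ((@Membership.mem.{ku0, ku0} @x0 (@Multiset.{ku0} @x0) (@Multiset.instMembership.{ku0} @x0) (@Quotient.mk.{(ku0+1)} (@List.{ku0} @x0) (@List.isSetoid.{ku0} @x0) @x4) @x6) → @x2 @x6)) (@Multiset.decidableForallMultiset._proof_1.{ku0} @x0 @x2 @x4) @x5)) @(fun (x5 : ((x5 : x0) → ((@Membership.mem.{ku0, ku0} @x0 (@List.{ku0} @x0) (@List.instMembership.{ku0} @x0) @x4 @x5) → @x2 @x5))) => @Decidable.isTrue ((x6 : x0) → ((@Membership.mem.{ku0, ku0} @x0 (@Multiset.{ku0} @x0) (@Multiset.instMembership.{ku0} @x0) (@Quotient.mk.{(ku0+1)} (@List.{ku0} @x0) (@List.isSetoid.{ku0} @x0) @x4) @x6) → @x2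 @x6)) (@Iff.mp ((x6 : x0) → ((@Membership.mem.{ku0, ku0} @x0 (@List.{ku0} @x0) (@List.instMembership.{ku0} @x0) @x4 @x6) → @x2 @x6)) ((x6 : x0) → ((@Membership.mem.{ku0, ku0} @x0 (@Multiset.{ku0} @x0) (@Multiset.instMembership.{ku0} @x0) (@Quotient.mk.{(ku0+1)} (@List.{ku0} @x0) (@List.isSetoid.{ku0} @x0) @x4) @x6) → @x2 @x6)) (@Multiset.decidableForallMultiset._proof_1.{ku0} @x0 @x2 @x4) @x5)) (@Cfsg.Agent.KO7cf8507.k5.{ku0} @x0 @x2 @x3 @x4)))
private theorem _root_.Cfsg.Agent.KO7cf8507.e6.{ku0} : @Multiset.decidableForallMultiset.{ku0} = @_root_.Cfsg.Agent.KO7cf8507.k6.{ku0} := by delta _root_.Cfsg.Agent.KO7cf8507.k6; rewrite [← Cfsg.Agent.KO7cf8507.e5.{ku0}, ← Cfsg.Agent.KO7cf8507.e3.{(ku0+1), 1}]; rfl'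
private noncomputable def _root_.Cfsg.Agent.KO7cf8507.k10.{ku0} : ((x0 : Sort (ku0+1)) → ((x1 : @Multiset.{ku0} @x0) → ((x2 : ((x2 : x0) → ((@Membership.mem.{ku0, ku0} @x0 (@Multiset.{ku0} @x0) (@Multiset.instMembership.{ku0} @x0) @x1 @x2) → Prop))) → (((x3 : x0) → ((x4 : @Membership.mem.{ku0, ku0} @x0 (@Multiset.{ku0} @x0) (@Multiset.instMembership.{ku0} @x0) @x1 @x3) → @Decidable (@x2 @x3 @x4))) → @Decidable ((x4 : x0) → ((x5 : @Membership.mem.{ku0, ku0} @x0 (@Multiset.{ku0} @x0) (@Multiset.instMembership.{ku0} @x0) @x1 @x4) → @x2 @x4 @x5)))))) := @(fun (x0 : Sort (ku0+1)) (x1 : @Multiset.{ku0} @x0) (x2 : ((x2 : x0) → ((@Membership.mem.{ku0, ku0} @x0 (@Multiset.{ku0} @x0) (@Multiset.instMembership.{ku0} @x0) @x1 @x2) → Prop))) (x3 : ((x3 : x0) → ((x4 : @Membership.mem.{ku0, ku0} @x0 (@Multiset.{ku0} @x0) (@Multiset.instMembership.{ku0} @x0) @x1 @x3) → @Decidable (@x2 @x3 @x4)))) => @Decidable.rec.{1} ((x4 : @Subtype.{(ku0+1)}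 @x0 @(fun (x4 : x0) => @Membership.mem.{ku0, ku0} @x0 (@Multiset.{ku0} @x0) (@Multiset.instMembership.{ku0} @x0) @x1 @x4)) → ((@Membership.mem.{ku0, ku0} (@Subtype.{(ku0+1)} @x0 @(fun (x5 : x0) => @Membership.mem.{ku0, ku0} @x0 (@Multiset.{ku0} @x0) (@Multiset.instMembership.{ku0} @x0) @x1 @x5)) (@Multiset.{ku0} (@Subtype.{(ku0+1)} @x0 @(fun (x5 : x0) => @Membership.mem.{ku0, ku0} @x0 (@Multiset.{ku0} @x0) (@Multiset.instMembership.{ku0} @x0) @x1 @x5))) (@Multiset.instMembership.{ku0} (@Subtype.{(ku0+1)} @x0 @(fun (x5 : x0) => @Membership.mem.{ku0, ku0} @x0 (@Multiset.{ku0} @x0) (@Multiset.instMembership.{ku0} @x0) @x1 @x5))) (@Multiset.attach.{ku0} @x0 @x1) @x4) → @x2 (@Subtype.val.{(ku0+1)} @x0 @(fun (x6 : x0) => @Membership.mem.{ku0, ku0} @x0 (@Multiset.{ku0} @x0) (@Multiset.instMembership.{ku0} @x0) @x1 @x6) @x4) (@Multiset.decidableDforallMultiset._proof_1.{ku0} @x0 @x1 @x4))) @(fun (x4 : @Decidable ((x4 :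 @Subtype.{(ku0+1)} @x0 @(fun (x4 : x0) => @Membership.mem.{ku0, ku0} @x0 (@Multiset.{ku0} @x0) (@Multiset.instMembership.{ku0} @x0) @x1 @x4)) → ((@Membership.mem.{ku0, ku0} (@Subtype.{(ku0+1)} @x0 @(fun (x5 : x0) => @Membership.mem.{ku0, ku0} @x0 (@Multiset.{ku0} @x0) (@Multiset.instMembership.{ku0} @x0) @x1 @x5)) (@Multiset.{ku0} (@Subtype.{(ku0+1)} @x0 @(fun (x5 : x0) => @Membership.mem.{ku0, ku0} @x0 (@Multiset.{ku0} @x0) (@Multiset.instMembership.{ku0} @x0) @x1 @x5))) (@Multiset.instMembership.{ku0} (@Subtype.{(ku0+1)} @x0 @(fun (x5 : x0) => @Membership.mem.{ku0, ku0} @x0 (@Multiset.{ku0} @x0) (@Multiset.instMembership.{ku0} @x0) @x1 @x5))) (@Multiset.attach.{ku0} @x0 @x1) @x4) → @x2 (@Subtype.val.{(ku0+1)} @x0 @(fun (x6 : x0) => @Membership.mem.{ku0, ku0} @x0 (@Multiset.{ku0} @x0) (@Multiset.instMembership.{ku0} @x0) @x1 @x6) @x4) (@Multiset.decidableDforallMultiset._proof_1.{ku0} @x0 @x1 @x4)))) => @Decidable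 ((x5 : x0) → ((x6 : @Membership.mem.{ku0, ku0} @x0 (@Multiset.{ku0} @x0) (@Multiset.instMembership.{ku0} @x0) @x1 @x5) → @x2 @x5 @x6))) @(fun (x4 : @Not ((x4 : @Subtype.{(ku0+1)} @x0 @(fun (x4 : x0) => @Membership.mem.{ku0, ku0} @x0 (@Multiset.{ku0} @x0) (@Multiset.instMembership.{ku0} @x0) @x1 @x4)) → ((@Membership.mem.{ku0, ku0} (@Subtype.{(ku0+1)} @x0 @(fun (x5 : x0) => @Membership.mem.{ku0, ku0} @x0 (@Multiset.{ku0} @x0) (@Multiset.instMembership.{ku0} @x0) @x1 @x5)) (@Multiset.{ku0} (@Subtype.{(ku0+1)} @x0 @(fun (x5 : x0) => @Membership.mem.{ku0, ku0} @x0 (@Multiset.{ku0} @x0) (@Multiset.instMembership.{ku0} @x0) @x1 @x5))) (@Multiset.instMembership.{ku0} (@Subtype.{(ku0+1)} @x0 @(fun (x5 : x0) => @Membership.mem.{ku0, ku0} @x0 (@Multiset.{ku0} @x0) (@Multiset.instMembership.{ku0} @x0) @x1 @x5))) (@Multiset.attach.{ku0} @x0 @x1) @x4) → @x2 (@Subtype.val.{(ku0+1)} @x0 @(fun (x6 : x0) => @Membership.mem.{ku0,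 ku0} @x0 (@Multiset.{ku0} @x0) (@Multiset.instMembership.{ku0} @x0) @x1 @x6) @x4) (@Multiset.decidableDforallMultiset._proof_1.{ku0} @x0 @x1 @x4)))) => @Decidable.isFalse ((x5 : x0) → ((x6 : @Membership.mem.{ku0, ku0} @x0 (@Multiset.{ku0} @x0) (@Multiset.instMembership.{ku0} @x0) @x1 @x5) → @x2 @x5 @x6)) (@decidable_of_decidable_of_iff._proof_1 ((x5 : @Subtype.{(ku0+1)} @x0 @(fun (x5 : x0) => @Membership.mem.{ku0, ku0} @x0 (@Multiset.{ku0} @x0) (@Multiset.instMembership.{ku0} @x0) @x1 @x5)) → ((@Membership.mem.{ku0, ku0} (@Subtype.{(ku0+1)} @x0 @(fun (x6 : x0) => @Membership.mem.{ku0, ku0} @x0 (@Multiset.{ku0} @x0) (@Multiset.instMembership.{ku0} @x0) @x1 @x6)) (@Multiset.{ku0} (@Subtype.{(ku0+1)} @x0 @(fun (x6 : x0) => @Membership.mem.{ku0, ku0} @x0 (@Multiset.{ku0} @x0) (@Multiset.instMembership.{ku0} @x0) @x1 @x6))) (@Multiset.instMembership.{ku0} (@Subtype.{(ku0+1)} @x0 @(fun (x6 : x0) => @Membership.mem.{ku0,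 ku0} @x0 (@Multiset.{ku0} @x0) (@Multiset.instMembership.{ku0} @x0) @x1 @x6))) (@Multiset.attach.{ku0} @x0 @x1) @x5) → @x2 (@Subtype.val.{(ku0+1)} @x0 @(fun (x7 : x0) => @Membership.mem.{ku0, ku0} @x0 (@Multiset.{ku0} @x0) (@Multiset.instMembership.{ku0} @x0) @x1 @x7) @x5) (@Multiset.decidableDforallMultiset._proof_1.{ku0} @x0 @x1 @x5))) ((x5 : x0) → ((x6 : @Membership.mem.{ku0, ku0} @x0 (@Multiset.{ku0} @x0) (@Multiset.instMembership.{ku0} @x0) @x1 @x5) → @x2 @x5 @x6)) (@Multiset.decidableDforallMultiset._proof_2.{ku0} @x0 @x1 @x2) @x4)) @(fun (x4 : ((x4 : @Subtype.{(ku0+1)} @x0 @(fun (x4 : x0) => @Membership.mem.{ku0, ku0} @x0 (@Multiset.{ku0} @x0) (@Multiset.instMembership.{ku0} @x0) @x1 @x4)) → ((@Membership.mem.{ku0, ku0} (@Subtype.{(ku0+1)} @x0 @(fun (x5 : x0) => @Membership.mem.{ku0, ku0} @x0 (@Multiset.{ku0} @x0) (@Multiset.instMembership.{ku0} @x0) @x1 @x5)) (@Multiset.{ku0} (@Subtype.{(ku0+1)} @x0 @(fun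 (x5 : x0) => @Membership.mem.{ku0, ku0} @x0 (@Multiset.{ku0} @x0) (@Multiset.instMembership.{ku0} @x0) @x1 @x5))) (@Multiset.instMembership.{ku0} (@Subtype.{(ku0+1)} @x0 @(fun (x5 : x0) => @Membership.mem.{ku0, ku0} @x0 (@Multiset.{ku0} @x0) (@Multiset.instMembership.{ku0} @x0) @x1 @x5))) (@Multiset.attach.{ku0} @x0 @x1) @x4) → @x2 (@Subtype.val.{(ku0+1)} @x0 @(fun (x6 : x0) => @Membership.mem.{ku0, ku0} @x0 (@Multiset.{ku0} @x0) (@Multiset.instMembership.{ku0} @x0) @x1 @x6) @x4) (@Multiset.decidableDforallMultiset._proof_1.{ku0} @x0 @x1 @x4)))) => @Decidable.isTrue ((x5 : x0) → ((x6 : @Membership.mem.{ku0, ku0} @x0 (@Multiset.{ku0} @x0) (@Multiset.instMembership.{ku0} @x0) @x1 @x5) → @x2 @x5 @x6)) (@Iff.mp ((x5 : @Subtype.{(ku0+1)} @x0 @(fun (x5 : x0) => @Membership.mem.{ku0, ku0} @x0 (@Multiset.{ku0} @x0) (@Multiset.instMembership.{ku0} @x0) @x1 @x5)) → ((@Membership.mem.{ku0, ku0} (@Subtype.{(ku0+1)} @x0 @(fun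 (x6 : x0) => @Membership.mem.{ku0, ku0} @x0 (@Multiset.{ku0} @x0) (@Multiset.instMembership.{ku0} @x0) @x1 @x6)) (@Multiset.{ku0} (@Subtype.{(ku0+1)} @x0 @(fun (x6 : x0) => @Membership.mem.{ku0, ku0} @x0 (@Multiset.{ku0} @x0) (@Multiset.instMembership.{ku0} @x0) @x1 @x6))) (@Multiset.instMembership.{ku0} (@Subtype.{(ku0+1)} @x0 @(fun (x6 : x0) => @Membership.mem.{ku0, ku0} @x0 (@Multiset.{ku0} @x0) (@Multiset.instMembership.{ku0} @x0) @x1 @x6))) (@Multiset.attach.{ku0} @x0 @x1) @x5) → @x2 (@Subtype.val.{(ku0+1)} @x0 @(fun (x7 : x0) => @Membership.mem.{ku0, ku0} @x0 (@Multiset.{ku0} @x0) (@Multiset.instMembership.{ku0} @x0) @x1 @x7) @x5) (@Multiset.decidableDforallMultiset._proof_1.{ku0} @x0 @x1 @x5))) ((x5 : x0) → ((x6 : @Membership.mem.{ku0, ku0} @x0 (@Multiset.{ku0} @x0) (@Multiset.instMembership.{ku0} @x0) @x1 @x5) → @x2 @x5 @x6)) (@Multiset.decidableDforallMultiset._proof_2.{ku0} @x0 @x1 @x2) @x4)) (@Cfsg.Agent.KO7cf8507.k6.{ku0}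 (@Subtype.{(ku0+1)} @x0 @(fun (x4 : x0) => @Membership.mem.{ku0, ku0} @x0 (@Multiset.{ku0} @x0) (@Multiset.instMembership.{ku0} @x0) @x1 @x4)) (@Multiset.pmap.{ku0, ku0} @x0 (@Subtype.{(ku0+1)} @x0 @(fun (x4 : x0) => @Membership.mem.{ku0, ku0} @x0 (@Multiset.{ku0} @x0) (@Multiset.instMembership.{ku0} @x0) @x1 @x4)) @(fun (x4 : x0) => @Membership.mem.{ku0, ku0} @x0 (@Multiset.{ku0} @x0) (@Multiset.instMembership.{ku0} @x0) @x1 @x4) (@Subtype.mk.{(ku0+1)} @x0 @(fun (x4 : x0) => @Membership.mem.{ku0, ku0} @x0 (@Multiset.{ku0} @x0) (@Multiset.instMembership.{ku0} @x0) @x1 @x4)) @x1 (@Multiset.attach._proof_1.{ku0} @x0 @x1)) @(fun (x4 : @Subtype.{(ku0+1)} @x0 @(fun (x4 : x0) => @Membership.mem.{ku0, ku0} @x0 (@Multiset.{ku0} @x0) (@Multiset.instMembership.{ku0} @x0) @x1 @x4)) => @x2 (@Subtype.val.{(ku0+1)} @x0 @(fun (x5 : x0) => @Membership.mem.{ku0, ku0} @x0 (@Multiset.{ku0} @x0) (@Multiset.instMembership.{ku0} @x0)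 @x1 @x5) @x4) (@Multiset.decidableDforallMultiset._proof_1.{ku0} @x0 @x1 @x4)) @(fun (x4 : @Subtype.{(ku0+1)} @x0 @(fun (x4 : x0) => @Membership.mem.{ku0, ku0} @x0 (@Multiset.{ku0} @x0) (@Multiset.instMembership.{ku0} @x0) @x1 @x4)) => @x3 (@Subtype.val.{(ku0+1)} @x0 @(fun (x5 : x0) => @Membership.mem.{ku0, ku0} @x0 (@Multiset.{ku0} @x0) (@Multiset.instMembership.{ku0} @x0) @x1 @x5) @x4) (@Multiset.decidableDforallMultiset._proof_1.{ku0} @x0 @x1 @x4))))
private theorem _root_.Cfsg.Agent.KO7cf8507.e10.{ku0} : @Multiset.decidableDforallMultiset.{ku0} = @_root_.Cfsg.Agent.KO7cf8507.k10.{ku0} := by delta _root_.Cfsg.Agent.KO7cf8507.k10; rewrite [← Cfsg.Agent.KO7cf8507.e6.{ku0}]; rfl'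
private noncomputable def _root_.Cfsg.Agent.KO7cf8507.k11.{ku0} : ((x0 : Sort (ku0+1)) → ((x1 : @Finset.{ku0} @x0) → ((x2 : ((x2 : x0) → ((@Membership.mem.{ku0, ku0} @x0 (@Finset.{ku0} @x0) (@SetLike.instMembership.{ku0, ku0} (@Finset.{ku0} @x0) @x0 (@Finset.instSetLike.{ku0} @x0)) @x1 @x2) → Prop))) → (((x3 : x0) → ((x4 : @Membership.mem.{ku0, ku0} @x0 (@Finset.{ku0} @x0) (@SetLike.instMembership.{ku0, ku0} (@Finset.{ku0} @x0) @x0 (@Finset.instSetLike.{ku0} @x0)) @x1 @x3) → @Decidable (@x2 @x3 @x4))) → @Decidable ((x4 : x0) → ((x5 : @Membership.mem.{ku0, ku0} @x0 (@Finset.{ku0} @x0) (@SetLike.instMembership.{ku0, ku0} (@Finset.{ku0} @x0) @x0 (@Finset.instSetLike.{ku0} @x0)) @x1 @x4) → @x2 @x4 @x5)))))) := @(fun (x0 : Sort (ku0+1)) (x1 : @Finset.{ku0} @x0) (x2 : ((x2 : x0) → ((@Membership.mem.{ku0, ku0} @x0 (@Finset.{ku0} @x0) (@SetLike.instMembership.{ku0, ku0} (@Finset.{ku0} @x0) @x0 (@Finset.instSetLike.{ku0}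 @x0)) @x1 @x2) → Prop))) (x3 : ((x3 : x0) → ((x4 : @Membership.mem.{ku0, ku0} @x0 (@Finset.{ku0} @x0) (@SetLike.instMembership.{ku0, ku0} (@Finset.{ku0} @x0) @x0 (@Finset.instSetLike.{ku0} @x0)) @x1 @x3) → @Decidable (@x2 @x3 @x4)))) => @Cfsg.Agent.KO7cf8507.k10.{ku0} @x0 (@Finset.val.{ku0} @x0 @x1) @x2 @x3)
private theorem _root_.Cfsg.Agent.KO7cf8507.e11.{ku0} : @Finset.decidableDforallFinset.{ku0} = @_root_.Cfsg.Agent.KO7cf8507.k11.{ku0} := by delta _root_.Cfsg.Agent.KO7cf8507.k11; rewrite [← Cfsg.Agent.KO7cf8507.e10.{ku0}]; rfl'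
private noncomputable def _root_.Cfsg.Agent.KO7cf8507.k14 : ((x0 : @Nat) → ((x1 : @Nat) → @Decidable (@Eq.{1} @Nat @x0 @x1))) := @(fun (x0 : @Nat) (x1 : @Nat) => @Bool.rec.{1} @(fun (x2 : @Bool) => ((@Eq.{1} @Bool (@Nat.beq @x0 @x1) @x2) → @Decidable (@Eq.{1} @Nat @x0 @x1))) @(fun (x2 : @Eq.{1} @Bool (@Nat.beq @x0 @x1) @Bool.false) => @Decidable.isFalse (@Eq.{1} @Nat @x0 @x1) (@Nat.ne_of_beq_eq_false @x0 @x1 @x2)) @(fun (x2 : @Eq.{1} @Bool (@Nat.beq @x0 @x1) @Bool.true) => @Decidable.isTrue (@Eq.{1} @Nat @x0 @x1) (@Nat.eq_of_beq_eq_true @x0 @x1 @x2)) (@Nat.beq @x0 @x1) (@Eq.refl.{1} @Bool (@Nat.beq @x0 @x1)))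
private theorem _root_.Cfsg.Agent.KO7cf8507.e14 : @Nat.decEq = @_root_.Cfsg.Agent.KO7cf8507.k14 := by delta _root_.Cfsg.Agent.KO7cf8507.k14; rfl'
private noncomputable def _root_.Cfsg.Agent.KO7cf8507.k15 : ((x0 : @Int) → ((x1 : @Int) → @Decidable (@Eq.{1} @Int @x0 @x1))) := @(fun (x0 : @Int) (x1 : @Int) => @Int.rec.{1} @(fun (x2 : @Int) => @Decidable (@Eq.{1} @Int @x2 @x1)) @(fun (x2 : @Nat) => @Int.rec.{1} @(fun (x3 : @Int) => @Decidable (@Eq.{1} @Int (@Int.ofNat @x2) @x3)) @(fun (x3 : @Nat) => @Decidable.rec.{1} (@Eq.{1} @Nat @x2 @x3) @(fun (x4 : @Decidable (@Eq.{1} @Nat @x2 @x3)) => @Decidable (@Eq.{1} @Int (@Int.ofNat @x2) (@Int.ofNat @x3))) @(fun (x4 : @Not (@Eq.{1} @Nat @x2 @x3)) => @Decidable.isFalse (@Eq.{1} @Int (@Int.ofNat @x2) (@Int.ofNat @x3)) (@Int.decEq._proof_2 @x2 @x3 @x4)) @(fun (x4 : @Eq.{1} @Nat @x2 @x3) => @Decidable.isTrue (@Eq.{1} @Int (@Int.ofNat @x2) (@Int.ofNat @x3)) (@Int.decEq._proof_1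 @x2 @x3 @x4)) (@Cfsg.Agent.KO7cf8507.k14 @x2 @x3)) @(fun (x3 : @Nat) => @Decidable.isFalse (@Eq.{1} @Int (@Int.ofNat @x2) (@Int.negSucc @x3)) (@Int.decEq._proof_3 @x2 @x3)) @x1) @(fun (x2 : @Nat) => @Int.rec.{1} @(fun (x3 : @Int) => @Decidable (@Eq.{1} @Int (@Int.negSucc @x2) @x3)) @(fun (x3 : @Nat) => @Decidable.isFalse (@Eq.{1} @Int (@Int.negSucc @x2) (@Int.ofNat @x3)) (@Int.decEq._proof_4 @x2 @x3)) @(fun (x3 : @Nat) => @Decidable.rec.{1} (@Eq.{1} @Nat @x2 @x3) @(fun (x4 : @Decidable (@Eq.{1} @Nat @x2 @x3)) => @Decidable (@Eq.{1} @Int (@Int.negSucc @x2) (@Int.negSucc @x3))) @(fun (x4 : @Not (@Eq.{1} @Nat @x2 @x3)) => @Decidable.isFalse (@Eq.{1} @Int (@Int.negSucc @x2) (@Int.negSucc @x3)) (@Int.decEq._proof_6 @x2 @x3 @x4)) @(fun (x4 : @Eq.{1} @Nat @x2 @x3) => @Decidable.isTrue (@Eq.{1} @Int (@Int.negSucc @x2) (@Int.negSucc @x3)) (@Int.decEq._proof_5 @x2 @x3 @x4)) (@Cfsg.Agent.KO7cf8507.k14 @x2 @x3)) @x1) @x0)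
private theorem _root_.Cfsg.Agent.KO7cf8507.e15 : @Int.decEq = @_root_.Cfsg.Agent.KO7cf8507.k15 := by delta _root_.Cfsg.Agent.KO7cf8507.k15; rewrite [← Cfsg.Agent.KO7cf8507.e14]; rfl'
private noncomputable def _root_.Cfsg.Agent.KO7cf8507.k16 : ((x0 : @Nat) → @DecidableEq.{1} (@Fin @x0)) := @(fun (x0 : @Nat) (x1 : @Fin @x0) (x2 : @Fin @x0) => @Decidable.rec.{1} (@Eq.{1} @Nat (@Fin.val @x0 @x1) (@Fin.val @x0 @x2)) @(fun (x3 : @Decidable (@Eq.{1} @Nat (@Fin.val @x0 @x1) (@Fin.val @x0 @x2))) => @Decidable (@Eq.{1} (@Fin @x0) @x1 @x2)) @(fun (x3 : @Not (@Eq.{1} @Nat (@Fin.val @x0 @x1) (@Fin.val @x0 @x2))) => @Decidable.isFalse (@Eq.{1} (@Fin @x0) @x1 @x2) (@instDecidableEqFin._proof_1 @x0 @x1 @x2 @x3)) @(fun (x3 : @Eq.{1} @Nat (@Fin.val @x0 @x1) (@Fin.val @x0 @x2)) => @Decidable.isTrue (@Eq.{1} (@Fin @x0) @x1 @x2) (@Fin.eq_of_val_eq @x0 @x1 @x2 @x3)) (@Cfsg.Agent.KO7cf8507.k14 (@Fin.val @x0 @x1) (@Fin.val @x0 @x2)))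
private theorem _root_.Cfsg.Agent.KO7cf8507.e16 : @instDecidableEqFin = @_root_.Cfsg.Agent.KO7cf8507.k16 := by delta _root_.Cfsg.Agent.KO7cf8507.k16; rewrite [← Cfsg.Agent.KO7cf8507.e14]; rfl'
private noncomputable def _root_.Cfsg.Agent.KO7cf8507.k17 : ((x0 : @Nat) → @DecidableEq.{1} (@ZMod @x0)) := @(fun (x0 : @Nat) => @Nat.rec.{1} @(fun (x1 : @Nat) => @DecidableEq.{1} (@ZMod @x1)) @Cfsg.Agent.KO7cf8507.k15 @(fun (x1 : @Nat) (x2 : @DecidableEq.{1} (@ZMod @x1)) => @Cfsg.Agent.KO7cf8507.k16 (@Nat.add @x1 (nat_lit 1))) @x0)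
private theorem _root_.Cfsg.Agent.KO7cf8507.e17 : @ZMod.decidableEq = @_root_.Cfsg.Agent.KO7cf8507.k17 := by delta _root_.Cfsg.Agent.KO7cf8507.k17; rewrite [← Cfsg.Agent.KO7cf8507.e16, ← Cfsg.Agent.KO7cf8507.e15]; rfl'
private noncomputable def _root_.Cfsg.Agent.KO7cf8507.k18.{ku0, ku1, ku2} : ((x0 : Sort (ku0+1)) → ((x1 : Sort (ku1+1)) → ((x2 : Sort ku2) → ((x0 → x2) → ((x1 → x2) → ((@Sum.{ku0, ku1} @x0 @x1) → x2)))))) := @(fun (x0 : Sort (ku0+1)) (x1 : Sort (ku1+1)) (x2 : Sort ku2) (x3 : (x0 → x2)) (x4 : (x1 → x2)) (x5 : @Sum.{ku0, ku1} @x0 @x1) => @Sum.rec.{ku2, ku0, ku1} @x0 @x1 @(fun (x6 : @Sum.{ku0, ku1} @x0 @x1) => x2) @(fun (x6 : x0) => @x3 @x6) @(fun (x6 : x1) => @x4 @x6) @x5)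
private theorem _root_.Cfsg.Agent.KO7cf8507.e18.{ku0, ku1, ku2} : @Sum.elim.{ku0, ku1, ku2} = @_root_.Cfsg.Agent.KO7cf8507.k18.{ku0, ku1, ku2} := by delta _root_.Cfsg.Agent.KO7cf8507.k18; rfl'
private theorem _root_.Cfsg.Agent.KO7cf8507.e31.{ku} {M : Nat → Sort ku} (φ : ∀ n, M n) {z : M Nat.zero} {s : ∀ n, M n → M (Nat.succ n)} (h0 : φ Nat.zero = z) (hs : ∀ n, φ (Nat.succ n) = s n (φ n)) (n : Nat) : φ n = @Nat.rec M z s n := Nat.rec h0 (fun n ih => (hs n).trans (congrArg (s n) ih)) n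
private noncomputable def _root_.Cfsg.Agent.KO7cf8507.k42.{ku0, ku1} : ((x0 : Sort (ku0+1)) → ((x1 : Sort (ku1+1)) → ((@DecidableEq.{(ku0+1)} @x0) → ((@DecidableEq.{(ku1+1)} @x1) → ((x4 : @Sum.{ku0, ku1} @x0 @x1) → ((x5 : @Sum.{ku0, ku1} @x0 @x1) → @Decidable (@Eq.{(max (ku1+1) (ku0+1))} (@Sum.{ku0, ku1} @x0 @x1) @x4 @x5))))))) := @(fun (x0 : Sort (ku0+1)) (x1 : Sort (ku1+1)) (x2 : @DecidableEq.{(ku0+1)} @x0) (x3 : @DecidableEq.{(ku1+1)} @x1) (x4 : @Sum.{ku0, ku1} @x0 @x1) (x5 : @Sum.{ku0, ku1} @x0 @x1) => @Sum.rec.{1, ku0, ku1} @x0 @x1 @(fun (x6 : @Sum.{ku0, ku1} @x0 @x1) => @Decidable (@Eq.{(max (ku1+1) (ku0+1))} (@Sum.{ku0, ku1} @x0 @x1) @x6 @x5)) @(fun (x6 : x0) => @Sum.rec.{1, ku0, ku1} @x0 @x1 @(fun (x7 : @Sum.{ku0, ku1} @x0 @x1) => @Decidable (@Eq.{(max (ku1+1) (ku0+1))} (@Sum.{ku0, ku1} @x0 @x1) (@Sum.inl.{ku0, ku1} @x0 @x1 @x6) @x7)) @(fun (x7 : x0) => @Decidable.rec.{1} (@Eq.{(ku0+1)} @x0 @x6 @x7) @(fun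 (x8 : @Decidable (@Eq.{(ku0+1)} @x0 @x6 @x7)) => @Decidable (@Eq.{(max (ku1+1) (ku0+1))} (@Sum.{ku0, ku1} @x0 @x1) (@Sum.inl.{ku0, ku1} @x0 @x1 @x6) (@Sum.inl.{ku0, ku1} @x0 @x1 @x7))) @(fun (x8 : @Not (@Eq.{(ku0+1)} @x0 @x6 @x7)) => @Decidable.isFalse (@Eq.{(max (ku1+1) (ku0+1))} (@Sum.{ku0, ku1} @x0 @x1) (@Sum.inl.{ku0, ku1} @x0 @x1 @x6) (@Sum.inl.{ku0, ku1} @x0 @x1 @x7)) (@instDecidableEqSum.decEq._proof_3.{ku1, ku0} @x0 @x1 @x6 @x7 @x8)) @(fun (x8 : @Eq.{(ku0+1)} @x0 @x6 @x7) => @Eq.rec.{1, (ku0+1)} @x0 @x6 @(fun (x9 : x0) (x10 : @Eq.{(ku0+1)} @x0 @x6 @x9) => @Decidable (@Eq.{(max (ku1+1) (ku0+1))} (@Sum.{ku0, ku1} @x0 @x1) (@Sum.inl.{ku0, ku1} @x0 @x1 @x6) (@Sum.inl.{ku0, ku1} @x0 @x1 @x9))) (@Decidable.isTrue (@Eq.{(max (ku1+1) (ku0+1))} (@Sum.{ku0, ku1} @x0 @x1) (@Sum.inl.{ku0, ku1} @x0 @x1 @x6) (@Sum.inl.{ku0, ku1} @x0 @x1 @x6)) (@instDecidableEqSum.decEq._proof_1.{ku1, ku0} @x0 @x1 @x6)) @x7 @x8) (@x2 @x6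 @x7)) @(fun (x7 : x1) => @Decidable.isFalse (@Eq.{(max (ku1+1) (ku0+1))} (@Sum.{ku0, ku1} @x0 @x1) (@Sum.inl.{ku0, ku1} @x0 @x1 @x6) (@Sum.inr.{ku0, ku1} @x0 @x1 @x7)) (@instDecidableEqSum.decEq._proof_4.{ku1, ku0} @x0 @x1 @x6 @x7)) @x5) @(fun (x6 : x1) => @Sum.rec.{1, ku0, ku1} @x0 @x1 @(fun (x7 : @Sum.{ku0, ku1} @x0 @x1) => @Decidable (@Eq.{(max (ku1+1) (ku0+1))} (@Sum.{ku0, ku1} @x0 @x1) (@Sum.inr.{ku0, ku1} @x0 @x1 @x6) @x7)) @(fun (x7 : x0) => @Decidable.isFalse (@Eq.{(max (ku1+1) (ku0+1))} (@Sum.{ku0, ku1} @x0 @x1) (@Sum.inr.{ku0, ku1} @x0 @x1 @x6) (@Sum.inl.{ku0, ku1} @x0 @x1 @x7)) (@instDecidableEqSum.decEq._proof_5.{ku1, ku0} @x0 @x1 @x6 @x7)) @(fun (x7 : x1) => @Decidable.rec.{1} (@Eq.{(ku1+1)} @x1 @x6 @x7) @(fun (x8 : @Decidable (@Eq.{(ku1+1)} @x1 @x6 @x7)) => @Decidable (@Eq.{(max (ku1+1) (ku0+1))} (@Sum.{ku0, ku1} @x0 @x1) (@Sum.inr.{ku0, ku1} @x0 @x1 @x6) (@Sum.inr.{ku0, ku1} @x0 @x1 @x7))) @(fun (x8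 : @Not (@Eq.{(ku1+1)} @x1 @x6 @x7)) => @Decidable.isFalse (@Eq.{(max (ku1+1) (ku0+1))} (@Sum.{ku0, ku1} @x0 @x1) (@Sum.inr.{ku0, ku1} @x0 @x1 @x6) (@Sum.inr.{ku0, ku1} @x0 @x1 @x7)) (@instDecidableEqSum.decEq._proof_6.{ku1, ku0} @x0 @x1 @x6 @x7 @x8)) @(fun (x8 : @Eq.{(ku1+1)} @x1 @x6 @x7) => @Eq.rec.{1, (ku1+1)} @x1 @x6 @(fun (x9 : x1) (x10 : @Eq.{(ku1+1)} @x1 @x6 @x9) => @Decidable (@Eq.{(max (ku1+1) (ku0+1))} (@Sum.{ku0, ku1} @x0 @x1) (@Sum.inr.{ku0, ku1} @x0 @x1 @x6) (@Sum.inr.{ku0, ku1} @x0 @x1 @x9))) (@Decidable.isTrue (@Eq.{(max (ku1+1) (ku0+1))} (@Sum.{ku0, ku1} @x0 @x1) (@Sum.inr.{ku0, ku1} @x0 @x1 @x6) (@Sum.inr.{ku0, ku1} @x0 @x1 @x6)) (@instDecidableEqSum.decEq._proof_2.{ku1, ku0} @x0 @x1 @x6)) @x7 @x8) (@x3 @x6 @x7)) @x5) @x4)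
private theorem _root_.Cfsg.Agent.KO7cf8507.e42.{ku0, ku1} : @instDecidableEqSum.decEq.{ku0, ku1} = @_root_.Cfsg.Agent.KO7cf8507.k42.{ku0, ku1} := by delta _root_.Cfsg.Agent.KO7cf8507.k42; rfl'
private noncomputable def _root_.Cfsg.Agent.KO7cf8507.k43.{ku0, ku1} : ((x0 : Sort (ku0+1)) → ((x1 : Sort (ku1+1)) → ((@DecidableEq.{(ku0+1)} @x0) → ((@DecidableEq.{(ku1+1)} @x1) → @DecidableEq.{(max (ku1+1) (ku0+1))} (@Sum.{ku0, ku1} @x0 @x1))))) := @(fun (x0 : Sort (ku0+1)) (x1 : Sort (ku1+1)) (x2 : @DecidableEq.{(ku0+1)} @x0) (x3 : @DecidableEq.{(ku1+1)} @x1) => @Cfsg.Agent.KO7cf8507.k42.{ku0, ku1} @x0 @x1 @x2 @x3)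
private theorem _root_.Cfsg.Agent.KO7cf8507.e43.{ku0, ku1} : @instDecidableEqSum.{ku0, ku1} = @_root_.Cfsg.Agent.KO7cf8507.k43.{ku0, ku1} := by delta _root_.Cfsg.Agent.KO7cf8507.k43; rewrite [← Cfsg.Agent.KO7cf8507.e42.{ku0, ku1}]; rfl'
private noncomputable def _root_.Cfsg.Agent.KO7cf8507.k44.{ku0} : ((x0 : Sort (ku0+1)) → ((x1 : (x0 → Prop)) → ((@DecidablePred.{(ku0+1)} @x0 @x1) → ((@Fintype.{ku0} @x0) → @Decidable ((x4 : x0) → @x1 @x4))))) := @(fun (x0 : Sort (ku0+1)) (x1 : (x0 → Prop)) (x2 : @DecidablePred.{(ku0+1)} @x0 @x1) (x3 : @Fintype.{ku0} @x0) => @Decidable.rec.{1} ((x4 : x0) → ((@Membership.mem.{ku0, ku0} @x0 (@Finset.{ku0} @x0) (@SetLike.instMembership.{ku0, ku0} (@Finset.{ku0} @x0) @x0 (@Finset.instSetLike.{ku0} @x0)) (@Finset.univ.{ku0} @x0 @x3) @x4) → @x1 @x4)) @(fun (x4 : @Decidable ((x4 : x0) → ((@Membership.mem.{ku0, ku0} @x0 (@Finset.{ku0} @x0) (@SetLike.instMembership.{ku0, ku0} (@Finset.{ku0}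 @x0) @x0 (@Finset.instSetLike.{ku0} @x0)) (@Finset.univ.{ku0} @x0 @x3) @x4) → @x1 @x4))) => @Decidable ((x5 : x0) → @x1 @x5)) @(fun (x4 : @Not ((x4 : x0) → ((@Membership.mem.{ku0, ku0} @x0 (@Finset.{ku0} @x0) (@SetLike.instMembership.{ku0, ku0} (@Finset.{ku0} @x0) @x0 (@Finset.instSetLike.{ku0} @x0)) (@Finset.univ.{ku0} @x0 @x3) @x4) → @x1 @x4))) => @Decidable.isFalse ((x5 : x0) → @x1 @x5) (@decidable_of_decidable_of_iff._proof_1 ((x5 : x0) → ((@Membership.mem.{ku0, ku0} @x0 (@Finset.{ku0} @x0) (@SetLike.instMembership.{ku0, ku0} (@Finset.{ku0} @x0) @x0 (@Finset.instSetLike.{ku0} @x0)) (@Finset.univ.{ku0} @x0 @x3) @x5) → @x1 @x5)) ((x5 : x0) → @x1 @x5) (@Fintype.decidableForallFintype._proof_1.{ku0} @x0 @x1 @x3) @x4)) @(fun (x4 : ((x4 : x0) → ((@Membership.mem.{ku0, ku0} @x0 (@Finset.{ku0} @x0) (@SetLike.instMembership.{ku0, ku0} (@Finset.{ku0} @x0) @x0 (@Finset.instSetLike.{ku0} @x0)) (@Finset.univ.{ku0} @x0 @x3)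 @x4) → @x1 @x4))) => @Decidable.isTrue ((x5 : x0) → @x1 @x5) (@Iff.mp ((x5 : x0) → ((@Membership.mem.{ku0, ku0} @x0 (@Finset.{ku0} @x0) (@SetLike.instMembership.{ku0, ku0} (@Finset.{ku0} @x0) @x0 (@Finset.instSetLike.{ku0} @x0)) (@Finset.univ.{ku0} @x0 @x3) @x5) → @x1 @x5)) ((x5 : x0) → @x1 @x5) (@Fintype.decidableForallFintype._proof_1.{ku0} @x0 @x1 @x3) @x4)) (@Cfsg.Agent.KO7cf8507.k11.{ku0} @x0 (@Fintype.elems.{ku0} @x0 @x3) @(fun (x4 : x0) (x5 : @Membership.mem.{ku0, ku0} @x0 (@Finset.{ku0} @x0) (@SetLike.instMembership.{ku0, ku0} (@Finset.{ku0} @x0) @x0 (@Finset.instSetLike.{ku0} @x0)) (@Finset.univ.{ku0} @x0 @x3) @x4) => @x1 @x4) @(fun (x4 : x0) (x5 : @Membership.mem.{ku0, ku0} @x0 (@Finset.{ku0} @x0) (@SetLike.instMembership.{ku0, ku0} (@Finset.{ku0} @x0) @x0 (@Finset.instSetLike.{ku0} @x0)) (@Finset.univ.{ku0} @x0 @x3) @x4) => @x2 @x4)))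
private theorem _root_.Cfsg.Agent.KO7cf8507.e44.{ku0} : @Fintype.decidableForallFintype.{ku0} = @_root_.Cfsg.Agent.KO7cf8507.k44.{ku0} := by delta _root_.Cfsg.Agent.KO7cf8507.k44; rewrite [← Cfsg.Agent.KO7cf8507.e11.{ku0}]; rfl'
private noncomputable def _root_.Cfsg.Agent.KO7cf8507.k45 : ((x0 : Prop) → ((x1 : (x0 → Prop)) → ((@Decidable @x0) → (((x3 : x0) → @Decidable (@x1 @x3)) → @Decidable ((x4 : x0) → @x1 @x4))))) := @(fun (x0 : Prop) (x1 : (x0 → Prop)) (x2 : @Decidable @x0) (x3 : ((x3 : x0) → @Decidable (@x1 @x3))) => @Decidable.rec.{1} @x0 @(fun (x4 : @Decidable @x0) => @Decidable ((x5 : x0) → @x1 @x5)) @(fun (x4 : @Not @x0) => @Decidable.isTrue ((x5 : x0) → @x1 @x5) (@forall_prop_decidable._proof_2 @x0 @x1 @x4)) @(fun (x4 : x0) => @Decidable.rec.{1} (@x1 @x4) @(fun (x5 : @Decidable (@x1 @x4)) => @Decidable ((x6 : x0) → @x1 @x6)) @(fun (x5 : @Not (@x1 @x4)) => @Decidable.isFalse ((x6 : x0) → @x1 @x6) (@decidable_of_decidable_of_iff._proof_1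 (@x1 @x4) ((x6 : x0) → @x1 @x6) (@forall_prop_decidable._proof_1 @x0 @x1 @x4) @x5)) @(fun (x5 : @x1 @x4) => @Decidable.isTrue ((x6 : x0) → @x1 @x6) (@Iff.mp (@x1 @x4) ((x6 : x0) → @x1 @x6) (@forall_prop_decidable._proof_1 @x0 @x1 @x4) @x5)) (@x3 @x4)) @x2)
private theorem _root_.Cfsg.Agent.KO7cf8507.e45 : @forall_prop_decidable = @_root_.Cfsg.Agent.KO7cf8507.k45 := by delta _root_.Cfsg.Agent.KO7cf8507.k45; rfl'
private noncomputable def _root_.Cfsg.Agent.KO7cf8507.k46.{ku0} : ((x0 : @Nat) → ((x1 : ((@Fin (@HAdd.hAdd.{0, 0, 0} @Nat @Nat @Nat (@instHAdd.{0} @Nat @instAddNat) @x0 (@OfNat.ofNat.{0} @Nat (nat_lit 1) (@instOfNatNat (nat_lit 1))))) → Sort ku0)) → ((@x1 (@OfNat.ofNat.{0} (@Fin (@HAdd.hAdd.{0, 0, 0} @Nat @Nat @Nat (@instHAdd.{0} @Nat @instAddNat) @x0 (@OfNat.ofNat.{0} @Nat (nat_lit 1) (@instOfNatNat (nat_lit 1))))) (nat_lit 0) (@Fin.instOfNat (@HAdd.hAdd.{0, 0, 0} @Nat @Nat @Nat (@instHAdd.{0} @Nat @instAddNat)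 @x0 (@OfNat.ofNat.{0} @Nat (nat_lit 1) (@instOfNatNat (nat_lit 1)))) (@instNeZeroNatHAdd_1 @x0 (@OfNat.ofNat.{0} @Nat (nat_lit 1) (@instOfNatNat (nat_lit 1))) (@Nat.instNeZeroSucc (@OfNat.ofNat.{0} @Nat (nat_lit 0) (@instOfNatNat (nat_lit 0))))) (nat_lit 0)))) → (((x3 : @Fin @x0) → ((@x1 (@Fin.castSucc @x0 @x3)) → @x1 (@Fin.succ @x0 @x3))) → ((x4 : @Nat) → ((x5 : @LT.lt.{0} @Nat @instLTNat @x4 (@HAdd.hAdd.{0, 0, 0} @Nat @Nat @Nat (@instHAdd.{0} @Nat @instAddNat) @x0 (@OfNat.ofNat.{0} @Nat (nat_lit 1) (@instOfNatNat (nat_lit 1))))) → @x1 (@Fin.mk (@HAdd.hAdd.{0, 0, 0} @Nat @Nat @Nat (@instHAdd.{0} @Nat @instAddNat) @x0 (@OfNat.ofNat.{0} @Nat (nat_lit 1) (@instOfNatNat (nat_lit 1)))) @x4 @x5))))))) := @(fun (x0 : @Nat) (x1 : ((@Fin (@HAdd.hAdd.{0, 0, 0} @Nat @Nat @Nat (@instHAdd.{0} @Nat @instAddNat) @x0 (@OfNat.ofNat.{0} @Nat (nat_lit 1) (@instOfNatNat (nat_lit 1))))) → Sort ku0)) (x2 : @x1 (@OfNat.ofNat.{0} (@Fin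 (@HAdd.hAdd.{0, 0, 0} @Nat @Nat @Nat (@instHAdd.{0} @Nat @instAddNat) @x0 (@OfNat.ofNat.{0} @Nat (nat_lit 1) (@instOfNatNat (nat_lit 1))))) (nat_lit 0) (@Fin.instOfNat (@HAdd.hAdd.{0, 0, 0} @Nat @Nat @Nat (@instHAdd.{0} @Nat @instAddNat) @x0 (@OfNat.ofNat.{0} @Nat (nat_lit 1) (@instOfNatNat (nat_lit 1)))) (@Fin.succRec._proof_1 @x0) (nat_lit 0)))) (x3 : ((x3 : @Fin @x0) → ((@x1 (@Fin.castSucc @x0 @x3)) → @x1 (@Fin.succ @x0 @x3)))) (x4 : @Nat) (x5 : @LT.lt.{0} @Nat @instLTNat @x4 (@HAdd.hAdd.{0, 0, 0} @Nat @Nat @Nat (@instHAdd.{0} @Nat @instAddNat) @x0 (@OfNat.ofNat.{0} @Nat (nat_lit 1) (@instOfNatNat (nat_lit 1))))) => @Nat.rec.{ku0} @(fun (x6 : @Nat) => ((x7 : @LT.lt.{0} @Nat @instLTNat @x6 (@HAdd.hAdd.{0, 0, 0} @Nat @Nat @Nat (@instHAdd.{0} @Nat @instAddNat) @x0 (@OfNat.ofNat.{0} @Nat (nat_lit 1) (@instOfNatNat (nat_lit 1))))) → @x1 (@Fin.mk (@HAdd.hAdd.{0, 0, 0} @Nat @Nat @Nat (@instHAdd.{0} @Nat @instAddNat)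 @x0 (@OfNat.ofNat.{0} @Nat (nat_lit 1) (@instOfNatNat (nat_lit 1)))) @x6 @x7))) @(fun (x6 : @LT.lt.{0} @Nat @instLTNat @Nat.zero (@HAdd.hAdd.{0, 0, 0} @Nat @Nat @Nat (@instHAdd.{0} @Nat @instAddNat) @x0 (@OfNat.ofNat.{0} @Nat (nat_lit 1) (@instOfNatNat (nat_lit 1))))) => @Eq.rec.{ku0, (ku0+1)} (Sort ku0) (@x1 (@OfNat.ofNat.{0} (@Fin (@HAdd.hAdd.{0, 0, 0} @Nat @Nat @Nat (@instHAdd.{0} @Nat @instAddNat) @x0 (@OfNat.ofNat.{0} @Nat (nat_lit 1) (@instOfNatNat (nat_lit 1))))) (nat_lit 0) (@Fin.instOfNat (@HAdd.hAdd.{0, 0, 0} @Nat @Nat @Nat (@instHAdd.{0} @Nat @instAddNat) @x0 (@OfNat.ofNat.{0} @Nat (nat_lit 1) (@instOfNatNat (nat_lit 1)))) (@Fin.succRec._proof_1 @x0) (nat_lit 0)))) @(fun (x7 : Sort ku0) (x8 : @Eq.{(ku0+1)} (Sort ku0) (@x1 (@OfNat.ofNat.{0} (@Fin (@HAdd.hAdd.{0, 0, 0} @Nat @Nat @Nat (@instHAdd.{0} @Nat @instAddNat) @x0 (@OfNat.ofNat.{0} @Nat (nat_lit 1) (@instOfNatNat (nat_lit 1))))) (nat_lit 0) (@Fin.instOfNat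 (@HAdd.hAdd.{0, 0, 0} @Nat @Nat @Nat (@instHAdd.{0} @Nat @instAddNat) @x0 (@OfNat.ofNat.{0} @Nat (nat_lit 1) (@instOfNatNat (nat_lit 1)))) (@Fin.succRec._proof_1 @x0) (nat_lit 0)))) @x7) => x7) @x2 (@x1 (@Fin.mk (@HAdd.hAdd.{0, 0, 0} @Nat @Nat @Nat (@instHAdd.{0} @Nat @instAddNat) @x0 (@OfNat.ofNat.{0} @Nat (nat_lit 1) (@instOfNatNat (nat_lit 1)))) (@OfNat.ofNat.{0} @Nat (nat_lit 0) (@instOfNatNat (nat_lit 0))) @x6)) (@Eq.symm.{(ku0+1)} (Sort ku0) (@x1 (@Fin.mk (@HAdd.hAdd.{0, 0, 0} @Nat @Nat @Nat (@instHAdd.{0} @Nat @instAddNat) @x0 (@OfNat.ofNat.{0} @Nat (nat_lit 1) (@instOfNatNat (nat_lit 1)))) (@OfNat.ofNat.{0} @Nat (nat_lit 0) (@instOfNatNat (nat_lit 0))) @x6)) (@x1 (@OfNat.ofNat.{0} (@Fin (@HAdd.hAdd.{0, 0, 0} @Nat @Nat @Nat (@instHAdd.{0} @Nat @instAddNat) @x0 (@OfNat.ofNat.{0} @Nat (nat_lit 1) (@instOfNatNat (nat_lit 1))))) (nat_lit 0) (@Fin.instOfNat (@HAdd.hAdd.{0, 0, 0} @Nat @Nat @Nat (@instHAdd.{0} @Nat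 @instAddNat) @x0 (@OfNat.ofNat.{0} @Nat (nat_lit 1) (@instOfNatNat (nat_lit 1)))) (@Fin.succRec._proof_1 @x0) (nat_lit 0)))) (@Fin.induction.go._proof_1.{ku0} @x0 @x1 @x6))) @(fun (x6 : @Nat) (x7 : ((x7 : @LT.lt.{0} @Nat @instLTNat @x6 (@HAdd.hAdd.{0, 0, 0} @Nat @Nat @Nat (@instHAdd.{0} @Nat @instAddNat) @x0 (@OfNat.ofNat.{0} @Nat (nat_lit 1) (@instOfNatNat (nat_lit 1))))) → @x1 (@Fin.mk (@HAdd.hAdd.{0, 0, 0} @Nat @Nat @Nat (@instHAdd.{0} @Nat @instAddNat) @x0 (@OfNat.ofNat.{0} @Nat (nat_lit 1) (@instOfNatNat (nat_lit 1)))) @x6 @x7))) (x8 : @LT.lt.{0} @Nat @instLTNat (@Nat.succ @x6) (@HAdd.hAdd.{0, 0, 0} @Nat @Nat @Nat (@instHAdd.{0} @Nat @instAddNat) @x0 (@OfNat.ofNat.{0} @Nat (nat_lit 1) (@instOfNatNat (nat_lit 1))))) => @x3 (@Fin.mk @x0 @x6 (@Nat.lt_of_succ_lt_succ @x6 @x0 @x8)) (@x7 (@Fin.induction.go._proof_2 @x0 @x6 @x8))) @x4 @x5)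
private theorem _root_.Cfsg.Agent.KO7cf8507.e46.{ku0} : @Fin.induction.go.{ku0} = @_root_.Cfsg.Agent.KO7cf8507.k46.{ku0} := by delta _root_.Cfsg.Agent.KO7cf8507.k46; funext a0 a1 a2 a3 a4 a5; refine (congrFun (_root_.Cfsg.Agent.KO7cf8507.e31 (fun a4 a5 => @Fin.induction.go.{ku0} a0 a1 a2 a3 a4 a5) ?_ (fun c0 => ?_) a4) a5 :) <;> (rfl')
private noncomputable def _root_.Cfsg.Agent.KO7cf8507.k47.{ku0} : ((x0 : @Nat) → ((x1 : ((@Fin (@HAdd.hAdd.{0, 0, 0} @Nat @Nat @Nat (@instHAdd.{0} @Nat @instAddNat) @x0 (@OfNat.ofNat.{0} @Nat (nat_lit 1) (@instOfNatNat (nat_lit 1))))) → Sort ku0)) → ((@x1 (@OfNat.ofNat.{0} (@Fin (@HAdd.hAdd.{0, 0, 0} @Nat @Nat @Nat (@instHAdd.{0} @Nat @instAddNat) @x0 (@OfNat.ofNat.{0} @Nat (nat_lit 1) (@instOfNatNat (nat_lit 1))))) (nat_lit 0) (@Fin.instOfNat (@HAdd.hAdd.{0, 0, 0} @Nat @Nat @Nat (@instHAdd.{0} @Nat @instAddNat) @x0 (@OfNat.ofNat.{0} @Nat (nat_lit 1) (@instOfNatNat (nat_lit 1))))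 (@instNeZeroNatHAdd_1 @x0 (@OfNat.ofNat.{0} @Nat (nat_lit 1) (@instOfNatNat (nat_lit 1))) (@Nat.instNeZeroSucc (@OfNat.ofNat.{0} @Nat (nat_lit 0) (@instOfNatNat (nat_lit 0))))) (nat_lit 0)))) → (((x3 : @Fin @x0) → ((@x1 (@Fin.castSucc @x0 @x3)) → @x1 (@Fin.succ @x0 @x3))) → ((x4 : @Fin (@HAdd.hAdd.{0, 0, 0} @Nat @Nat @Nat (@instHAdd.{0} @Nat @instAddNat) @x0 (@OfNat.ofNat.{0} @Nat (nat_lit 1) (@instOfNatNat (nat_lit 1))))) → @x1 @x4))))) := @(fun (x0 : @Nat) (x1 : ((@Fin (@HAdd.hAdd.{0, 0, 0} @Nat @Nat @Nat (@instHAdd.{0} @Nat @instAddNat) @x0 (@OfNat.ofNat.{0} @Nat (nat_lit 1) (@instOfNatNat (nat_lit 1))))) → Sort ku0)) (x2 : @x1 (@OfNat.ofNat.{0} (@Fin (@HAdd.hAdd.{0, 0, 0} @Nat @Nat @Nat (@instHAdd.{0} @Nat @instAddNat) @x0 (@OfNat.ofNat.{0} @Nat (nat_lit 1) (@instOfNatNat (nat_lit 1))))) (nat_lit 0) (@Fin.instOfNat (@HAdd.hAdd.{0, 0, 0} @Nat @Nat @Nat (@instHAdd.{0} @Nat @instAddNat) @x0 (@OfNat.ofNat.{0} @Nat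 (nat_lit 1) (@instOfNatNat (nat_lit 1)))) (@Fin.succRec._proof_1 @x0) (nat_lit 0)))) (x3 : ((x3 : @Fin @x0) → ((@x1 (@Fin.castSucc @x0 @x3)) → @x1 (@Fin.succ @x0 @x3)))) (x4 : @Fin (@HAdd.hAdd.{0, 0, 0} @Nat @Nat @Nat (@instHAdd.{0} @Nat @instAddNat) @x0 (@OfNat.ofNat.{0} @Nat (nat_lit 1) (@instOfNatNat (nat_lit 1))))) => @Fin.rec.{ku0} (@Nat.add @x0 (nat_lit 1)) @(fun (x5 : @Fin (@HAdd.hAdd.{0, 0, 0} @Nat @Nat @Nat (@instHAdd.{0} @Nat @instAddNat) @x0 (@OfNat.ofNat.{0} @Nat (nat_lit 1) (@instOfNatNat (nat_lit 1))))) => @x1 @x5) @(fun (x5 : @Nat) (x6 : @LT.lt.{0} @Nat @instLTNat @x5 (@HAdd.hAdd.{0, 0, 0} @Nat @Nat @Nat (@instHAdd.{0} @Nat @instAddNat) @x0 (@OfNat.ofNat.{0} @Nat (nat_lit 1) (@instOfNatNat (nat_lit 1))))) => @Cfsg.Agent.KO7cf8507.k46.{ku0} @x0 @x1 @x2 @x3 @x5 @x6) @x4)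
private theorem _root_.Cfsg.Agent.KO7cf8507.e47.{ku0} : @Fin.induction.{ku0} = @_root_.Cfsg.Agent.KO7cf8507.k47.{ku0} := by delta _root_.Cfsg.Agent.KO7cf8507.k47; rewrite [← Cfsg.Agent.KO7cf8507.e46.{ku0}]; rfl'
private noncomputable def _root_.Cfsg.Agent.KO7cf8507.k48.{ku0} : ((x0 : @Nat) → ((x1 : ((@Fin (@HAdd.hAdd.{0, 0, 0} @Nat @Nat @Nat (@instHAdd.{0} @Nat @instAddNat) @x0 (@OfNat.ofNat.{0} @Nat (nat_lit 1) (@instOfNatNat (nat_lit 1))))) → Sort ku0)) → ((@x1 (@OfNat.ofNat.{0} (@Fin (@HAdd.hAdd.{0, 0, 0} @Nat @Nat @Nat (@instHAdd.{0} @Nat @instAddNat) @x0 (@OfNat.ofNat.{0} @Nat (nat_lit 1) (@instOfNatNat (nat_lit 1))))) (nat_lit 0) (@Fin.instOfNat (@HAdd.hAdd.{0, 0, 0} @Nat @Nat @Nat (@instHAdd.{0} @Nat @instAddNat) @x0 (@OfNat.ofNat.{0} @Nat (nat_lit 1) (@instOfNatNat (nat_lit 1)))) (@instNeZeroNatHAdd_1 @x0 (@OfNat.ofNat.{0} @Nat (nat_lit 1) (@instOfNatNat (nat_lit 1))) (@Nat.instNeZeroSucc (@OfNat.ofNat.{0}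 @Nat (nat_lit 0) (@instOfNatNat (nat_lit 0))))) (nat_lit 0)))) → (((x3 : @Fin @x0) → @x1 (@Fin.succ @x0 @x3)) → ((x4 : @Fin (@HAdd.hAdd.{0, 0, 0} @Nat @Nat @Nat (@instHAdd.{0} @Nat @instAddNat) @x0 (@OfNat.ofNat.{0} @Nat (nat_lit 1) (@instOfNatNat (nat_lit 1))))) → @x1 @x4))))) := @(fun (x0 : @Nat) (x1 : ((@Fin (@HAdd.hAdd.{0, 0, 0} @Nat @Nat @Nat (@instHAdd.{0} @Nat @instAddNat) @x0 (@OfNat.ofNat.{0} @Nat (nat_lit 1) (@instOfNatNat (nat_lit 1))))) → Sort ku0)) (x2 : @x1 (@OfNat.ofNat.{0} (@Fin (@HAdd.hAdd.{0, 0, 0} @Nat @Nat @Nat (@instHAdd.{0} @Nat @instAddNat) @x0 (@OfNat.ofNat.{0} @Nat (nat_lit 1) (@instOfNatNat (nat_lit 1))))) (nat_lit 0) (@Fin.instOfNat (@HAdd.hAdd.{0, 0, 0} @Nat @Nat @Nat (@instHAdd.{0} @Nat @instAddNat) @x0 (@OfNat.ofNat.{0} @Nat (nat_lit 1) (@instOfNatNat (nat_lit 1)))) (@Fin.succRec._proof_1 @x0) (nat_lit 0)))) (x3 : ((x3 : @Fin @x0) → @x1 (@Fin.succ @x0 @x3))) (x4 : @Fin (@HAdd.hAdd.{0,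 0, 0} @Nat @Nat @Nat (@instHAdd.{0} @Nat @instAddNat) @x0 (@OfNat.ofNat.{0} @Nat (nat_lit 1) (@instOfNatNat (nat_lit 1))))) => @Cfsg.Agent.KO7cf8507.k47.{ku0} @x0 @(fun (x5 : @Fin (@HAdd.hAdd.{0, 0, 0} @Nat @Nat @Nat (@instHAdd.{0} @Nat @instAddNat) @x0 (@OfNat.ofNat.{0} @Nat (nat_lit 1) (@instOfNatNat (nat_lit 1))))) => @x1 @x5) @x2 @(fun (x5 : @Fin @x0) (x6 : @x1 (@Fin.castSucc @x0 @x5)) => @x3 @x5) @x4)
private theorem _root_.Cfsg.Agent.KO7cf8507.e48.{ku0} : @Fin.cases.{ku0} = @_root_.Cfsg.Agent.KO7cf8507.k48.{ku0} := by delta _root_.Cfsg.Agent.KO7cf8507.k48; rewrite [← Cfsg.Agent.KO7cf8507.e47.{ku0}]; rfl'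
private noncomputable def _root_.Cfsg.Agent.KO7cf8507.k49.{ku0} : ((x0 : @Nat) → ((x1 : ((@Fin (@HAdd.hAdd.{0, 0, 0} @Nat @Nat @Nat (@instHAdd.{0} @Nat @instAddNat) @x0 (@OfNat.ofNat.{0} @Nat (nat_lit 1) (@instOfNatNat (nat_lit 1))))) → Sort ku0)) → ((@x1 (@OfNat.ofNat.{0} (@Fin (@HAdd.hAdd.{0, 0, 0} @Nat @Nat @Nat (@instHAdd.{0} @Nat @instAddNat) @x0 (@OfNat.ofNat.{0} @Nat (nat_lit 1) (@instOfNatNat (nat_lit 1))))) (nat_lit 0) (@Fin.instOfNat (@HAdd.hAdd.{0, 0, 0} @Nat @Nat @Nat (@instHAdd.{0} @Nat @instAddNat) @x0 (@OfNat.ofNat.{0} @Nat (nat_lit 1) (@instOfNatNat (nat_lit 1)))) (@instNeZeroNatHAdd_1 @x0 (@OfNat.ofNat.{0} @Nat (nat_lit 1) (@instOfNatNat (nat_lit 1))) (@Nat.instNeZeroSucc (@OfNat.ofNat.{0} @Nat (nat_lit 0) (@instOfNatNat (nat_lit 0))))) (nat_lit 0)))) → (((x3 : @Fin @x0) → @x1 (@Fin.succ @x0 @x3)) → ((x4 : @Fin (@HAdd.hAdd.{0, 0, 0} @Nat @Nat @Nat (@instHAdd.{0} @Nat @instAddNat) @x0 (@OfNat.ofNat.{0}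 @Nat (nat_lit 1) (@instOfNatNat (nat_lit 1))))) → @x1 @x4))))) := @(fun (x0 : @Nat) (x1 : ((@Fin (@HAdd.hAdd.{0, 0, 0} @Nat @Nat @Nat (@instHAdd.{0} @Nat @instAddNat) @x0 (@OfNat.ofNat.{0} @Nat (nat_lit 1) (@instOfNatNat (nat_lit 1))))) → Sort ku0)) (x2 : @x1 (@OfNat.ofNat.{0} (@Fin (@HAdd.hAdd.{0, 0, 0} @Nat @Nat @Nat (@instHAdd.{0} @Nat @instAddNat) @x0 (@OfNat.ofNat.{0} @Nat (nat_lit 1) (@instOfNatNat (nat_lit 1))))) (nat_lit 0) (@Fin.instOfNat (@HAdd.hAdd.{0, 0, 0} @Nat @Nat @Nat (@instHAdd.{0} @Nat @instAddNat) @x0 (@OfNat.ofNat.{0} @Nat (nat_lit 1) (@instOfNatNat (nat_lit 1)))) (@Fin.cons._proof_1 @x0) (nat_lit 0)))) (x3 : ((x3 : @Fin @x0) → @x1 (@Fin.succ @x0 @x3))) (x4 : @Fin (@HAdd.hAdd.{0, 0, 0} @Nat @Nat @Nat (@instHAdd.{0} @Nat @instAddNat) @x0 (@OfNat.ofNat.{0} @Nat (nat_lit 1) (@instOfNatNat (nat_lit 1))))) => @Cfsg.Agent.KO7cf8507.k48.{ku0} @x0 @(fun (x5 : @Fin (@HAdd.hAdd.{0, 0, 0} @Nat @Nat @Nat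 (@instHAdd.{0} @Nat @instAddNat) @x0 (@OfNat.ofNat.{0} @Nat (nat_lit 1) (@instOfNatNat (nat_lit 1))))) => @x1 @x5) @x2 @x3 @x4)
private theorem _root_.Cfsg.Agent.KO7cf8507.e49.{ku0} : @Fin.cons.{ku0} = @_root_.Cfsg.Agent.KO7cf8507.k49.{ku0} := by delta _root_.Cfsg.Agent.KO7cf8507.k49; rewrite [← Cfsg.Agent.KO7cf8507.e48.{ku0}]; rfl'
private noncomputable def _root_.Cfsg.Agent.KO7cf8507.k50.{ku0} : ((x0 : Sort ku0) → ((@Fin (@OfNat.ofNat.{0} @Nat (nat_lit 0) (@instOfNatNat (nat_lit 0)))) → x0)) := @(fun (x0 : Sort ku0) (x1 : @Fin (@OfNat.ofNat.{0} @Nat (nat_lit 0) (@instOfNatNat (nat_lit 0)))) => @Fin.rec.{ku0} (nat_lit 0) @(fun (x2 : @Fin (@OfNat.ofNat.{0} @Nat (nat_lit 0) (@instOfNatNat (nat_lit 0)))) => x0) @(fun (x2 : @Nat) (x3 : @LT.lt.{0} @Nat @instLTNat @x2 (@OfNat.ofNat.{0} @Nat (nat_lit 0) (@instOfNatNat (nat_lit 0)))) => @False.rec.{ku0} @(fun (x4 : @False) => x0) (@Nat.not_lt_zero @x2 @x3)) @x1)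
private theorem _root_.Cfsg.Agent.KO7cf8507.e50.{ku0} : @Fin.elim0.{ku0} = @_root_.Cfsg.Agent.KO7cf8507.k50.{ku0} := by delta _root_.Cfsg.Agent.KO7cf8507.k50; rfl'
private noncomputable def _root_.Cfsg.Agent.KO7cf8507.k51 : (by first | exact type_of% @Cfsg.Agent.H547.Der.Six.dec | exact Unit : Sort _) := by first | (refine @Subtype.val _ (fun g => @Cfsg.Agent.H547.Der.Six.dec = @g) (@Subtype.mk _ _ (@(fun (x0 : @Cfsg.Agent.H547.Der.Six.P6) => @Cfsg.Agent.KO7cf8507.k18.{0, 0, 1} (@Fin (@OfNat.ofNat.{0} @Nat (nat_lit 3) (@instOfNatNat (nat_lit 3)))) (@Fin (@OfNat.ofNat.{0} @Nat (nat_lit 3) (@instOfNatNat (nat_lit 3)))) (@ZMod (@OfNat.ofNat.{0} @Nat (nat_lit 2) (@instOfNatNat (nat_lit 2)))) (@Cfsg.Agent.KO7cf8507.k49.{1} (nat_lit 2) @(fun (x1 : @Fin (@Nat.succ (@OfNat.ofNat.{0} @Nat (nat_lit 2) (@instOfNatNat (nat_lit 2))))) => @ZMod (@OfNat.ofNat.{0} @Nat (nat_lit 2) (@instOfNatNat (nat_lit 2)))) (@Nat.rec.{1} @(fun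 (x1 : @Nat) => (@Nat → @ZMod @x1)) @(fun (x1 : @Nat) => @Int.ofNat @x1) @(fun (x1 : @Nat) (x2 : (@Nat → @ZMod @x1)) (x3 : @Nat) => @Fin.mk (@Nat.succ @x1) (@Nat.mod @x3 (@Nat.succ @x1)) (@Fin.ofNat._proof_1 (@Nat.succ @x1) (@Nat.instNeZeroSucc @x1) @x3)) (nat_lit 2) (@Nat.mod (@Fin.val (nat_lit 64) @x0) (nat_lit 2))) (@Cfsg.Agent.KO7cf8507.k49.{1} (nat_lit 1) @(fun (x1 : @Fin (@Nat.succ (@OfNat.ofNat.{0} @Nat (nat_lit 1) (@instOfNatNat (nat_lit 1))))) => @ZMod (@OfNat.ofNat.{0} @Nat (nat_lit 2) (@instOfNatNat (nat_lit 2)))) (@Nat.rec.{1} @(fun (x1 : @Nat) => (@Nat → @ZMod @x1)) @(fun (x1 : @Nat) => @Int.ofNat @x1) @(fun (x1 : @Nat) (x2 : (@Nat → @ZMod @x1)) (x3 : @Nat) => @Fin.mk (@Nat.succ @x1) (@Nat.mod @x3 (@Nat.succ @x1)) (@Fin.ofNat._proof_1 (@Nat.succ @x1) (@Nat.instNeZeroSucc @x1) @x3)) (nat_lit 2) (@Nat.mod (@Nat.div (@Fin.val (nat_lit 64) @x0) (nat_lit 2)) (nat_lit 2))) (@Cfsg.Agent.KO7cf8507.k49.{1} (nat_lit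 0) @(fun (x1 : @Fin (@Nat.succ (@OfNat.ofNat.{0} @Nat (nat_lit 0) (@instOfNatNat (nat_lit 0))))) => @ZMod (@OfNat.ofNat.{0} @Nat (nat_lit 2) (@instOfNatNat (nat_lit 2)))) (@Nat.rec.{1} @(fun (x1 : @Nat) => (@Nat → @ZMod @x1)) @(fun (x1 : @Nat) => @Int.ofNat @x1) @(fun (x1 : @Nat) (x2 : (@Nat → @ZMod @x1)) (x3 : @Nat) => @Fin.mk (@Nat.succ @x1) (@Nat.mod @x3 (@Nat.succ @x1)) (@Fin.ofNat._proof_1 (@Nat.succ @x1) (@Nat.instNeZeroSucc @x1) @x3)) (nat_lit 2) (@Nat.mod (@Nat.div (@Fin.val (nat_lit 64) @x0) (nat_lit 4)) (nat_lit 2))) (@Cfsg.Agent.KO7cf8507.k50.{1} (@ZMod (@OfNat.ofNat.{0} @Nat (nat_lit 2) (@instOfNatNat (nat_lit 2)))))))) (@Cfsg.Agent.KO7cf8507.k49.{1} (nat_lit 2) @(fun (x1 : @Fin (@Nat.succ (@OfNat.ofNat.{0} @Nat (nat_lit 2) (@instOfNatNat (nat_lit 2))))) => @ZMod (@OfNat.ofNat.{0} @Nat (nat_lit 2) (@instOfNatNat (nat_lit 2)))) (@Nat.rec.{1} @(fun (x1 : @Nat) => (@Nat → @ZMod @x1)) @(fun (x1 : @Nat) =>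 @Int.ofNat @x1) @(fun (x1 : @Nat) (x2 : (@Nat → @ZMod @x1)) (x3 : @Nat) => @Fin.mk (@Nat.succ @x1) (@Nat.mod @x3 (@Nat.succ @x1)) (@Fin.ofNat._proof_1 (@Nat.succ @x1) (@Nat.instNeZeroSucc @x1) @x3)) (nat_lit 2) (@Nat.mod (@Nat.div (@Fin.val (nat_lit 64) @x0) (nat_lit 8)) (nat_lit 2))) (@Cfsg.Agent.KO7cf8507.k49.{1} (nat_lit 1) @(fun (x1 : @Fin (@Nat.succ (@OfNat.ofNat.{0} @Nat (nat_lit 1) (@instOfNatNat (nat_lit 1))))) => @ZMod (@OfNat.ofNat.{0} @Nat (nat_lit 2) (@instOfNatNat (nat_lit 2)))) (@Nat.rec.{1} @(fun (x1 : @Nat) => (@Nat → @ZMod @x1)) @(fun (x1 : @Nat) => @Int.ofNat @x1) @(fun (x1 : @Nat) (x2 : (@Nat → @ZMod @x1)) (x3 : @Nat) => @Fin.mk (@Nat.succ @x1) (@Nat.mod @x3 (@Nat.succ @x1)) (@Fin.ofNat._proof_1 (@Nat.succ @x1) (@Nat.instNeZeroSucc @x1) @x3)) (nat_lit 2) (@Nat.mod (@Nat.div (@Fin.val (nat_lit 64) @x0) (nat_lit 16)) (nat_lit 2))) (@Cfsg.Agent.KO7cf8507.k49.{1} (nat_lit 0) @(fun (x1 : @Fin (@Nat.succ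 (@OfNat.ofNat.{0} @Nat (nat_lit 0) (@instOfNatNat (nat_lit 0))))) => @ZMod (@OfNat.ofNat.{0} @Nat (nat_lit 2) (@instOfNatNat (nat_lit 2)))) (@Nat.rec.{1} @(fun (x1 : @Nat) => (@Nat → @ZMod @x1)) @(fun (x1 : @Nat) => @Int.ofNat @x1) @(fun (x1 : @Nat) (x2 : (@Nat → @ZMod @x1)) (x3 : @Nat) => @Fin.mk (@Nat.succ @x1) (@Nat.mod @x3 (@Nat.succ @x1)) (@Fin.ofNat._proof_1 (@Nat.succ @x1) (@Nat.instNeZeroSucc @x1) @x3)) (nat_lit 2) (@Nat.mod (@Nat.div (@Fin.val (nat_lit 64) @x0) (nat_lit 32)) (nat_lit 2))) (@Cfsg.Agent.KO7cf8507.k50.{1} (@ZMod (@OfNat.ofNat.{0} @Nat (nat_lit 2) (@instOfNatNat (nat_lit 2)))))))))) ?_); rewrite [← Cfsg.Agent.KO7cf8507.e50.{1}, ← Cfsg.Agent.KO7cf8507.e49.{1}, ← Cfsg.Agent.KO7cf8507.e18.{0, 0, 1}]; rfl') | exact @Cfsg.Agent.H547.Der.Six.dec | exact ()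
private theorem _root_.Cfsg.Agent.KO7cf8507.e51 : (by first | exact @Cfsg.Agent.H547.Der.Six.dec = @_root_.Cfsg.Agent.KO7cf8507.k51 | exact True : Prop) := by first | (delta _root_.Cfsg.Agent.KO7cf8507.k51; exact @Subtype.property _ (fun g => @Cfsg.Agent.H547.Der.Six.dec = @g) _) | rfl | trivial
private noncomputable def _root_.Cfsg.Agent.KO7cf8507.k52.{ku0, ku1} : ((x0 : Sort ku0) → ((x1 : (x0 → Sort ku1)) → ((@DecidableEq.{ku0} @x0) → (((x3 : x0) → @x1 @x3) → ((x4 : x0) → ((@x1 @x4) → ((x6 : x0) → @x1 @x6))))))) := @(fun (x0 : Sort ku0) (x1 : (x0 → Sort ku1)) (x2 : @DecidableEq.{ku0} @x0) (x3 : ((x3 : x0) → @x1 @x3)) (x4 : x0) (x5 : @x1 @x4) (x6 : x0) => @Decidable.rec.{ku1} (@Eq.{ku0} @x0 @x6 @x4) @(fun (x7 : @Decidable (@Eq.{ku0} @x0 @x6 @x4)) => @x1 @x6) @(fun (x7 : @Not (@Eq.{ku0} @x0 @x6 @x4)) => @x3 @x6) @(fun (x7 : @Eq.{ku0} @x0 @x6 @x4) => @Eq.rec.{ku1, ku0} @x0 @x4 @(fun (x8 : x0) (x9 : @Eq.{ku0} @x0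 @x4 @x8) => @x1 @x8) @x5 @x6 (@Eq.symm.{ku0} @x0 @x6 @x4 @x7)) (@x2 @x6 @x4))
private theorem _root_.Cfsg.Agent.KO7cf8507.e52.{ku0, ku1} : @Function.update.{ku0, ku1} = @_root_.Cfsg.Agent.KO7cf8507.k52.{ku0, ku1} := by delta _root_.Cfsg.Agent.KO7cf8507.k52; rfl'
private noncomputable def _root_.Cfsg.Agent.KO7cf8507.k53.{ku0, ku1} : ((x0 : Sort (ku0+1)) → ((x1 : (x0 → Sort (ku1+1))) → (((x2 : x0) → @Zero.{ku1} (@x1 @x2)) → ((@DecidableEq.{(ku0+1)} @x0) → ((x4 : x0) → ((@x1 @x4) → ((x6 : x0) → @x1 @x6))))))) := @(fun (x0 : Sort (ku0+1)) (x1 : (x0 → Sort (ku1+1))) (x2 : ((x2 : x0) → @Zero.{ku1} (@x1 @x2))) (x3 : @DecidableEq.{(ku0+1)} @x0) (x4 : x0) (x5 : @x1 @x4) => @Cfsg.Agent.KO7cf8507.k52.{(ku0+1), (ku1+1)} @x0 @x1 @x3 @(fun (x6 : x0) => @Zero.zero.{ku1} (@x1 @x6) (@x2 @x6)) @x4 @x5)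
private theorem _root_.Cfsg.Agent.KO7cf8507.e53.{ku0, ku1} : @Pi.single.{ku0, ku1} = @_root_.Cfsg.Agent.KO7cf8507.k53.{ku0, ku1} := by delta _root_.Cfsg.Agent.KO7cf8507.k53; rewrite [← Cfsg.Agent.KO7cf8507.e52.{(ku0+1), (ku1+1)}]; rfl'
private noncomputable def _root_.Cfsg.Agent.KO7cf8507.k54 : (by first | exact type_of% @Cfsg.Agent.H547.Der.Six.decEqP6 | exact Unit : Sort _) := by first | (refine @Subtype.val _ (fun g => @Cfsg.Agent.H547.Der.Six.decEqP6 = @g) (@Subtype.mk _ _ (@Cfsg.Agent.KO7cf8507.k16 (nat_lit 64)) ?_); rewrite [← Cfsg.Agent.KO7cf8507.e16]; rfl') | exact @Cfsg.Agent.H547.Der.Six.decEqP6 | exact ()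
private theorem _root_.Cfsg.Agent.KO7cf8507.e54 : (by first | exact @Cfsg.Agent.H547.Der.Six.decEqP6 = @_root_.Cfsg.Agent.KO7cf8507.k54 | exact True : Prop) := by first | (delta _root_.Cfsg.Agent.KO7cf8507.k54; exact @Subtype.property _ (fun g => @Cfsg.Agent.H547.Der.Six.decEqP6 = @g) _) | rfl | trivial

private noncomputable def _root_.Cfsg.Agent.KO7cf8507.k28 : ((@Int) → ((@Int) → @Int)) := @(fun (x0 : @Int) (x1 : @Int) => @Int.rec.{1} @(fun (x2 : @Int) => @Int) @(fun (x2 : @Nat) => @Int.rec.{1} @(fun (x3 : @Int) => @Int) @(fun (x3 : @Nat) => @Int.ofNat (@Nat.add @x2 @x3)) @(fun (x3 : @Nat) => @Nat.rec.{1} @(fun (x4 : @Nat) => @Int) (@Int.ofNat (@Nat.sub @x2 (@Nat.succ @x3))) @(fun (x4 : @Nat) (x5 : @Int) => @Int.negSucc @x4) (@Nat.sub (@Nat.succ @x3) @x2)) @x1) @(fun (x2 : @Nat) => @Int.rec.{1} @(fun (x3 : @Int) => @Int) @(fun (x3 : @Nat) => @Nat.rec.{1} @(fun (x4 : @Nat) => @Int) (@Int.ofNat (@Nat.sub @x3 (@Nat.succ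 @x2))) @(fun (x4 : @Nat) (x5 : @Int) => @Int.negSucc @x4) (@Nat.sub (@Nat.succ @x2) @x3)) @(fun (x3 : @Nat) => @Int.negSucc (@Nat.succ (@Nat.add @x2 @x3))) @x1) @x0)
private theorem _root_.Cfsg.Agent.KO7cf8507.e28 : @Int.add = @_root_.Cfsg.Agent.KO7cf8507.k28 := by delta _root_.Cfsg.Agent.KO7cf8507.k28; rfl'
private noncomputable def _root_.Cfsg.Agent.KO7cf8507.k29 : ((x0 : @Nat) → ((@Fin @x0) → ((@Fin @x0) → @Fin @x0))) := @(fun (x0 : @Nat) (x1 : @Fin @x0) (x2 : @Fin @x0) => @Fin.rec.{1} @x0 @(fun (x3 : @Fin @x0) => @Fin @x0) @(fun (x3 : @Nat) (x4 : @LT.lt.{0} @Nat @instLTNat @x3 @x0) => @Fin.rec.{1} @x0 @(fun (x5 : @Fin @x0) => @Fin @x0) @(fun (x5 : @Nat) (x6 : @LT.lt.{0} @Nat @instLTNat @x5 @x0) => @Fin.mk @x0 (@Nat.mod (@Nat.add @x3 @x5) @x0) (@Fin.add._proof_3 @x0 @x3 @x4 @x5)) @x2) @x1)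
private theorem _root_.Cfsg.Agent.KO7cf8507.e29 : @Fin.add = @_root_.Cfsg.Agent.KO7cf8507.k29 := by delta _root_.Cfsg.Agent.KO7cf8507.k29; rfl'
private noncomputable def _root_.Cfsg.Agent.KO7cf8507.k55 : (by first | exact type_of% @Cfsg.Agent.H916.Der.Six.fv | exact Unit : Sort _) := by first | (refine @Subtype.val _ (fun g => @Cfsg.Agent.H916.Der.Six.fv = @g) (@Subtype.mk _ _ (@(fun (x0 : @Cfsg.Agent.H547.Der.Six.P6) (x1 : @Cfsg.Agent.H547.Der.Six.V6) => @Nat.rec.{1} @(fun (x2 : @Nat) => ((@ZMod @x2) → ((@ZMod @x2) → @ZMod @x2))) @Cfsg.Agent.KO7cf8507.k28 @(fun (x2 : @Nat) (x3 : ((@ZMod @x2) → ((@ZMod @x2) → @ZMod @x2))) => @Cfsg.Agent.KO7cf8507.k29 (@Nat.succ @x2)) (nat_lit 2) (@Cfsg.Agent.H916.Der.Six.q0 @x1) (@Cfsg.Agent.H547.Der.Six.bil (@Cfsg.Agent.KO7cf8507.k51 @x0) @x1))) ?_); rewrite [← Cfsg.Agent.KO7cf8507.e51, ← Cfsg.Agent.KO7cf8507.e29, ← Cfsg.Agent.KO7cf8507.e28]; (try delta Cfsg.Agent.H916.Der.Six.fv);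 (try generalize @Cfsg.Agent.H916.Der.Six.q0 = g0); (try generalize @Cfsg.Agent.H547.Der.Six.bil = g1); (try generalize @Cfsg.Agent.H547.Der.Six.dec = g2); rfl') | exact @Cfsg.Agent.H916.Der.Six.fv | exact ()
private theorem _root_.Cfsg.Agent.KO7cf8507.e55 : (by first | exact @Cfsg.Agent.H916.Der.Six.fv = @_root_.Cfsg.Agent.KO7cf8507.k55 | exact True : Prop) := by first | (delta _root_.Cfsg.Agent.KO7cf8507.k55; exact @Subtype.property _ (fun g => @Cfsg.Agent.H916.Der.Six.fv = @g) _) | rfl | trivial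

private noncomputable def _root_.Cfsg.Agent.LsF.f492c6c_7 : {f // @Cfsg.Agent.H916.Der.Six.q0 = f} := ⟨_, by first | (delta Cfsg.Agent.H916.Der.Six.q0; rewrite [Cfsg.Agent.LsF.zadd_pat, Cfsg.Agent.LsF.zmul_pat]; exact rfl) | exact rfl⟩
private noncomputable def _root_.Cfsg.Agent.LsF.f492c6c_6 : {f // @Cfsg.Agent.H547.Der.Six.bil = f} := ⟨_, by first | (delta Cfsg.Agent.H547.Der.Six.bil; rewrite [Cfsg.Agent.LsF.zadd_pat, Cfsg.Agent.LsF.zmul_pat]; exact rfl) | exact rfl⟩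
private noncomputable def _root_.Cfsg.Agent.LsF.f492c6c_8 : {f // @Cfsg.Agent.KO7cf8507.k55 = f} := ⟨_, by first | (delta Cfsg.Agent.KO7cf8507.k55; rewrite [Cfsg.Agent.LsF.f492c6c_7.2, Cfsg.Agent.LsF.f492c6c_6.2]; exact rfl) | exact rfl⟩
set_option maxRecDepth 100000 in
theorem fq_inj_aux2 : ∀ m n : P6, (∀ i : I6, fv m (Pi.single i 1) = fv n (Pi.single i 1)) → m = n := by (refine of_decide_eq_true ?_; rewrite [Cfsg.Agent.KO7cf8507.e0, Cfsg.Agent.KO7cf8507.e44.{0}, Cfsg.Agent.KO7cf8507.e45, Cfsg.Agent.KO7cf8507.e17, Cfsg.Agent.KO7cf8507.e55, Cfsg.Agent.KO7cf8507.e53.{0, 0}, Cfsg.Agent.KO7cf8507.e43.{0, 0}, Cfsg.Agent.KO7cf8507.e16, Cfsg.Agent.KO7cf8507.e54]; ((try (delta Cfsg.Agent.KO7cf8507.k17; rewrite [Cfsg.Agent.LsF.f492c6c_8.2, Cfsg.Agent.LsF.finFintype_eq])); decide +kernel))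

theorem fq_inj {m n : P6} (h : fq m = fq n) : m = n :=
  fq_inj_aux2 m n fun i => congrFun (congrArg Subtype.val h) (Pi.single i 1)

/-- the number of zeros -/
noncomputable def nz (f : Fm) : ℕ := Nat.card {v : V6 // f.1 v = 0}

theorem nz_smul (g : G6) (f : Fm) : nz (g • f) = nz f := by
  unfold nz
  refine Nat.card_congr ⟨fun v => ⟨((g⁻¹ : G6) : M6).mulVec v.1, v.2⟩, fun v => ⟨(g : M6).mulVec v.1, ?_⟩, fun v => ?_,
    fun v => ?_⟩
  · rw [smul_val']
    exact v.2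
  · exact Subtype.ext (mulVec_inv g v.1)
  · exact Subtype.ext (inv_mulVec g v.1)

private noncomputable def _root_.Cfsg.Agent.LsF.f492c6c_9 : {f // @Cfsg.Agent.H547.Der.Six.dec = f} := ⟨_, by first | (delta Cfsg.Agent.H547.Der.Six.dec; rewrite [Cfsg.Agent.LsF.ndiv_pat, Cfsg.Agent.LsF.nmod_pat, Cfsg.Agent.LsF.zcast_pat, Cfsg.Agent.LsF.vecCons_eq]; exact rfl) | exact rfl⟩
private noncomputable def _root_.Cfsg.Agent.LsF.f492c6c_10 : {f // @Cfsg.Agent.H916.Der.Six.fv = f} := ⟨_, by first | (delta Cfsg.Agent.H916.Der.Six.fv; rewrite [Cfsg.Agent.LsF.f492c6c_7.2, Cfsg.Agent.LsF.f492c6c_6.2, Cfsg.Agent.LsF.f492c6c_9.2, Cfsg.Agent.LsF.zadd_pat]; exact rfl) | exact rfl⟩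
set_option maxRecDepth 100000 in
theorem nz_aux : ∀ n : P6, Fintype.card {v : V6 // fv n v = 0} = if q0 (dec n) = 0 then 36 else 28 := by
  (refine of_decide_eq_true ?_; (try (rewrite [Cfsg.Agent.LsF.f492c6c_10.2, Cfsg.Agent.LsF.f492c6c_7.2, Cfsg.Agent.LsF.f492c6c_9.2, Cfsg.Agent.LsF.zdecEq_eq, Cfsg.Agent.LsF.finFintype_eq, Cfsg.Agent.LsF.zFintype_eq, Cfsg.Agent.LsF.dForall_eq, Cfsg.Agent.LsF.tcard_eq, Cfsg.Agent.LsF.instDecEq_eq, Cfsg.Agent.LsF.dFinEq_eq, Cfsg.Agent.LsF.ite_eq, Cfsg.Agent.LsF.decide_eq])); decide +kernel)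

theorem nz_fq (n : P6) : nz (fq n) = if q0 (dec n) = 0 then 36 else 28 := by
  rw [← nz_aux n, ← Nat.card_eq_fintype_card]
  rfl

end Cfsg.Agent.H916.Der.Six
end

-- part: H916/Der/Orb
section
/-!
# Orbits of subgroups: congruences (helper916, for S3502)
-/

set_option autoImplicit false

namespace Cfsg.Agent.H916.Der

open MulAction Cfsg.Agent.H439.Der Cfsg.Agent.H547.Der

/-- `y ^ p ^ N = 1`, `y ^ p ^ k` without fixed points on the invariant set `Y`: `p ^ (k + 1) ∣ |Y|` -/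
theorem pow_dvd {G X : Type*} [Group G] [MulAction G X] {p : ℕ} (hp : p.Prime) {y : G} {N k : ℕ}
    (hy : y ^ p ^ N = 1) (Y : Set X) [Finite Y]
    (hinv : ∀ x ∈ Y, y • x ∈ Y) (hfix : ∀ x ∈ Y, y ^ p ^ k • x ≠ x) : p ^ (k + 1) ∣ Nat.card Y := by
  classical
  have hpN : 0 < p ^ N := pow_pos hp.pos N
  have hfo : IsOfFinOrder y := isOfFinOrder_iff_pow_eq_one.2 ⟨p ^ N, hpN, hy⟩
  have hpow : ∀ n : ℕ, ∀ x ∈ Y, y ^ n • x ∈ Y := by
    intro n
    induction n with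
    | zero => intro x hx; rwa [pow_zero, one_smul]
    | succ n ih => intro x hx; rw [pow_succ', mul_smul]; exact hinv _ (ih x hx)
  let : MulAction (Subgroup.zpowers y) Y := setAct (Subgroup.zpowers y) Y (by
    intro m hm x hx
    obtain ⟨n, rfl⟩ := hfo.mem_powers_iff_mem_zpowers.2 hm
    exact hpow n x hx)
  refine dvd_card_of_orbits (M := Subgroup.zpowers y) fun x => ?_
  have hcy : Nat.card (Subgroup.zpowers y) ∣ p ^ N := by
    rw [Nat.card_zpowers]
    exact orderOf_dvd_of_pow_eq_one hy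
  have : Finite (Subgroup.zpowers y) := Nat.finite_of_card_ne_zero fun h => by
    rw [h] at hcy
    exact hpN.ne' (Nat.eq_zero_of_zero_dvd hcy)
  set K := stabilizer (Subgroup.zpowers y) x with hK
  have h1 : K.index = Nat.card (orbit (Subgroup.zpowers y) x) := index_stabilizer _ x
  rw [← h1]
  have h2 : K.index ∣ p ^ N := K.index_dvd_card.trans hcy
  obtain ⟨j, hj, hj2⟩ := (Nat.dvd_prime_pow hp).1 h2
  by_cases hj3 : k + 1 ≤ j
  · rw [hj2]; exact pow_dvd_pow p hj3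
  exfalso
  have hn : K.Normal := by
    refine ⟨fun a ha g => ?_⟩
    have hc : g * a = a * g := by
      obtain ⟨_, i, rfl⟩ := g
      obtain ⟨_, k, rfl⟩ := a
      apply Subtype.ext
      show y ^ i * y ^ k = y ^ k * y ^ i
      rw [← zpow_add, ← zpow_add, add_comm]
    rw [hc, mul_inv_cancel_right]
    exact ha
  have h3 : (⟨y, Subgroup.mem_zpowers y⟩ : Subgroup.zpowers y) ^ K.index ∈ K := Subgroup.pow_index_mem K _
  have h4 : (⟨y, Subgroup.mem_zpowers y⟩ : Subgroup.zpowers y) ^ p ^ k ∈ K := by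
    have h5 : K.index ∣ p ^ k := by
      rw [hj2]
      exact pow_dvd_pow p (by omega)
    obtain ⟨c, hc⟩ := h5
    rw [hc, pow_mul]
    exact K.pow_mem h3 c
  rw [hK, mem_stabilizer_iff] at h4
  exact hfix x x.2 (congrArg Subtype.val h4)

section

variable {G X : Type*} [Group G] [MulAction G X] {M : Subgroup G} {Mi : X → Prop}

theorem orbit_inv' {v : X} {g : G} (hg : g ∈ M) : ∀ u ∈ orbit M v, g • u ∈ orbit M v := by
  rintro u ⟨m, rfl⟩
  exact ⟨⟨g, hg⟩ * m, mul_smul (⟨g, hg⟩ : M) m v⟩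

theorem mi_of_mem (hMi : ∀ (g : G) (x : X), Mi x → Mi (g • x)) {q : X} (hq : Mi q) : ∀ u ∈ orbit M q, Mi u := by
  rintro u ⟨m, rfl⟩
  exact hMi (m : G) q hq

theorem card_orbit_le' [Finite X] (hMi : ∀ (g : G) (x : X), Mi x → Mi (g • x)) {q : X} (hq : Mi q) {N : ℕ}
    (hN : Nat.card {x : X // Mi x} ≤ N) : Nat.card (orbit M q) ≤ N := by
  refine le_trans ?_ hN
  exact Nat.card_le_card_of_injective (fun u : orbit M q => (⟨u.1, mi_of_mem hMi hq u.1 u.2⟩ : {x : X // Mi x}))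
    fun a b h => Subtype.ext (congrArg (fun x : {x : X // Mi x} => (x : X)) h)

theorem card_orbit_dvd [Finite G] (q : X) : Nat.card (orbit M q) ∣ Nat.card M := by
  rw [Nat.card_coe_set_eq, ← index_stabilizer]
  exact Subgroup.index_dvd_card _

theorem card_orbit_mul [Finite G] (v : X) : Nat.card (orbit M v) * Nat.card (stabilizer M v) = Nat.card M := by
  rw [Nat.card_coe_set_eq, ← index_stabilizer]
  exact Subgroup.index_mul_card _

/-- type of `t12` -/
def P12 (Mi : X → Prop) (t : G) : Prop :=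
  ∃ q a b c : X, Mi q ∧ t • q = q ∧ t • a = b ∧ t • b = c ∧ t • c = a ∧ a ≠ b ∧ b ≠ c ∧ a ≠ c ∧ q ≠ a ∧ q ≠ b ∧ q ≠ c ∧
    (∀ x, Mi x → t ^ 4 • x = x → x = q) ∧ ∀ x, Mi x → t ^ 6 • x = x → x = q ∨ x = a ∨ x = b ∨ x = c

/-- type of `z15` -/
def P15 (Mi : X → Prop) (z : G) : Prop :=
  ∃ a b c : X, z ^ 5 • a = b ∧ z ^ 5 • b = c ∧ z ^ 5 • c = a ∧ a ≠ b ∧ b ≠ c ∧ a ≠ c ∧
    z ^ 3 • a = a ∧ z ^ 3 • b = b ∧ z ^ 3 • c = c ∧
    ∀ x, Mi x → z ^ 3 • x = x → x = a ∨ x = b ∨ x = c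

/-- type of `w9` -/
def P9 (Mi : X → Prop) (w : G) : Prop :=
  ∃ q : X, Mi q ∧ w • q = q ∧ ∀ x, Mi x → w ^ 3 • x = x → x = q

/-- no fixed points -/
def PN (Mi : X → Prop) (t : G) : Prop := ∀ x, Mi x → t • x ≠ x

theorem conj_smul (k t : G) (x : X) : (k * t * k⁻¹) • k • x = k • t • x := by
  rw [smul_smul, smul_smul, inv_mul_cancel_right]

theorem conj_smul' (k t : G) (x : X) : (k * t * k⁻¹) • x = k • t • k⁻¹ • x := by
  rw [smul_smul, smul_smul, mul_assoc]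

theorem PN.conj (hMi : ∀ (g : G) (x : X), Mi x → Mi (g • x)) {t : G} (h : PN Mi t) (k : G) : PN Mi (k * t * k⁻¹) := by
  intro x hx h1
  rw [conj_smul'] at h1
  refine h (k⁻¹ • x) (hMi _ _ hx) ?_
  conv_rhs => rw [← h1]
  rw [inv_smul_smul]

theorem P12.conj (hMi : ∀ (g : G) (x : X), Mi x → Mi (g • x)) {t : G} (h : P12 Mi t) (k : G) :
    P12 Mi (k * t * k⁻¹) := by
  obtain ⟨q, a, b, c, h1, h2, h3, h4, h5, h6, h7, h8, h9, h10, h11, h12, h13⟩ := h
  have hi := MulAction.injective (β := X) k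
  have key : ∀ n : ℕ, ∀ x : X, (k * t * k⁻¹) ^ n • x = x → t ^ n • k⁻¹ • x = k⁻¹ • x := by
    intro n x hx
    rw [conj_pow, conj_smul'] at hx
    conv_rhs => rw [← hx]
    rw [inv_smul_smul]
  refine ⟨k • q, k • a, k • b, k • c, hMi _ _ h1, ?_, ?_, ?_, ?_, hi.ne h6, hi.ne h7, hi.ne h8, hi.ne h9, hi.ne h10,
    hi.ne h11, fun x hx hx2 => ?_, fun x hx hx2 => ?_⟩
  · rw [conj_smul, h2]
  · rw [conj_smul, h3]
  · rw [conj_smul, h4]
  · rw [conj_smul, h5]
  · rw [← h12 (k⁻¹ • x) (hMi _ _ hx) (key 4 x hx2), smul_inv_smul]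
  · rcases h13 (k⁻¹ • x) (hMi _ _ hx) (key 6 x hx2) with h | h | h | h
    · left; rw [← h, smul_inv_smul]
    · right; left; rw [← h, smul_inv_smul]
    · right; right; left; rw [← h, smul_inv_smul]
    · right; right; right; rw [← h, smul_inv_smul]

theorem orderOf_pow_of {G : Type*} [Group G] {x : G} {n m : ℕ} (hn : 0 < n) (h : orderOf x = n * m) :
    orderOf (x ^ n) = m := by
  rw [orderOf_pow_of_dvd hn.ne' (by rw [h]; exact dvd_mul_right n m), h, Nat.mul_div_cancel_left m hn]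

/-- `t` of order 12 and `z` of order 15 -/
theorem lemA [Finite X] [Finite G] (hMi : ∀ (g : G) (x : X), Mi x → Mi (g • x)) (hN : Nat.card {x : X // Mi x} ≤ 28)
    {t z : G} (ht : P12 Mi t) (hz : P15 Mi z) (htM : t ∈ M) (hzM : z ∈ M) (hto : orderOf t = 12)
    (hzo : orderOf z = 15) : 13 ∣ Nat.card M ∨ 25 ∣ Nat.card M ∨ 28 ∣ Nat.card M := by
  obtain ⟨q, a, b, c, h1, h2, h3, h4, h5, h6, h7, h8, h9, h10, h11, h12, h13⟩ := ht
  have hle := card_orbit_le' (M := M) hMi h1 hN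
  have hd := card_orbit_dvd (M := M) q
  have hmi := mi_of_mem (M := M) hMi h1
  have hqO : q ∈ orbit M q := mem_orbit_self q
  -- mod 3
  have hm3 : Nat.card (orbit M q) ≡ 1 [MOD 3] := by
    have h := Cfsg.Agent.H503.El.Fix.card_mod (by norm_num) (orderOf_pow_of (n := 4) (m := 3) (by norm_num) hto)
      (orbit M q) (orbit_inv' (pow_mem htM 4))
    have hc : Nat.card {x : X // x ∈ orbit M q ∧ t ^ 4 • x = x} = 1 := by
      rw [Nat.card_eq_one_iff_unique]
      refine ⟨⟨fun u v => Subtype.ext ?_⟩, ⟨⟨q, hqO, ?_⟩⟩⟩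
      · rw [h12 _ (hmi _ u.2.1) u.2.2, h12 _ (hmi _ v.2.1) v.2.2]
      · rw [show t ^ 4 = t * t * t * t by rw [pow_succ, pow_succ, pow_succ, pow_one], mul_smul, mul_smul, mul_smul,
          h2, h2, h2, h2]
    rwa [hc] at h
  -- mod 5
  have hm5 : Nat.card (orbit M q) ≡ 0 [MOD 5] ∨ Nat.card (orbit M q) ≡ 3 [MOD 5] := by
    obtain ⟨a', b', c', g1, g2, g3, g4, g5, g6, g7, g8, g9, g10⟩ := hz
    have h := Cfsg.Agent.H503.El.Fix.card_mod (by norm_num) (orderOf_pow_of (n := 3) (m := 5) (by norm_num) hzo)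
      (orbit M q) (orbit_inv' (pow_mem hzM 3))
    have hz5 := orbit_inv' (M := M) (v := q) (pow_mem hzM 5)
    by_cases hex : ∃ x, x ∈ orbit M q ∧ z ^ 3 • x = x
    · right
      obtain ⟨x, hx, hx3⟩ := hex
      have hall : a' ∈ orbit M q ∧ b' ∈ orbit M q ∧ c' ∈ orbit M q := by
        rcases g10 x (hmi x hx) hx3 with rfl | rfl | rfl
        · have hb := hz5 _ hx
          rw [g1] at hb
          have hc := hz5 _ hb
          rw [g2] at hc
          exact ⟨hx, hb, hc⟩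
        · have hc := hz5 _ hx
          rw [g2] at hc
          have ha := hz5 _ hc
          rw [g3] at ha
          exact ⟨ha, hx, hc⟩
        · have ha := hz5 _ hx
          rw [g3] at ha
          have hb := hz5 _ ha
          rw [g1] at hb
          exact ⟨ha, hb, hx⟩
      have hset : {x : X | x ∈ orbit M q ∧ z ^ 3 • x = x} = {a', b', c'} := by
        ext x
        rw [Set.mem_insert_iff, Set.mem_insert_iff, Set.mem_singleton_iff]
        constructor
        · rintro ⟨hx, hx2⟩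
          exact g10 x (hmi x hx) hx2
        · rintro (rfl | rfl | rfl)
          · exact ⟨hall.1, g7⟩
          · exact ⟨hall.2.1, g8⟩
          · exact ⟨hall.2.2, g9⟩
      have hc : Nat.card {x : X // x ∈ orbit M q ∧ z ^ 3 • x = x} = 3 := by
        have : Nat.card {x : X // x ∈ orbit M q ∧ z ^ 3 • x = x} = ({a', b', c'} : Set X).ncard := by
          rw [← hset]
          exact Nat.card_coe_set_eq _
        classical
        have h9 : ({a', b', c'} : Set X) = (({a', b', c'} : Finset X) : Set X) := by ext; simp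
        rw [this, h9, Set.ncard_coe_finset, Finset.card_eq_three]
        exact ⟨a', b', c', g4, g6, g5, rfl⟩
      rwa [hc] at h
    · left
      have hie : IsEmpty {x : X // x ∈ orbit M q ∧ z ^ 3 • x = x} := ⟨fun x => hex ⟨x.1, x.2⟩⟩
      have hc : Nat.card {x : X // x ∈ orbit M q ∧ z ^ 3 • x = x} = 0 := Nat.card_of_isEmpty
      rwa [hc] at h
  -- mod 4
  have ht3 : ∀ x : X, t ^ 3 • x = t • t • t • x := by
    intro x
    rw [show t ^ 3 = t * t * t by rw [pow_succ, pow_succ, pow_one], mul_smul, mul_smul]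
  have hfq : t ^ 3 • q = q := by rw [ht3, h2, h2, h2]
  have hfa : t ^ 3 • a = a := by rw [ht3, h3, h4, h5]
  have hfb : t ^ 3 • b = b := by rw [ht3, h4, h5, h3]
  have hfc : t ^ 3 • c = c := by rw [ht3, h5, h3, h4]
  have hm4 : 4 ∣ (orbit M q \ {q, a, b, c}).ncard := by
    have := pow_dvd (p := 2) (y := t ^ 3) (N := 2) (k := 1) (by norm_num) (by
      rw [← pow_mul]
      norm_num
      rw [← hto, pow_orderOf_eq_one]) (orbit M q \ {q, a, b, c}) (by
      rintro x ⟨hx1, hx2⟩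
      refine ⟨orbit_inv' (pow_mem htM 3) x hx1, fun hx3 => hx2 ?_⟩
      have hi := MulAction.injective (β := X) (t ^ 3)
      simp only [Set.mem_insert_iff, Set.mem_singleton_iff] at hx3 ⊢
      rcases hx3 with h | h | h | h
      · left; exact hi (h.trans hfq.symm)
      · right; left; exact hi (h.trans hfa.symm)
      · right; right; left; exact hi (h.trans hfb.symm)
      · right; right; right; exact hi (h.trans hfc.symm)) (by
      rintro x ⟨hx1, hx2⟩ hx3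
      apply hx2
      rw [← pow_mul] at hx3
      norm_num at hx3
      simp only [Set.mem_insert_iff, Set.mem_singleton_iff]
      exact h13 x (hmi x hx1) hx3)
    norm_num at this
    exact this
  have hsplit := Set.ncard_inter_add_ncard_sdiff_eq_ncard (orbit M q) {q, a, b, c} (Set.toFinite _)
  have hO : Nat.card (orbit M q) = (orbit M q).ncard := rfl
  have hm4' : Nat.card (orbit M q) % 4 = 0 ∨ Nat.card (orbit M q) % 4 = 1 := by
    by_cases ha : a ∈ orbit M q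
    · left
      have hb : b ∈ orbit M q := by rw [← h3]; exact orbit_inv' htM a ha
      have hc : c ∈ orbit M q := by rw [← h4]; exact orbit_inv' htM b hb
      have hset : orbit M q ∩ {q, a, b, c} = {q, a, b, c} := by
        apply Set.inter_eq_self_of_subset_right
        rintro x (rfl | rfl | rfl | rfl)
        · exact hqO
        · exact ha
        · exact hb
        · exact hc
      have h4c : ({q, a, b, c} : Set X).ncard = 4 := by
        classical
        have hs : ({q, a, b, c} : Set X) = (({q, a, b, c} : Finset X) : Set X) := by ext; simp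
        rw [hs, Set.ncard_coe_finset, Finset.card_insert_of_notMem, Finset.card_eq_three.2 ⟨a, b, c, h6, h8, h7, rfl⟩]
        simp [h9, h10, h11]
      rw [hset, h4c] at hsplit
      omega
    · right
      have hb : b ∉ orbit M q := by
        intro hb
        apply ha
        have hc := orbit_inv' htM b hb
        rw [h4] at hc
        have := orbit_inv' htM c hc
        rwa [h5] at this
      have hc : c ∉ orbit M q := by
        intro hc
        apply ha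
        have := orbit_inv' htM c hc
        rwa [h5] at this
      have hset : orbit M q ∩ {q, a, b, c} = {q} := by
        ext x
        simp only [Set.mem_inter_iff, Set.mem_insert_iff, Set.mem_singleton_iff]
        constructor
        · rintro ⟨hx, rfl | rfl | rfl | rfl⟩
          · rfl
          · exact absurd hx ha
          · exact absurd hx hb
          · exact absurd hx hc
        · rintro rfl
          exact ⟨hqO, Or.inl rfl⟩
      rw [hset, Set.ncard_singleton] at hsplit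
      omega
  generalize hn : Nat.card (orbit M q) = n at *
  have hpos : 0 < n := by
    rw [← hn]
    have : Nonempty (orbit M q) := ⟨⟨q, hqO⟩⟩
    exact Nat.card_pos
  unfold Nat.ModEq at hm3 hm5
  have : n = 13 ∨ n = 25 ∨ n = 28 := by omega
  rcases this with rfl | rfl | rfl
  · left; exact hd
  · right; left; exact hd
  · right; right; exact hd

/-- `w` of order 9 and `t` of order 8 -/
theorem lemB [Finite X] [Finite G] (hMi : ∀ (g : G) (x : X), Mi x → Mi (g • x)) (hN : Nat.card {x : X // Mi x} ≤ 28)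
    {w t : G} (hw : P9 Mi w) (ht : PN Mi (t ^ 2)) (hwM : w ∈ M) (htM : t ∈ M) (hwo : w ^ 9 = 1)
    (hto : t ^ 8 = 1) : 28 ∣ Nat.card M := by
  obtain ⟨q, h1, h2, h3⟩ := hw
  have hle := card_orbit_le' (M := M) hMi h1 hN
  have hd := card_orbit_dvd (M := M) q
  have hmi := mi_of_mem (M := M) hMi h1
  have hqO : q ∈ orbit M q := mem_orbit_self q
  have hm4 : 4 ∣ Nat.card (orbit M q) := by
    have := pow_dvd (p := 2) (y := t) (N := 3) (k := 1) (by norm_num) (by norm_num; exact hto) (orbit M q)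
      (orbit_inv' htM) (by
        intro x hx h
        rw [pow_one] at h
        exact ht x (hmi x hx) h)
    norm_num at this
    exact this
  have hm9 : 9 ∣ (orbit M q \ {q}).ncard := by
    have := pow_dvd (p := 3) (y := w) (N := 2) (k := 1) (by norm_num) (by norm_num; exact hwo) (orbit M q \ {q})
      (by
        rintro x ⟨hx1, hx2⟩
        refine ⟨orbit_inv' hwM x hx1, fun hx3 => hx2 ?_⟩
        have hi := MulAction.injective (β := X) w
        rw [Set.mem_singleton_iff] at hx3 ⊢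
        exact hi (hx3.trans h2.symm)) (by
        rintro x ⟨hx1, hx2⟩ hx3
        rw [pow_one] at hx3
        exact hx2 (h3 x (hmi x hx1) hx3))
    rwa [show 3 ^ (1 + 1) = 9 by norm_num] at this
  have hsplit := Set.ncard_sdiff_singleton_add_one hqO (Set.toFinite _)
  have hO : Nat.card (orbit M q) = (orbit M q).ncard := rfl
  have : Nat.card (orbit M q) = 28 := by omega
  rwa [this] at hd

/-- an element of order 7 and an element of order 3 -/
theorem lemC [Finite X] [Finite G] {Pl : X → Prop} (hPl : ∀ (g : G) (x : X), Pl x → Pl (g • x))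
    (hN : Nat.card {x : X // Pl x} ≤ 36) {x c : G} {q : X} (hq : Pl q) (hxq : x • q = q)
    (hx : ∀ y, Pl y → x • y = y → y = q) (hc : PN Pl c) (hxM : x ∈ M) (hcM : c ∈ M) (hxo : orderOf x = 7)
    (hco : orderOf c = 3) : Nat.card (orbit M q) = 15 ∨ Nat.card (orbit M q) = 36 := by
  have hle := card_orbit_le' (M := M) hPl hq hN
  have hmi := mi_of_mem (M := M) hPl hq
  have hqO : q ∈ orbit M q := mem_orbit_self q
  have hm7 : Nat.card (orbit M q) ≡ 1 [MOD 7] := by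
    have h := Cfsg.Agent.H503.El.Fix.card_mod (by norm_num) hxo (orbit M q) (orbit_inv' hxM)
    have hc : Nat.card {y : X // y ∈ orbit M q ∧ x • y = y} = 1 := by
      rw [Nat.card_eq_one_iff_unique]
      refine ⟨⟨fun u v => Subtype.ext ?_⟩, ⟨⟨q, hqO, hxq⟩⟩⟩
      rw [hx _ (hmi _ u.2.1) u.2.2, hx _ (hmi _ v.2.1) v.2.2]
    rwa [hc] at h
  have hm3 : 3 ∣ Nat.card (orbit M q) :=
    prime_dvd (by norm_num) hco _ (orbit_inv' hcM) fun u hu h => hc u (hmi u hu) h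
  unfold Nat.ModEq at hm7
  omega

end

end Cfsg.Agent.H916.Der
end

-- part: H916/Der/SixTab
section
/-!
# `Sp₆(2)`: elements on the 64 quadratic forms (helper916, for S3502)
-/

set_option autoImplicit false

namespace Cfsg.Agent.H916.Der.Six

open Cfsg.Agent.H547.Der.Six Cfsg.Agent.H916.Der

/-- code -/
def mk (n : ℕ) : P6 := (Fin.ofNat 64 n : Fin 64)

/-- table -/
def tb (l : List ℕ) (n : P6) : P6 := mk (l.getD n.1 0)

def tau15 : List ℕ := [62, 21, 28, 55, 1, 42, 35, 8, 31, 52, 61, 22, 32, 11, 2, 41, 47, 4, 13, 38, 16, 59, 50, 25, 14,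
  37, 44, 7, 49, 26, 19, 56, 33, 10, 3, 40, 30, 53, 60, 23, 0, 43, 34, 9, 63, 20, 29, 54, 48, 27, 18, 57, 15, 36, 45, 6,
  17, 58, 51, 24, 46, 5, 12, 39]
def tau9 : List ℕ := [48, 27, 28, 55, 1, 42, 45, 6, 17, 58, 61, 22, 32, 11, 12, 39, 33, 10, 13, 38, 16, 59, 60, 23, 0,
  43, 44, 7, 49, 26, 29, 54, 47, 4, 3, 40, 30, 53, 50, 25, 14, 37, 34, 9, 63, 20, 19, 56, 62, 21, 18, 57, 15, 36, 35, 8,
  31, 52, 51, 24, 46, 5, 2, 41]
def tau7 : List ℕ := [45, 10, 31, 56, 35, 4, 17, 54, 12, 43, 62, 25, 2, 37, 48, 23, 47, 8, 29, 58, 33, 6, 19, 52, 14,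
  41, 60, 27, 0, 39, 50, 21, 34, 5, 16, 55, 44, 11, 30, 57, 3, 36, 49, 22, 13, 42, 63, 24, 32, 7, 18, 53, 46, 9, 28, 59,
  1, 38, 51, 20, 15, 40, 61, 26]
def tau8 : List ℕ := [0, 2, 1, 3, 34, 32, 35, 33, 20, 22, 21, 23, 54, 52, 55, 53, 8, 10, 9, 11, 42, 40, 43, 41, 28, 30,
  29, 31, 62, 60, 63, 61, 4, 6, 5, 7, 38, 36, 39, 37, 16, 18, 17, 19, 50, 48, 51, 49, 12, 14, 13, 15, 46, 44, 47, 45,
  24, 26, 25, 27, 58, 56, 59, 57]
def tau12 : List ℕ := [1, 32, 0, 33, 3, 34, 2, 35, 5, 36, 4, 37, 7, 38, 6, 39, 12, 45, 13, 44, 14, 47, 15, 46, 8, 41,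
  9, 40, 10, 43, 11, 42, 17, 48, 16, 49, 19, 50, 18, 51, 21, 52, 20, 53, 23, 54, 22, 55, 28, 61, 29, 60, 30, 63, 31, 62,
  24, 57, 25, 56, 26, 59, 27, 58]

private noncomputable def _root_.Cfsg.Agent.KO7cf8507.k26.{ku0, ku1} : ((x0 : Sort (ku1+1)) → ((x1 : Sort (ku0+1)) → ((x2 : (x0 → (x1 → x1))) → ((@LeftCommutative.{(ku1+1), (ku0+1)} @x0 @x1 @x2) → (x1 → ((@Multiset.{ku1} @x0) → x1)))))) := @(fun (x0 : Sort (ku1+1)) (x1 : Sort (ku0+1)) (x2 : (x0 → (x1 → x1))) (x3 : @LeftCommutative.{(ku1+1), (ku0+1)} @x0 @x1 @x2) (x4 : x1) (x5 : @Multiset.{ku1} @x0) => @Quot.lift.{(ku1+1), (ku0+1)} (@List.{ku1} @x0) (@Setoid.r.{(ku1+1)} (@List.{ku1} @x0) (@List.isSetoid.{ku1} @x0)) @x1 @(fun (x6 : @List.{ku1} @x0) => @List.foldr.{ku1, ku0} @x0 @x1 @x2 @x4 @x6) @(fun (x6 : @List.{ku1} @x0) (x7 : @List.{ku1} @x0) (x8 : @Setoid.r.{(ku1+1)} (@List.{ku1} @x0) (@List.isSetoid.{ku1} @x0) @x6 @x7) => @List.Perm.foldr_eq.{ku1, ku0} @x0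 @x1 @x2 @x6 @x7 @x3 @x8 @x4) @x5)
private theorem _root_.Cfsg.Agent.KO7cf8507.e26.{ku0, ku1} : @Multiset.foldr.{ku0, ku1} = @_root_.Cfsg.Agent.KO7cf8507.k26.{ku0, ku1} := by delta _root_.Cfsg.Agent.KO7cf8507.k26; rfl'
private noncomputable def _root_.Cfsg.Agent.KO7cf8507.k27.{ku0} : ((x0 : Sort (ku0+1)) → ((@AddCommMonoid.{ku0} @x0) → ((@Multiset.{ku0} @x0) → x0))) := @(fun (x0 : Sort (ku0+1)) (x1 : @AddCommMonoid.{ku0} @x0) => @Cfsg.Agent.KO7cf8507.k26.{ku0, ku0} @x0 @x0 @(fun (x2 : x0) (x3 : x0) => @Add.add.{ku0} @x0 (@AddSemigroup.toAdd.{ku0} @x0 (@AddMonoid.toAddSemigroup.{ku0} @x0 (@AddCommMonoid.toAddMonoid.{ku0} @x0 @x1))) @x2 @x3) (@Multiset.sum._proof_1.{ku0} @x0 @x1) (@Zero.zero.{ku0} @x0 (@AddMonoid.toZero.{ku0} @x0 (@AddCommMonoid.toAddMonoid.{ku0} @x0 @x1))))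
private theorem _root_.Cfsg.Agent.KO7cf8507.e27.{ku0} : @Multiset.sum.{ku0} = @_root_.Cfsg.Agent.KO7cf8507.k27.{ku0} := by delta _root_.Cfsg.Agent.KO7cf8507.k27; rewrite [← Cfsg.Agent.KO7cf8507.e26.{ku0, ku0}]; rfl'
private noncomputable def _root_.Cfsg.Agent.KO7cf8507.k61.{ku0} : ((x0 : Sort (ku0+1)) → ((@List.{ku0} @x0) → (@Nat → @Option.{ku0} @x0))) := @(fun (x0 : Sort (ku0+1)) (x1 : @List.{ku0} @x0) (x2 : @Nat) => @List.rec.{(ku0+1), ku0} @x0 @(fun (x3 : @List.{ku0} @x0) => (@Nat → @Option.{ku0} @x0)) @(fun (x3 : @Nat) => @Option.none.{ku0} @x0) @(fun (x3 : x0) (x4 : @List.{ku0} @x0) (x5 : (@Nat → @Option.{ku0} @x0)) (x6 : @Nat) => @Nat.rec.{(ku0+1)} @(fun (x7 : @Nat) => @Option.{ku0} @x0) (@Option.some.{ku0} @x0 @x3) @(fun (x7 : @Nat) (x8 : @Option.{ku0} @x0) => @x5 @x7) @x6) @x1 @x2)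
private theorem _root_.Cfsg.Agent.KO7cf8507.e61.{ku0} : @List.get?Internal.{ku0} = @_root_.Cfsg.Agent.KO7cf8507.k61.{ku0} := by delta _root_.Cfsg.Agent.KO7cf8507.k61; funext a0 a1 a2; refine (congrFun (_root_.Cfsg.Agent.KO7cf8507.e4 (fun a1 a2 => @List.get?Internal.{ku0} a0 a1 a2) ?_ (fun c0 c1 => ?_) a1) a2 :) <;> [(funext b0; (rfl')); (funext b0; (cases b0 with | @zero  => (rfl') | @succ b0_0 => (rfl')))]
private noncomputable def _root_.Cfsg.Agent.KO7cf8507.k62 : (by first | exact type_of% @Cfsg.Agent.H916.Der.Six.tb | exact Unit : Sort _) := by first | (refine @Subtype.val _ (fun g => @Cfsg.Agent.H916.Der.Six.tb = @g) (@Subtype.mk _ _ (@(fun (x0 : @List.{0} @Nat) (x1 : @Cfsg.Agent.H547.Der.Six.P6) => @Cfsg.Agent.H916.Der.Six.mk (@Option.rec.{1, 0} @Nat @(fun (x2 : @Option.{0} @Nat) => @Nat) (nat_lit 0) @(fun (x2 : @Nat) => x2) (@Cfsg.Agent.KO7cf8507.k61.{0} @Nat @x0 (@Fin.val (nat_lit 64) @x1))))) ?_); rewrite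 [← Cfsg.Agent.KO7cf8507.e61.{0}]; (try delta Cfsg.Agent.H916.Der.Six.tb); (try generalize @Cfsg.Agent.H916.Der.Six.mk = g0); rfl') | exact @Cfsg.Agent.H916.Der.Six.tb | exact ()
private theorem _root_.Cfsg.Agent.KO7cf8507.e62 : (by first | exact @Cfsg.Agent.H916.Der.Six.tb = @_root_.Cfsg.Agent.KO7cf8507.k62 | exact True : Prop) := by first | (delta _root_.Cfsg.Agent.KO7cf8507.k62; exact @Subtype.property _ (fun g => @Cfsg.Agent.H916.Der.Six.tb = @g) _) | rfl | trivial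
private noncomputable def _root_.Cfsg.Agent.KO7cf8507.k63.{ku0, ku1, ku2} : ((x0 : Sort (ku1+1)) → ((x1 : Sort (ku2+1)) → ((x2 : Sort (ku0+1)) → ((@NonUnitalNonAssocSemiring.{ku0} @x2) → ((@Fintype.{ku2} @x1) → ((@Matrix.{ku1, ku2, ku0} @x0 @x1 @x2) → ((x1 → x2) → (x0 → x2)))))))) := @(fun (x0 : Sort (ku1+1)) (x1 : Sort (ku2+1)) (x2 : Sort (ku0+1)) (x3 : @NonUnitalNonAssocSemiring.{ku0} @x2) (x4 : @Fintype.{ku2} @x1) (x5 : @Matrix.{ku1, ku2, ku0} @x0 @x1 @x2) (x6 : (x1 → x2)) (x7 : x0) => @Cfsg.Agent.KO7cf8507.k27.{ku0} @x2 (@NonUnitalNonAssocSemiring.toAddCommMonoid.{ku0} @x2 @x3) (@Quot.lift.{(ku2+1), (ku0+1)} (@List.{ku2} @x1) (@Setoid.r.{(ku2+1)} (@List.{ku2} @x1) (@List.isSetoid.{ku2} @x1)) (@Multiset.{ku0} @x2) @(fun (x8 : @List.{ku2} @x1) => @Quot.mk.{(ku0+1)} (@List.{ku0} @x2) (@Setoid.r.{(ku0+1)} (@List.{ku0} @x2) (@List.isSetoid.{ku0} @x2)) (@List.map.{ku2, ku0} @x1 @x2 @(fun (x9 : x1) => @Mul.mul.{ku0}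 @x2 (@NonUnitalNonAssocSemiring.toMul.{ku0} @x2 @x3) (@x5 @x7 @x9) (@x6 @x9)) @x8)) (@Multiset.map._proof_1.{ku2, ku0} @x1 @x2 @(fun (x8 : x1) => @HMul.hMul.{ku0, ku0, ku0} @x2 @x2 @x2 (@instHMul.{ku0} @x2 (@Distrib.toMul.{ku0} @x2 (@NonUnitalNonAssocSemiring.toDistrib.{ku0} @x2 @x3))) (@x5 @x7 @x8) (@x6 @x8))) (@Finset.val.{ku2} @x1 (@Fintype.elems.{ku2} @x1 @x4))))
private theorem _root_.Cfsg.Agent.KO7cf8507.e63.{ku0, ku1, ku2} : @Matrix.mulVec.{ku0, ku1, ku2} = @_root_.Cfsg.Agent.KO7cf8507.k63.{ku0, ku1, ku2} := by delta _root_.Cfsg.Agent.KO7cf8507.k63; rewrite [← Cfsg.Agent.KO7cf8507.e27.{ku0}]; rfl'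

private noncomputable def _root_.Cfsg.Agent.LsF.f492c6c_11 : {f // @Cfsg.Agent.H547.Der.Six.Z15 = f} := ⟨_, by first | (delta Cfsg.Agent.H547.Der.Six.Z15; rewrite [Cfsg.Agent.LsF.mof_pat, Cfsg.Agent.LsF.vecCons_eq]; exact rfl) | exact rfl⟩
set_option maxRecDepth 100000 in
theorem tab15 : ∀ n : P6, ∀ i : I6, fv (tb tau15 n) (Z15.mulVec (Pi.single i 1)) = fv n (Pi.single i 1) := by
  (refine of_decide_eq_true ?_; rewrite [Cfsg.Agent.KO7cf8507.e0, Cfsg.Agent.KO7cf8507.e44.{0}, Cfsg.Agent.KO7cf8507.e17, Cfsg.Agent.KO7cf8507.e55, Cfsg.Agent.KO7cf8507.e62, Cfsg.Agent.KO7cf8507.e63.{0, 0, 0}, Cfsg.Agent.KO7cf8507.e53.{0, 0}, Cfsg.Agent.KO7cf8507.e43.{0, 0}, Cfsg.Agent.KO7cf8507.e16]; ((try (delta Cfsg.Agent.KO7cf8507.k17 Cfsg.Agent.KO7cf8507.k26 Cfsg.Agent.KO7cf8507.k27 Cfsg.Agent.KO7cf8507.k63; rewrite [Cfsg.Agent.LsF.f492c6c_8.2, Cfsg.Agent.LsF.f492c6c_11.2, Cfsg.Agent.LsF.finFintype_eq])); decide +kernel))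

set_option maxRecDepth 100000 in
theorem tab9 : ∀ n : P6, ∀ i : I6, fv (tb tau9 n) (W9.mulVec (Pi.single i 1)) = fv n (Pi.single i 1) := by
  (refine of_decide_eq_true ?_; rewrite [Cfsg.Agent.KO7cf8507.e0, Cfsg.Agent.KO7cf8507.e44.{0}, Cfsg.Agent.KO7cf8507.e17, Cfsg.Agent.KO7cf8507.e55, Cfsg.Agent.KO7cf8507.e62, Cfsg.Agent.KO7cf8507.e63.{0, 0, 0}, Cfsg.Agent.KO7cf8507.e53.{0, 0}, Cfsg.Agent.KO7cf8507.e43.{0, 0}, Cfsg.Agent.KO7cf8507.e16]; ((try (delta Cfsg.Agent.KO7cf8507.k17 Cfsg.Agent.KO7cf8507.k26 Cfsg.Agent.KO7cf8507.k27 Cfsg.Agent.KO7cf8507.k63; rewrite [Cfsg.Agent.LsF.f492c6c_8.2, Cfsg.Agent.LsF.f492c6c_1.2, Cfsg.Agent.LsF.finFintype_eq])); decide +kernel))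

private noncomputable def _root_.Cfsg.Agent.LsF.f492c6c_12 : {f // @Cfsg.Agent.H547.Der.Six.X7 = f} := ⟨_, by first | (delta Cfsg.Agent.H547.Der.Six.X7; rewrite [Cfsg.Agent.LsF.mof_pat, Cfsg.Agent.LsF.vecCons_eq]; exact rfl) | exact rfl⟩
set_option maxRecDepth 100000 in
theorem tab7 : ∀ n : P6, ∀ i : I6, fv (tb tau7 n) (X7.mulVec (Pi.single i 1)) = fv n (Pi.single i 1) := by
  (refine of_decide_eq_true ?_; rewrite [Cfsg.Agent.KO7cf8507.e0, Cfsg.Agent.KO7cf8507.e44.{0}, Cfsg.Agent.KO7cf8507.e17, Cfsg.Agent.KO7cf8507.e55, Cfsg.Agent.KO7cf8507.e62, Cfsg.Agent.KO7cf8507.e63.{0, 0, 0}, Cfsg.Agent.KO7cf8507.e53.{0, 0}, Cfsg.Agent.KO7cf8507.e43.{0, 0}, Cfsg.Agent.KO7cf8507.e16]; ((try (delta Cfsg.Agent.KO7cf8507.k17 Cfsg.Agent.KO7cf8507.k26 Cfsg.Agent.KO7cf8507.k27 Cfsg.Agent.KO7cf8507.k63; rewrite [Cfsg.Agent.LsF.f492c6c_8.2, Cfsg.Agent.LsF.f492c6c_12.2, Cfsg.Agent.LsF.finFintype_eq])); decide +kernel))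

set_option maxRecDepth 100000 in
theorem tab8 : ∀ n : P6, ∀ i : I6, fv (tb tau8 n) (T8.mulVec (Pi.single i 1)) = fv n (Pi.single i 1) := by
  (refine of_decide_eq_true ?_; rewrite [Cfsg.Agent.KO7cf8507.e0, Cfsg.Agent.KO7cf8507.e44.{0}, Cfsg.Agent.KO7cf8507.e17, Cfsg.Agent.KO7cf8507.e55, Cfsg.Agent.KO7cf8507.e62, Cfsg.Agent.KO7cf8507.e63.{0, 0, 0}, Cfsg.Agent.KO7cf8507.e53.{0, 0}, Cfsg.Agent.KO7cf8507.e43.{0, 0}, Cfsg.Agent.KO7cf8507.e16]; ((try (delta Cfsg.Agent.KO7cf8507.k17 Cfsg.Agent.KO7cf8507.k26 Cfsg.Agent.KO7cf8507.k27 Cfsg.Agent.KO7cf8507.k63; rewrite [Cfsg.Agent.LsF.f492c6c_8.2, Cfsg.Agent.LsF.f492c6c_3.2, Cfsg.Agent.LsF.finFintype_eq])); decide +kernel))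

set_option maxRecDepth 100000 in
theorem tab12 : ∀ n : P6, ∀ i : I6, fv (tb tau12 n) (T12.mulVec (Pi.single i 1)) = fv n (Pi.single i 1) := by
  (refine of_decide_eq_true ?_; rewrite [Cfsg.Agent.KO7cf8507.e0, Cfsg.Agent.KO7cf8507.e44.{0}, Cfsg.Agent.KO7cf8507.e17, Cfsg.Agent.KO7cf8507.e55, Cfsg.Agent.KO7cf8507.e62, Cfsg.Agent.KO7cf8507.e63.{0, 0, 0}, Cfsg.Agent.KO7cf8507.e53.{0, 0}, Cfsg.Agent.KO7cf8507.e43.{0, 0}, Cfsg.Agent.KO7cf8507.e16]; ((try (delta Cfsg.Agent.KO7cf8507.k17 Cfsg.Agent.KO7cf8507.k26 Cfsg.Agent.KO7cf8507.k27 Cfsg.Agent.KO7cf8507.k63; rewrite [Cfsg.Agent.LsF.f492c6c_8.2, Cfsg.Agent.LsF.f492c6c_4.2, Cfsg.Agent.LsF.finFintype_eq])); decide +kernel))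

theorem smul15 (n : P6) : z15 • fq n = fq (tb tau15 n) := smul_eq (tab15 n)
theorem smul9 (n : P6) : w9 • fq n = fq (tb tau9 n) := smul_eq (tab9 n)
theorem smul7 (n : P6) : x7 • fq n = fq (tb tau7 n) := smul_eq (tab7 n)
theorem smul8 (n : P6) : t8 • fq n = fq (tb tau8 n) := smul_eq (tab8 n)
theorem smul12 (n : P6) : t12 • fq n = fq (tb tau12 n) := smul_eq (tab12 n)

theorem pow_smul_fq {g : G6} {τ : P6 → P6} (h : ∀ n, g • fq n = fq (τ n)) (k : ℕ) :
    ∀ n : P6, g ^ k • fq n = fq (τ^[k] n) := by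
  induction k with
  | zero => intro n; rw [pow_zero, one_smul]; rfl
  | succ k ih => intro n; rw [pow_succ, mul_smul, h, ih]; rfl

/-- minus forms -/
def Mi (f : Fm) : Prop := nz f = 28

/-- plus forms -/
def Pl (f : Fm) : Prop := nz f = 36

theorem mi_smul (g : G6) (f : Fm) (h : Mi f) : Mi (g • f) := by
  unfold Mi at h ⊢
  rw [nz_smul, h]

theorem pl_smul (g : G6) (f : Fm) (h : Pl f) : Pl (g • f) := by
  unfold Pl at h ⊢
  rw [nz_smul, h]

theorem mi_fq (n : P6) : Mi (fq n) ↔ q0 (dec n) ≠ 0 := by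
  unfold Mi
  rw [nz_fq]
  by_cases h : q0 (dec n) = 0
  · simp [h]
  · simp [h]

theorem pl_fq (n : P6) : Pl (fq n) ↔ q0 (dec n) = 0 := by
  unfold Pl
  rw [nz_fq]
  by_cases h : q0 (dec n) = 0
  · simp [h]
  · simp [h]

theorem mi_or_pl (f : Fm) : Mi f ∨ Pl f := by
  obtain ⟨n, rfl⟩ := fq_surj f
  rw [mi_fq, pl_fq]
  by_cases h : q0 (dec n) = 0
  · exact Or.inr h
  · exact Or.inl h

theorem card_aux {P : Fm → Prop} {p : P6 → Prop} [DecidablePred p] (h : ∀ n, P (fq n) → p n) :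
    Nat.card {f : Fm // P f} ≤ Fintype.card {n : P6 // p n} := by
  classical
  rw [← Nat.card_eq_fintype_card]
  choose ι hι using fq_surj
  refine Nat.card_le_card_of_injective (fun f : {f : Fm // P f} => (⟨ι f.1, h _ (by rw [hι]; exact f.2)⟩ : {n : P6 // p n}))
    fun a b hab => Subtype.ext ?_
  have h1 : ι a.1 = ι b.1 := congrArg Subtype.val hab
  rw [← hι a.1, ← hι b.1, h1]

private noncomputable def _root_.Cfsg.Agent.KO7cf8507.k41 : ((x0 : Prop) → ((@Decidable @x0) → @Decidable (@Not @x0))) := @(fun (x0 : Prop) (x1 : @Decidable @x0) => @Decidable.rec.{1} @x0 @(fun (x2 : @Decidable @x0) => @Decidable (@Not @x0)) @(fun (x2 : @Not @x0) => @Decidable.isTrue (@Not @x0) @x2) @(fun (x2 : x0) => @Decidable.isFalse (@Not @x0) (@absurd.{0} @x0 @False @x2)) @x1)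
private theorem _root_.Cfsg.Agent.KO7cf8507.e41 : @instDecidableNot = @_root_.Cfsg.Agent.KO7cf8507.k41 := by delta _root_.Cfsg.Agent.KO7cf8507.k41; rfl'
private noncomputable def _root_.Cfsg.Agent.KO7cf8507.k56 : @DecidableEq.{1} @Nat := @Cfsg.Agent.KO7cf8507.k14
private theorem _root_.Cfsg.Agent.KO7cf8507.e56 : @instDecidableEqNat = @_root_.Cfsg.Agent.KO7cf8507.k56 := by delta _root_.Cfsg.Agent.KO7cf8507.k56; rewrite [← Cfsg.Agent.KO7cf8507.e14]; rfl'
private noncomputable def _root_.Cfsg.Agent.KO7cf8507.k58.{ku0} : ((x0 : Sort (ku0+1)) → ((@Fintype.{ku0} @x0) → @Nat)) := @(fun (x0 : Sort (ku0+1)) (x1 : @Fintype.{ku0} @x0) => @Quot.lift.{(ku0+1), 1} (@List.{ku0} @x0) (@Setoid.r.{(ku0+1)} (@List.{ku0} @x0) (@List.isSetoid.{ku0} @x0)) @Nat (@List.length.{ku0} @x0) @(fun (x2 : @List.{ku0} @x0) (x3 : @List.{ku0} @x0) => @List.Perm.length_eq.{ku0} @x0 @x2 @x3) (@Finset.val.{ku0} @x0 (@Fintype.elems.{ku0} @x0 @x1)))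
private theorem _root_.Cfsg.Agent.KO7cf8507.e58.{ku0} : @Fintype.card.{ku0} = @_root_.Cfsg.Agent.KO7cf8507.k58.{ku0} := by delta _root_.Cfsg.Agent.KO7cf8507.k58; rfl'

set_option maxRecDepth 100000 in
theorem card_mi : Nat.card {f : Fm // Mi f} ≤ 28 := by
  refine (card_aux (p := fun n => q0 (dec n) ≠ 0) fun n h => (mi_fq n).1 h).trans ?_
  have : Fintype.card {n : P6 // q0 (dec n) ≠ 0} = 28 := by (first | (refine of_decide_eq_true ?_; rewrite [Cfsg.Agent.KO7cf8507.e0, Cfsg.Agent.KO7cf8507.e56, Cfsg.Agent.KO7cf8507.e58.{0}, Cfsg.Agent.KO7cf8507.e41, Cfsg.Agent.KO7cf8507.e17, Cfsg.Agent.KO7cf8507.e51]; decide +kernel) | decide +kernel)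
  exact this.le

set_option maxRecDepth 100000 in
theorem card_pl : Nat.card {f : Fm // Pl f} ≤ 36 := by
  refine (card_aux (p := fun n => q0 (dec n) = 0) fun n h => (pl_fq n).1 h).trans ?_
  have : Fintype.card {n : P6 // q0 (dec n) = 0} = 36 := by (first | (refine of_decide_eq_true ?_; rewrite [Cfsg.Agent.KO7cf8507.e0, Cfsg.Agent.KO7cf8507.e56, Cfsg.Agent.KO7cf8507.e58.{0}, Cfsg.Agent.KO7cf8507.e17, Cfsg.Agent.KO7cf8507.e51]; decide +kernel) | decide +kernel)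
  exact this.le

theorem forall_mi {P : Fm → Prop} (h : ∀ n, q0 (dec n) ≠ 0 → P (fq n)) : ∀ f, Mi f → P f := by
  intro f hf
  obtain ⟨n, rfl⟩ := fq_surj f
  exact h n ((mi_fq n).1 hf)

theorem forall_pl {P : Fm → Prop} (h : ∀ n, q0 (dec n) = 0 → P (fq n)) : ∀ f, Pl f → P f := by
  intro f hf
  obtain ⟨n, rfl⟩ := fq_surj f
  exact h n ((pl_fq n).1 hf)

private noncomputable def _root_.Cfsg.Agent.KO7cf8507.k1 : ((x0 : Prop) → ((x1 : Prop) → ((@Decidable @x0) → ((@Decidable @x1) → @Decidable (@And @x0 @x1))))) := @(fun (x0 : Prop) (x1 : Prop) (x2 : @Decidable @x0) (x3 : @Decidable @x1) => @Decidable.rec.{1} @x0 @(fun (x4 : @Decidable @x0) => @Decidable (@And @x0 @x1)) @(fun (x4 : @Not @x0) => @Decidable.isFalse (@And @x0 @x1) (@instDecidableAnd._proof_2 @x0 @x1 @x4)) @(fun (x4 : x0) => @Decidable.rec.{1} @x1 @(fun (x5 : @Decidable @x1) => @Decidable (@And @x0 @x1)) @(fun (x5 : @Not @x1) => @Decidable.isFalse (@And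 @x0 @x1) (@instDecidableAnd._proof_1 @x0 @x1 @x5)) @(fun (x5 : x1) => @Decidable.isTrue (@And @x0 @x1) (@And.intro @x0 @x1 @x4 @x5)) @x3) @x2)
private theorem _root_.Cfsg.Agent.KO7cf8507.e1 : @instDecidableAnd = @_root_.Cfsg.Agent.KO7cf8507.k1 := by delta _root_.Cfsg.Agent.KO7cf8507.k1; rfl'
private noncomputable def _root_.Cfsg.Agent.KO7cf8507.k64.{ku0} : ((x0 : Sort ku0) → ((x0 → x0) → (@Nat → (x0 → x0)))) := @(fun (x0 : Sort ku0) (x1 : (x0 → x0)) (x2 : @Nat) (x3 : x0) => @Nat.rec.{ku0} @(fun (x4 : @Nat) => (x0 → x0)) @(fun (x4 : x0) => x4) @(fun (x4 : @Nat) (x5 : (x0 → x0)) (x6 : x0) => @x5 (@x1 @x6)) @x2 @x3)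
private theorem _root_.Cfsg.Agent.KO7cf8507.e64.{ku0} : @Nat.iterate.{ku0} = @_root_.Cfsg.Agent.KO7cf8507.k64.{ku0} := by delta _root_.Cfsg.Agent.KO7cf8507.k64; funext a0 a1 a2 a3; refine (congrFun (_root_.Cfsg.Agent.KO7cf8507.e31 (fun a2 a3 => @Nat.iterate.{ku0} a0 a1 a2 a3) ?_ (fun c0 => ?_) a2) a3 :) <;> (rfl')
private noncomputable def _root_.Cfsg.Agent.KO7cf8507.k65 : ((x0 : Prop) → ((x1 : Prop) → ((@Decidable @x0) → ((@Decidable @x1) → @Decidable (@Or @x0 @x1))))) := @(fun (x0 : Prop) (x1 : Prop) (x2 : @Decidable @x0) (x3 : @Decidable @x1) => @Decidable.rec.{1} @x0 @(fun (x4 : @Decidable @x0) => @Decidable (@Or @x0 @x1)) @(fun (x4 : @Not @x0) => @Decidable.rec.{1} @x1 @(fun (x5 : @Decidable @x1) => @Decidable (@Or @x0 @x1)) @(fun (x5 : @Not @x1) => @Decidable.isFalse (@Or @x0 @x1) (@instDecidableOr._proof_1 @x0 @x1 @x4 @x5)) @(fun (x5 : x1) => @Decidable.isTrue (@Or @x0 @x1) (@Or.inr @x0 @x1 @x5)) @x3) @(fun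 (x4 : x0) => @Decidable.isTrue (@Or @x0 @x1) (@Or.inl @x0 @x1 @x4)) @x2)
private theorem _root_.Cfsg.Agent.KO7cf8507.e65 : @instDecidableOr = @_root_.Cfsg.Agent.KO7cf8507.k65 := by delta _root_.Cfsg.Agent.KO7cf8507.k65; rfl'

set_option maxRecDepth 100000 in
theorem dec12 : ∀ n : P6, q0 (dec n) ≠ 0 → ((tb tau12)^[4] n = n → n = mk 57) ∧
    ((tb tau12)^[6] n = n → n = mk 57 ∨ n = mk 13 ∨ n = mk 38 ∨ n = mk 18) := by (first | (refine of_decide_eq_true ?_; rewrite [Cfsg.Agent.KO7cf8507.e0, Cfsg.Agent.KO7cf8507.e44.{0}, Cfsg.Agent.KO7cf8507.e45, Cfsg.Agent.KO7cf8507.e41, Cfsg.Agent.KO7cf8507.e17, Cfsg.Agent.KO7cf8507.e51, Cfsg.Agent.KO7cf8507.e1, Cfsg.Agent.KO7cf8507.e54, Cfsg.Agent.KO7cf8507.e64.{1}, Cfsg.Agent.KO7cf8507.e62, Cfsg.Agent.KO7cf8507.e65]; decide +kernel) | decide +kernel)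

set_option maxRecDepth 100000 in
theorem dec12b : tb tau12 (mk 57) = mk 57 ∧ tb tau12 (mk 13) = mk 38 ∧ tb tau12 (mk 38) = mk 18 ∧
    tb tau12 (mk 18) = mk 13 ∧ q0 (dec (mk 57)) ≠ 0 ∧ mk 13 ≠ mk 38 ∧ mk 38 ≠ mk 18 ∧ mk 13 ≠ mk 18 ∧ mk 57 ≠ mk 13 ∧
    mk 57 ≠ mk 38 ∧ mk 57 ≠ mk 18 := by decide +kernel

theorem p12 : P12 Mi t12 := by
  obtain ⟨h1, h2, h3, h4, h5, h6, h7, h8, h9, h10, h11⟩ := dec12b
  refine ⟨fq (mk 57), fq (mk 13), fq (mk 38), fq (mk 18), (mi_fq _).2 h5, ?_, ?_, ?_, ?_, fun h => h6 (fq_inj h),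
    fun h => h7 (fq_inj h), fun h => h8 (fq_inj h), fun h => h9 (fq_inj h), fun h => h10 (fq_inj h),
    fun h => h11 (fq_inj h), ?_, ?_⟩
  · rw [smul12, h1]
  · rw [smul12, h2]
  · rw [smul12, h3]
  · rw [smul12, h4]
  · refine forall_mi fun n hn h => ?_
    rw [pow_smul_fq smul12] at h
    rw [(dec12 n hn).1 (fq_inj h)]
  · refine forall_mi fun n hn h => ?_
    rw [pow_smul_fq smul12] at h
    rcases (dec12 n hn).2 (fq_inj h) with rfl | rfl | rfl | rfl
    · exact Or.inl rfl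
    · exact Or.inr (Or.inl rfl)
    · exact Or.inr (Or.inr (Or.inl rfl))
    · exact Or.inr (Or.inr (Or.inr rfl))

set_option maxRecDepth 100000 in
theorem dec15 : ∀ n : P6, q0 (dec n) ≠ 0 → ((tb tau15)^[3] n = n → n = mk 51 ∨ n = mk 58 ∨ n = mk 57) := by
  (first | (refine of_decide_eq_true ?_; rewrite [Cfsg.Agent.KO7cf8507.e0, Cfsg.Agent.KO7cf8507.e44.{0}, Cfsg.Agent.KO7cf8507.e45, Cfsg.Agent.KO7cf8507.e41, Cfsg.Agent.KO7cf8507.e17, Cfsg.Agent.KO7cf8507.e51, Cfsg.Agent.KO7cf8507.e54, Cfsg.Agent.KO7cf8507.e64.{1}, Cfsg.Agent.KO7cf8507.e62, Cfsg.Agent.KO7cf8507.e65]; decide +kernel) | decide +kernel)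

set_option maxRecDepth 100000 in
theorem dec15b : (tb tau15)^[5] (mk 51) = mk 58 ∧ (tb tau15)^[5] (mk 58) = mk 57 ∧ (tb tau15)^[5] (mk 57) = mk 51 ∧
    mk 51 ≠ mk 58 ∧ mk 58 ≠ mk 57 ∧ mk 51 ≠ mk 57 ∧ (tb tau15)^[3] (mk 51) = mk 51 ∧ (tb tau15)^[3] (mk 58) = mk 58 ∧
    (tb tau15)^[3] (mk 57) = mk 57 := by
  decide +kernel

theorem p15 : P15 Mi z15 := by
  obtain ⟨h1, h2, h3, h4, h5, h6, h7, h8, h9⟩ := dec15b
  refine ⟨fq (mk 51), fq (mk 58), fq (mk 57), ?_, ?_, ?_, fun h => h4 (fq_inj h),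
    fun h => h5 (fq_inj h), fun h => h6 (fq_inj h), ?_, ?_, ?_, ?_⟩
  · rw [pow_smul_fq smul15, h1]
  · rw [pow_smul_fq smul15, h2]
  · rw [pow_smul_fq smul15, h3]
  · rw [pow_smul_fq smul15, h7]
  · rw [pow_smul_fq smul15, h8]
  · rw [pow_smul_fq smul15, h9]
  · refine forall_mi fun n hn h => ?_
    rw [pow_smul_fq smul15] at h
    rcases dec15 n hn (fq_inj h) with rfl | rfl | rfl
    · exact Or.inl rfl
    · exact Or.inr (Or.inl rfl)
    · exact Or.inr (Or.inr rfl)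

set_option maxRecDepth 100000 in
theorem dec9 : ∀ n : P6, (q0 (dec n) ≠ 0 → (tb tau9)^[3] n = n → n = mk 23) ∧
    (q0 (dec n) = 0 → (tb tau9)^[3] n ≠ n) := by
  (first | (refine of_decide_eq_true ?_; rewrite [Cfsg.Agent.KO7cf8507.e0, Cfsg.Agent.KO7cf8507.e44.{0}, Cfsg.Agent.KO7cf8507.e1, Cfsg.Agent.KO7cf8507.e45, Cfsg.Agent.KO7cf8507.e41, Cfsg.Agent.KO7cf8507.e17, Cfsg.Agent.KO7cf8507.e51, Cfsg.Agent.KO7cf8507.e54, Cfsg.Agent.KO7cf8507.e64.{1}, Cfsg.Agent.KO7cf8507.e62]; decide +kernel) | decide +kernel)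

set_option maxRecDepth 100000 in
theorem dec9b : tb tau9 (mk 23) = mk 23 ∧ q0 (dec (mk 23)) ≠ 0 := by decide +kernel

theorem p9 : P9 Mi w9 := by
  refine ⟨fq (mk 23), (mi_fq _).2 dec9b.2, ?_, ?_⟩
  · rw [smul9, dec9b.1]
  · refine forall_mi fun n hn h => ?_
    rw [pow_smul_fq smul9] at h
    rw [(dec9 n).1 hn (fq_inj h)]

theorem pn3 : PN Pl (w9 ^ 3) := by
  refine forall_pl fun n hn h => ?_
  rw [pow_smul_fq smul9] at h
  exact (dec9 n).2 hn (fq_inj h)

set_option maxRecDepth 100000 in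
theorem dec8 : ∀ n : P6, q0 (dec n) ≠ 0 → (tb tau8)^[2] n ≠ n := by (first | (refine of_decide_eq_true ?_; rewrite [Cfsg.Agent.KO7cf8507.e0, Cfsg.Agent.KO7cf8507.e44.{0}, Cfsg.Agent.KO7cf8507.e45, Cfsg.Agent.KO7cf8507.e41, Cfsg.Agent.KO7cf8507.e17, Cfsg.Agent.KO7cf8507.e51, Cfsg.Agent.KO7cf8507.e54, Cfsg.Agent.KO7cf8507.e64.{1}, Cfsg.Agent.KO7cf8507.e62]; decide +kernel) | decide +kernel)

theorem pn8 : PN Mi (t8 ^ 2) := by
  refine forall_mi fun n hn h => ?_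
  rw [pow_smul_fq smul8] at h
  exact dec8 n hn (fq_inj h)

set_option maxRecDepth 100000 in
theorem dec7 : ∀ n : P6, (q0 (dec n) ≠ 0 → tb tau7 n ≠ n) ∧ (q0 (dec n) = 0 → tb tau7 n = n → n = mk 27) := by
  (first | (refine of_decide_eq_true ?_; rewrite [Cfsg.Agent.KO7cf8507.e0, Cfsg.Agent.KO7cf8507.e44.{0}, Cfsg.Agent.KO7cf8507.e1, Cfsg.Agent.KO7cf8507.e45, Cfsg.Agent.KO7cf8507.e41, Cfsg.Agent.KO7cf8507.e17, Cfsg.Agent.KO7cf8507.e51, Cfsg.Agent.KO7cf8507.e54, Cfsg.Agent.KO7cf8507.e62]; decide +kernel) | decide +kernel)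

set_option maxRecDepth 100000 in
theorem dec7b : tb tau7 (mk 27) = mk 27 ∧ q0 (dec (mk 27)) = 0 := by decide +kernel

/-- type of `x7` -/
theorem p7 : PN Mi x7 ∧ ∃ q, Pl q ∧ x7 • q = q ∧ ∀ y, Pl y → x7 • y = y → y = q := by
  refine ⟨forall_mi fun n hn h => ?_, fq (mk 27), (pl_fq _).2 dec7b.2, ?_, forall_pl fun n hn h => ?_⟩
  · rw [smul7] at h
    exact (dec7 n).1 hn (fq_inj h)
  · rw [smul7, dec7b.1]
  · rw [smul7] at h
    rw [(dec7 n).2 hn (fq_inj h)]

end Cfsg.Agent.H916.Der.Six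
end

-- part: H916/Der/SixRow
section
/-!
# `Sp₆(2)`: three classes of derangements (helper916, for S3502)
-/

set_option autoImplicit false

namespace Cfsg.Agent.H916.Der.Six

open Subgroup MulAction Cfsg.Agent.H439.Der Cfsg.Agent.H547.Der Cfsg.Agent.H547.Der.Six Cfsg.Agent.H916.Der
open Cfsg.Agent.H970.StabNum Cfsg.Agent.H503.El Cfsg.Agent Cfsg

/-- the sum of an odd number of forms -/
theorem exists_inv {M : Subgroup G6} (O : Set Fm) (hO : ∀ g ∈ M, ∀ f ∈ O, g • f ∈ O) (hodd : Odd (Nat.card O)) :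
    ∃ f : Fm, ∀ g ∈ M, g • f = f := by
  classical
  have := Fintype.ofFinite Fm
  set s : Finset Fm := O.toFinset with hs
  have hcard : s.card = Nat.card O := by
    rw [hs, Set.toFinset_card, Nat.card_eq_fintype_card]
  let f : Fm := ⟨fun v => ∑ p ∈ s, p.1 v, fun u v => by
    show ∑ p ∈ s, p.1 (u + v) = ∑ p ∈ s, p.1 u + ∑ p ∈ s, p.1 v + bil u v
    have h1 : ∀ p ∈ s, p.1 (u + v) = p.1 u + p.1 v + bil u v := fun p _ => p.2 u v
    rw [Finset.sum_congr rfl h1, Finset.sum_add_distrib, Finset.sum_add_distrib, Finset.sum_const, hcard,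
      nsmul_eq_mul]
    have h2 : ((Nat.card O : ℕ) : ZMod 2) = 1 := by
      obtain ⟨k, hk⟩ := hodd
      rw [hk]
      push_cast
      rw [show (2 : ZMod 2) = 0 from rfl, zero_mul, zero_add]
    rw [h2, one_mul]⟩
  refine ⟨f, fun g hg => ?_⟩
  apply Subtype.ext
  funext v
  rw [smul_val]
  show ∑ p ∈ s, p.1 (((g⁻¹ : G6) : M6).mulVec v) = ∑ p ∈ s, p.1 v
  refine Finset.sum_bij (fun p _ => g • p) (fun p hp => ?_) (fun a _ b _ h => MulAction.injective g h) (fun p hp => ?_)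
    (fun p _ => rfl)
  · rw [hs, Set.mem_toFinset] at hp ⊢
    exact hO g hg p hp
  · rw [hs, Set.mem_toFinset] at hp
    exact ⟨g⁻¹ • p, by rw [hs, Set.mem_toFinset]; exact hO _ (inv_mem hg) p hp, smul_inv_smul g p⟩

theorem card_G6 : Nat.card G6 = 1451520 := by
  rw [← card_psp62]
  exact Nat.card_congr (pspEquiv (m := 3) (by norm_num)).toEquiv

theorem smul_pow_eq {G X : Type*} [Group G] [MulAction G X] {g : G} {y : X} (h : g • y = y) (n : ℕ) : g ^ n • y = y := by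
  induction n with
  | zero => rw [pow_zero, one_smul]
  | succ n ih => rw [pow_succ, mul_smul, h, ih]

/-- elements of order seven -/
theorem seven {x : G6} (hx : orderOf x = 7) :
    PN Mi x ∧ ∃ q, Pl q ∧ x • q = q ∧ ∀ y, Pl y → x • y = y → y = q := by
  have hsyl : ∃ k : G6, k * (x : G6) * k⁻¹ ∈ zpowers x7 := by
    obtain ⟨m, _, hm⟩ := exists_conj_mem (p := 7) (k := 1) (M := (⊤ : Subgroup G6)) (by norm_num) (W := zpowers x7)
      (by rw [Nat.card_zpowers, order_x7]; norm_num) le_top (by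
        rw [Subgroup.card_top, card_G6]; norm_num) (t := (x : G6)) (mem_top _) hx
    exact ⟨m, hm⟩
  obtain ⟨k, hk⟩ := hsyl
  have hz1 : zpowers (k * (x : G6) * k⁻¹) = zpowers x7 := by
    refine Subgroup.eq_of_le_of_card_ge (zpowers_le.2 hk) ?_
    rw [Nat.card_zpowers, Nat.card_zpowers, orderOf_conj, hx, order_x7]
  have hx7m : x7 ∈ zpowers (k * (x : G6) * k⁻¹) := by rw [hz1]; exact mem_zpowers _
  have hfo : IsOfFinOrder (k * (x : G6) * k⁻¹) := by
    rw [← orderOf_pos_iff, orderOf_conj, hx]; norm_num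
  have hfo7 : IsOfFinOrder x7 := by
    rw [← orderOf_pos_iff, order_x7]; norm_num
  obtain ⟨n, hn⟩ := hfo.mem_powers_iff_mem_zpowers.2 hx7m
  have hn' : (k * (x : G6) * k⁻¹) ^ n = x7 := hn
  obtain ⟨m, hm⟩ := hfo7.mem_powers_iff_mem_zpowers.2 hk
  have hm' : x7 ^ m = k * (x : G6) * k⁻¹ := hm
  obtain ⟨h1, q, h2, h3, h4⟩ := p7
  -- fixed points of `x`
  have key : ∀ y : Fm, x • y = y → x7 • k • y = k • y := by
    intro y hy
    rw [← hn']
    apply smul_pow_eq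
    rw [conj_smul, hy]
  refine ⟨fun y hy h => h1 (k • y) (mi_smul k y hy) (key y h), k⁻¹ • q, pl_smul _ _ h2, ?_, fun y hy h => ?_⟩
  · have h5 : (k * (x : G6) * k⁻¹) • q = q := by
      rw [← hm']
      exact smul_pow_eq h3 m
    rw [conj_smul'] at h5
    conv_rhs => rw [← h5]
    rw [inv_smul_smul]
  · rw [← h4 (k • y) (pl_smul k y hy) (key y h), inv_smul_smul]

private noncomputable def _root_.Cfsg.Agent.KO7cf8507.k33.{ku0, ku1} : ((x0 : Sort (ku0+1)) → ((x1 : Sort (ku1+1)) → ((x0 → x1) → ((@List.{ku0} @x0) → @List.{ku1} @x1)))) := @(fun (x0 : Sort (ku0+1)) (x1 : Sort (ku1+1)) (x2 : (x0 → x1)) (x3 : @List.{ku0} @x0) => @List.rec.{(ku1+1), ku0} @x0 @(fun (x4 : @List.{ku0} @x0) => @List.{ku1} @x1) (@List.nil.{ku1} @x1) @(fun (x4 : x0) (x5 : @List.{ku0} @x0) (x6 : @List.{ku1} @x1) => @List.cons.{ku1} @x1 (@x2 @x4) @x6) @x3)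
private theorem _root_.Cfsg.Agent.KO7cf8507.e33.{ku0, ku1} : @List.map.{ku0, ku1} = @_root_.Cfsg.Agent.KO7cf8507.k33.{ku0, ku1} := by delta _root_.Cfsg.Agent.KO7cf8507.k33; funext a0 a1 a2 a3; refine (_root_.Cfsg.Agent.KO7cf8507.e4 (fun a3 => @List.map.{ku0, ku1} a0 a1 a2 a3) ?_ (fun c0 c1 => ?_) a3 :) <;> (rfl')
private noncomputable def _root_.Cfsg.Agent.KO7cf8507.k37.{ku0} : ((x0 : Sort (ku0+1)) → ((@List.{ku0} @x0) → ((@List.{ku0} @x0) → @List.{ku0} @x0))) := @(fun (x0 : Sort (ku0+1)) (x1 : @List.{ku0} @x0) (x2 : @List.{ku0} @x0) => @List.rec.{(ku0+1), ku0} @x0 @(fun (x3 : @List.{ku0} @x0) => ((@List.{ku0} @x0) → @List.{ku0} @x0)) @(fun (x3 : @List.{ku0} @x0) => x3) @(fun (x3 : x0) (x4 : @List.{ku0} @x0) (x5 : ((@List.{ku0} @x0) → @List.{ku0} @x0)) (x6 : @List.{ku0} @x0) => @List.cons.{ku0} @x0 @x3 (@x5 @x6)) @x1 @x2)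
private theorem _root_.Cfsg.Agent.KO7cf8507.e37.{ku0} : @List.append.{ku0} = @_root_.Cfsg.Agent.KO7cf8507.k37.{ku0} := by delta _root_.Cfsg.Agent.KO7cf8507.k37; funext a0 a1 a2; refine (congrFun (_root_.Cfsg.Agent.KO7cf8507.e4 (fun a1 a2 => @List.append.{ku0} a0 a1 a2) ?_ (fun c0 c1 => ?_) a1) a2 :) <;> (rfl')
private noncomputable def _root_.Cfsg.Agent.KO7cf8507.k67.{ku0} : ((x0 : Sort (ku0+1)) → ((@List.{ku0} @x0) → ((x0 → @Bool) → @Bool))) := @(fun (x0 : Sort (ku0+1)) (x1 : @List.{ku0} @x0) (x2 : (x0 → @Bool)) => @List.rec.{(ku0+1), ku0} @x0 @(fun (x3 : @List.{ku0} @x0) => ((x0 → @Bool) → @Bool)) @(fun (x3 : (x0 → @Bool)) => @Bool.true) @(fun (x3 : x0) (x4 : @List.{ku0} @x0) (x5 : ((x0 → @Bool) → @Bool)) (x6 : (x0 → @Bool)) => @Bool.rec.{1} @(fun (x7 : @Bool) => @Bool) @Bool.false (@x5 @x6) (@x6 @x3)) @x1 @x2)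
private theorem _root_.Cfsg.Agent.KO7cf8507.e67.{ku0} : @List.all.{ku0} = @_root_.Cfsg.Agent.KO7cf8507.k67.{ku0} := by delta _root_.Cfsg.Agent.KO7cf8507.k67; funext a0 a1 a2; refine (congrFun (_root_.Cfsg.Agent.KO7cf8507.e4 (fun a1 a2 => @List.all.{ku0} a0 a1 a2) ?_ (fun c0 c1 => ?_) a1) a2 :) <;> (rfl')
private noncomputable def _root_.Cfsg.Agent.KO7cf8507.k68.{ku0} : ((x0 : Sort (ku0+1)) → ((@List.{ku0} (@List.{ku0} @x0)) → @List.{ku0} @x0)) := @(fun (x0 : Sort (ku0+1)) (x1 : @List.{ku0} (@List.{ku0} @x0)) => @List.rec.{(ku0+1), ku0} (@List.{ku0} @x0) @(fun (x2 : @List.{ku0} (@List.{ku0} @x0)) => @List.{ku0} @x0) (@List.nil.{ku0} @x0) @(fun (x2 : @List.{ku0} @x0) (x3 : @List.{ku0} (@List.{ku0} @x0)) (x4 : @List.{ku0} @x0) => @Cfsg.Agent.KO7cf8507.k37.{ku0} @x0 @x2 @x4) @x1)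
private theorem _root_.Cfsg.Agent.KO7cf8507.e68.{ku0} : @List.flatten.{ku0} = @_root_.Cfsg.Agent.KO7cf8507.k68.{ku0} := by delta _root_.Cfsg.Agent.KO7cf8507.k68; rewrite [← Cfsg.Agent.KO7cf8507.e37.{ku0}]; funext a0 a1; refine (_root_.Cfsg.Agent.KO7cf8507.e4 (fun a1 => @List.flatten.{ku0} a0 a1) ?_ (fun c0 c1 => ?_) a1 :) <;> (rfl')
private noncomputable def _root_.Cfsg.Agent.KO7cf8507.k70.{ku0} : ((x0 : Sort (ku0+1)) → ((x0 → @Bool) → ((@List.{ku0} @x0) → @List.{ku0} @x0))) := @(fun (x0 : Sort (ku0+1)) (x1 : (x0 → @Bool)) (x2 : @List.{ku0} @x0) => @List.rec.{(ku0+1), ku0} @x0 @(fun (x3 : @List.{ku0} @x0) => @List.{ku0} @x0) (@List.nil.{ku0} @x0) @(fun (x3 : x0) (x4 : @List.{ku0} @x0) (x5 : @List.{ku0} @x0) => @Bool.rec.{(ku0+1)} @(fun (x6 : @Bool) => @List.{ku0} @x0) @x5 (@List.cons.{ku0} @x0 @x3 @x5) (@x1 @x3)) @x2)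
private theorem _root_.Cfsg.Agent.KO7cf8507.e70.{ku0} : @List.filter.{ku0} = @_root_.Cfsg.Agent.KO7cf8507.k70.{ku0} := by delta _root_.Cfsg.Agent.KO7cf8507.k70; funext a0 a1 a2; refine (_root_.Cfsg.Agent.KO7cf8507.e4 (fun a2 => @List.filter.{ku0} a0 a1 a2) ?_ (fun c0 c1 => ?_) a2 :) <;> (rfl')
private noncomputable def _root_.Cfsg.Agent.KO7cf8507.k72 : (@Nat → ((@List.{0} @Nat) → @List.{0} @Nat)) := @(fun (x0 : @Nat) (x1 : @List.{0} @Nat) => @Nat.rec.{1} @(fun (x2 : @Nat) => ((@List.{0} @Nat) → @List.{0} @Nat)) @(fun (x2 : @List.{0} @Nat) => x2) @(fun (x2 : @Nat) (x3 : ((@List.{0} @Nat) → @List.{0} @Nat)) (x4 : @List.{0} @Nat) => @x3 (@List.cons.{0} @Nat @x2 @x4)) @x0 @x1)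
private theorem _root_.Cfsg.Agent.KO7cf8507.e72 : @List.range.loop = @_root_.Cfsg.Agent.KO7cf8507.k72 := by delta _root_.Cfsg.Agent.KO7cf8507.k72; funext a0 a1; refine (congrFun (_root_.Cfsg.Agent.KO7cf8507.e31 (fun a0 a1 => @List.range.loop a0 a1) ?_ (fun c0 => ?_) a0) a1 :) <;> (rfl')
private noncomputable def _root_.Cfsg.Agent.KO7cf8507.k86.{ku0} : ((x0 : Sort (ku0+1)) → ((@DecidableEq.{(ku0+1)} @x0) → ((x2 : @List.{ku0} @x0) → ((x3 : @List.{ku0} @x0) → @Decidable (@Eq.{(ku0+1)} (@List.{ku0} @x0) @x2 @x3))))) := @(fun (x0 : Sort (ku0+1)) (x1 : @DecidableEq.{(ku0+1)} @x0) (x2 : @List.{ku0} @x0) (x3 : @List.{ku0} @x0) => @List.rec.{(ku0+1), ku0} @x0 @(fun (x4 : @List.{ku0} @x0) => ((x5 : @List.{ku0} @x0) → @Decidable (@Eq.{(ku0+1)} (@List.{ku0} @x0) @x4 @x5))) @(fun (x4 : @List.{ku0} @x0) => @List.rec.{1, ku0} @x0 @(fun (x5 : @List.{ku0} @x0) => @Decidable (@Eq.{(ku0+1)} (@List.{ku0} @x0) (@List.nil.{ku0} @x0)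 @x5)) (@Decidable.isTrue (@Eq.{(ku0+1)} (@List.{ku0} @x0) (@List.nil.{ku0} @x0) (@List.nil.{ku0} @x0)) (@List.hasDecEq._proof_1.{ku0} @x0)) @(fun (x5 : x0) (x6 : @List.{ku0} @x0) (x7 : @Decidable (@Eq.{(ku0+1)} (@List.{ku0} @x0) (@List.nil.{ku0} @x0) @x6)) => @Decidable.isFalse (@Eq.{(ku0+1)} (@List.{ku0} @x0) (@List.nil.{ku0} @x0) (@List.cons.{ku0} @x0 @x5 @x6)) (@List.hasDecEq._proof_3.{ku0} @x0 @x5 @x6)) @x4) @(fun (x4 : x0) (x5 : @List.{ku0} @x0) (x6 : ((x6 : @List.{ku0} @x0) → @Decidable (@Eq.{(ku0+1)} (@List.{ku0} @x0) @x5 @x6))) (x7 : @List.{ku0} @x0) => @List.rec.{1, ku0} @x0 @(fun (x8 : @List.{ku0} @x0) => @Decidable (@Eq.{(ku0+1)} (@List.{ku0} @x0) (@List.cons.{ku0} @x0 @x4 @x5) @x8)) (@Decidable.isFalse (@Eq.{(ku0+1)} (@List.{ku0} @x0) (@List.cons.{ku0} @x0 @x4 @x5) (@List.nil.{ku0} @x0)) (@List.hasDecEq._proof_2.{ku0} @x0 @x4 @x5)) @(fun (x8 : x0) (x9 : @List.{ku0} @x0) (x10 : @Decidable (@Eq.{(ku0+1)}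 (@List.{ku0} @x0) (@List.cons.{ku0} @x0 @x4 @x5) @x9)) => @Decidable.rec.{1} (@Eq.{(ku0+1)} @x0 @x4 @x8) @(fun (x11 : @Decidable (@Eq.{(ku0+1)} @x0 @x4 @x8)) => @Decidable (@Eq.{(ku0+1)} (@List.{ku0} @x0) (@List.cons.{ku0} @x0 @x4 @x5) (@List.cons.{ku0} @x0 @x8 @x9))) @(fun (x11 : @Not (@Eq.{(ku0+1)} @x0 @x4 @x8)) => @Decidable.isFalse (@Eq.{(ku0+1)} (@List.{ku0} @x0) (@List.cons.{ku0} @x0 @x4 @x5) (@List.cons.{ku0} @x0 @x8 @x9)) (@List.hasDecEq._proof_6.{ku0} @x0 @x4 @x5 @x8 @x9 @x11)) @(fun (x11 : @Eq.{(ku0+1)} @x0 @x4 @x8) => @Decidable.rec.{1} (@Eq.{(ku0+1)} (@List.{ku0} @x0) @x5 @x9) @(fun (x12 : @Decidable (@Eq.{(ku0+1)} (@List.{ku0} @x0) @x5 @x9)) => @Decidable (@Eq.{(ku0+1)} (@List.{ku0} @x0) (@List.cons.{ku0} @x0 @x4 @x5) (@List.cons.{ku0} @x0 @x8 @x9))) @(fun (x12 : @Not (@Eq.{(ku0+1)} (@List.{ku0} @x0) @x5 @x9)) => @Decidable.isFalse (@Eq.{(ku0+1)} (@List.{ku0} @x0) (@List.cons.{ku0} @x0 @x4 @x5) (@List.cons.{ku0}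 @x0 @x8 @x9)) (@List.hasDecEq._proof_5.{ku0} @x0 @x4 @x5 @x8 @x9 @x12)) @(fun (x12 : @Eq.{(ku0+1)} (@List.{ku0} @x0) @x5 @x9) => @Decidable.isTrue (@Eq.{(ku0+1)} (@List.{ku0} @x0) (@List.cons.{ku0} @x0 @x4 @x5) (@List.cons.{ku0} @x0 @x8 @x9)) (@List.hasDecEq._proof_4.{ku0} @x0 @x4 @x5 @x8 @x9 @x11 @x12)) (@x6 @x9)) (@x1 @x4 @x8)) @x7) @x2 @x3)
private theorem _root_.Cfsg.Agent.KO7cf8507.e86.{ku0} : @List.hasDecEq.{ku0} = @_root_.Cfsg.Agent.KO7cf8507.k86.{ku0} := by delta _root_.Cfsg.Agent.KO7cf8507.k86; funext a0 a1 a2 a3; refine (congrFun (_root_.Cfsg.Agent.KO7cf8507.e4 (fun a2 a3 => @List.hasDecEq.{ku0} a0 a1 a2 a3) ?_ (fun c0 c1 => ?_) a2) a3 :) <;> [(funext b0; (cases b0 with | @nil  => (rfl') | @cons b0_0 b0_1 => (rfl'))); (funext b0; (cases b0 with | @nil  => (rfl') | @cons b0_0 b0_1 => (rfl')))]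
private noncomputable def _root_.Cfsg.Agent.KO7cf8507.k87.{ku0} : ((x0 : Sort (ku0+1)) → ((@DecidableEq.{(ku0+1)} @x0) → @DecidableEq.{(ku0+1)} (@List.{ku0} @x0))) := @(fun (x0 : Sort (ku0+1)) (x1 : @DecidableEq.{(ku0+1)} @x0) (x2 : @List.{ku0} @x0) (x3 : @List.{ku0} @x0) => @List.rec.{1, ku0} @x0 @(fun (x4 : @List.{ku0} @x0) => @Decidable (@Eq.{(ku0+1)} (@List.{ku0} @x0) @x4 @x3)) (@List.rec.{1, ku0} @x0 @(fun (x4 : @List.{ku0} @x0) => @Decidable (@Eq.{(ku0+1)} (@List.{ku0} @x0) (@List.nil.{ku0} @x0) @x4)) (@Decidable.isTrue (@Eq.{(ku0+1)} (@List.{ku0} @x0) (@List.nil.{ku0} @x0) (@List.nil.{ku0} @x0)) (@List.hasDecEq._proof_1.{ku0} @x0)) @(fun (x4 : x0) (x5 : @List.{ku0} @x0) (x6 : @Decidable (@Eq.{(ku0+1)} (@List.{ku0} @x0) (@List.nil.{ku0} @x0) @x5)) => @Decidable.isFalse (@Eq.{(ku0+1)} (@List.{ku0} @x0) (@List.nil.{ku0} @x0) (@List.cons.{ku0} @x0 @x4 @x5)) (@List.hasDecEq._proof_3.{ku0} @x0 @x4 @x5)) @x3) @(fun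 (x4 : x0) (x5 : @List.{ku0} @x0) (x6 : @Decidable (@Eq.{(ku0+1)} (@List.{ku0} @x0) @x5 @x3)) => @List.rec.{1, ku0} @x0 @(fun (x7 : @List.{ku0} @x0) => @Decidable (@Eq.{(ku0+1)} (@List.{ku0} @x0) (@List.cons.{ku0} @x0 @x4 @x5) @x7)) (@Decidable.isFalse (@Eq.{(ku0+1)} (@List.{ku0} @x0) (@List.cons.{ku0} @x0 @x4 @x5) (@List.nil.{ku0} @x0)) (@List.hasDecEq._proof_2.{ku0} @x0 @x4 @x5)) @(fun (x7 : x0) (x8 : @List.{ku0} @x0) (x9 : @Decidable (@Eq.{(ku0+1)} (@List.{ku0} @x0) (@List.cons.{ku0} @x0 @x4 @x5) @x8)) => @Decidable.rec.{1} (@Eq.{(ku0+1)} @x0 @x4 @x7) @(fun (x10 : @Decidable (@Eq.{(ku0+1)} @x0 @x4 @x7)) => @Decidable (@Eq.{(ku0+1)} (@List.{ku0} @x0) (@List.cons.{ku0} @x0 @x4 @x5) (@List.cons.{ku0} @x0 @x7 @x8))) @(fun (x10 : @Not (@Eq.{(ku0+1)} @x0 @x4 @x7)) => @Decidable.isFalse (@Eq.{(ku0+1)} (@List.{ku0} @x0) (@List.cons.{ku0} @x0 @x4 @x5) (@List.cons.{ku0} @x0 @x7 @x8)) (@List.hasDecEq._proof_6.{ku0} @x0 @x4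 @x5 @x7 @x8 @x10)) @(fun (x10 : @Eq.{(ku0+1)} @x0 @x4 @x7) => @Decidable.rec.{1} (@Eq.{(ku0+1)} (@List.{ku0} @x0) @x5 @x8) @(fun (x11 : @Decidable (@Eq.{(ku0+1)} (@List.{ku0} @x0) @x5 @x8)) => @Decidable (@Eq.{(ku0+1)} (@List.{ku0} @x0) (@List.cons.{ku0} @x0 @x4 @x5) (@List.cons.{ku0} @x0 @x7 @x8))) @(fun (x11 : @Not (@Eq.{(ku0+1)} (@List.{ku0} @x0) @x5 @x8)) => @Decidable.isFalse (@Eq.{(ku0+1)} (@List.{ku0} @x0) (@List.cons.{ku0} @x0 @x4 @x5) (@List.cons.{ku0} @x0 @x7 @x8)) (@List.hasDecEq._proof_5.{ku0} @x0 @x4 @x5 @x7 @x8 @x11)) @(fun (x11 : @Eq.{(ku0+1)} (@List.{ku0} @x0) @x5 @x8) => @Decidable.isTrue (@Eq.{(ku0+1)} (@List.{ku0} @x0) (@List.cons.{ku0} @x0 @x4 @x5) (@List.cons.{ku0} @x0 @x7 @x8)) (@List.hasDecEq._proof_4.{ku0} @x0 @x4 @x5 @x7 @x8 @x10 @x11)) (@Cfsg.Agent.KO7cf8507.k86.{ku0} @x0 @x1 @x5 @x8)) (@x1 @x4 @x7)) @x3) @x2)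
private theorem _root_.Cfsg.Agent.KO7cf8507.e87.{ku0} : @instDecidableEqList.{ku0} = @_root_.Cfsg.Agent.KO7cf8507.k87.{ku0} := by delta _root_.Cfsg.Agent.KO7cf8507.k87; rewrite [← Cfsg.Agent.KO7cf8507.e86.{ku0}]; rfl'
private noncomputable def _root_.Cfsg.Agent.KO7cf8507.k93 : ((@List.{0} (@Prod.{0, 0} @Nat (@Prod.{0, 0} @Nat @Nat))) → ((@List.{0} @Nat) → ((@List.{0} @Nat) → (@Nat → @Bool)))) := @Cfsg.Agent.H970.StabNum.feasAll
private theorem _root_.Cfsg.Agent.KO7cf8507.e93 : @Cfsg.Agent.H970.StabNum.feasAll = @_root_.Cfsg.Agent.KO7cf8507.k93 := rfl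
private noncomputable def _root_.Cfsg.Agent.KO7cf8507.k94 : (by first | exact type_of% @Cfsg.Agent.H970.StabNum.divs | exact Unit : Sort _) := by first | (refine @Subtype.val _ (fun g => @Cfsg.Agent.H970.StabNum.divs = @g) (@Subtype.mk _ _ (@(fun (x0 : @List.{0} (@Prod.{0, 0} @Nat @Nat)) => @List.rec.{1, 0} (@Prod.{0, 0} @Nat @Nat) @(fun (x1 : @List.{0} (@Prod.{0, 0} @Nat @Nat)) => @List.{0} @Nat) (@List.cons.{0} @Nat (nat_lit 1) (@List.nil.{0} @Nat)) @(fun (x1 : @Prod.{0, 0} @Nat @Nat) (x2 : @List.{0} (@Prod.{0, 0} @Nat @Nat)) (x3 : @List.{0} @Nat) => @Cfsg.Agent.KO7cf8507.k68.{0} @Nat (@Cfsg.Agent.KO7cf8507.k33.{0, 0} @Nat (@List.{0} @Nat) @(fun (x4 : @Nat) => @Cfsg.Agent.KO7cf8507.k33.{0, 0} @Nat @Nat @(fun (x5 : @Nat) => @Nat.mul (@Nat.pow (@Prod.fst.{0, 0} @Nat @Nat @x1) @x4) @x5) @x3) (@Cfsg.Agent.KO7cf8507.k72 (@Nat.add (@Prod.snd.{0, 0} @Nat @Nat @x1) (nat_lit 1)) (@List.nil.{0} @Nat)))) @x0)) ?_); rewrite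 [← Cfsg.Agent.KO7cf8507.e72, ← Cfsg.Agent.KO7cf8507.e33.{0, 0}, ← Cfsg.Agent.KO7cf8507.e68.{0}]; funext a0; refine (_root_.Cfsg.Agent.KO7cf8507.e4 (fun a0 => @Cfsg.Agent.H970.StabNum.divs a0) ?_ (fun c0 c1 => ?_) a0 :) <;> (rfl')) | exact @Cfsg.Agent.H970.StabNum.divs | exact ()
private theorem _root_.Cfsg.Agent.KO7cf8507.e94 : (by first | exact @Cfsg.Agent.H970.StabNum.divs = @_root_.Cfsg.Agent.KO7cf8507.k94 | exact True : Prop) := by first | (delta _root_.Cfsg.Agent.KO7cf8507.k94; exact @Subtype.property _ (fun g => @Cfsg.Agent.H970.StabNum.divs = @g) _) | rfl | trivial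
private noncomputable def _root_.Cfsg.Agent.KO7cf8507.k95 : (by first | exact type_of% @Cfsg.Agent.H251.Small.surv | exact Unit : Sort _) := by first | (refine @Subtype.val _ (fun g => @Cfsg.Agent.H251.Small.surv = @g) (@Subtype.mk _ _ (@(fun (x0 : @List.{0} (@Prod.{0, 0} @Nat (@Prod.{0, 0} @Nat @Nat))) (x1 : @List.{0} @Nat) (x2 : @List.{0} @Nat) (x3 : @List.{0} (@Prod.{0, 0} @Nat @Nat)) (x4 : @List.{0} @Nat) => @Cfsg.Agent.KO7cf8507.k70.{0} @Nat @(fun (x5 : @Nat) => @Bool.rec.{1} @(fun (x6 : @Bool) => @Bool) @Bool.false (@Cfsg.Agent.KO7cf8507.k93 @x0 @x1 @x2 @x5) (@Cfsg.Agent.KO7cf8507.k67.{0} @Nat @x4 @(fun (x6 : @Nat) => @Nat.beq (@Nat.mod @x5 @x6) (nat_lit 0)))) (@Cfsg.Agent.KO7cf8507.k94 @x3))) ?_); rewrite [← Cfsg.Agent.KO7cf8507.e94, ← Cfsg.Agent.KO7cf8507.e67.{0}, ← Cfsg.Agent.KO7cf8507.e93, ← Cfsg.Agent.KO7cf8507.e70.{0}]; (try delta Cfsg.Agent.H251.Small.surv); (try generalize @Cfsg.Agent.H970.StabNum.feasAll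 = g0); (try generalize @Cfsg.Agent.H970.StabNum.divs = g1); rfl') | exact @Cfsg.Agent.H251.Small.surv | exact ()
private theorem _root_.Cfsg.Agent.KO7cf8507.e95 : (by first | exact @Cfsg.Agent.H251.Small.surv = @_root_.Cfsg.Agent.KO7cf8507.k95 | exact True : Prop) := by first | (delta _root_.Cfsg.Agent.KO7cf8507.k95; exact @Subtype.property _ (fun g => @Cfsg.Agent.H251.Small.surv = @g) _) | rfl | trivial

set_option maxRecDepth 100000 in
/-- the orders divisible by 35 -/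
theorem ord35 (OT : OrdDiv.OrderTable.{0})
    (hS : ∀ (X : Type) [Group X] [Finite X] [IsSimpleGroup X], Cfsg.IsKnownSimple' X)
    (M : Subgroup (PSp 3 (ZMod 2))) (h5 : 5 ∣ Nat.card M) (h7 : 7 ∣ Nat.card M) :
    Nat.card M ∈ [2520, 5040, 20160, 181440, 40320, 161280, 1451520] := by
  classical
  have hF : Fintype.card (ZMod 2) = 2 := ZMod.card 2
  have hsimp : IsSimpleGroup (PSp 3 (ZMod 2)) := S0270.result 3 (by norm_num) (by omega)
  have D : Data (PSp 3 (ZMod 2)) [(7, 1, 6)] [2, 3, 5, 7] tblSix := by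
    refine mk_data OT hS (l := [(2, 9), (3, 4), (5, 1), (7, 1)]) card_psp62 (by decide +kernel) ?_
    intro x hx
    rw [List.mem_singleton] at hx
    subst hx
    exact entry_of_ex (by norm_num) card_psp62 (by norm_num) (by norm_num) (by decide +kernel)
      (H732.SelfCent.psp_six_two hF)
  have h1 := H251.Small.mem_surv D (l := [(2, 9), (3, 4), (5, 1), (7, 1)]) (prs := [5, 7])
    (by rw [card_psp62]; decide +kernel) M (by
      intro r hr
      simp only [List.mem_cons, List.not_mem_nil, or_false] at hr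
      rcases hr with rfl | rfl
      · exact h5
      · exact h7)
  have h2 : H251.Small.surv [(7, 1, 6)] [2, 3, 5, 7] tblSix [(2, 9), (3, 4), (5, 1), (7, 1)] [5, 7] =
      [2520, 5040, 20160, 181440, 40320, 161280, 1451520] := by (first | (refine of_decide_eq_true ?_; rewrite [Cfsg.Agent.KO7cf8507.e0, Cfsg.Agent.KO7cf8507.e87.{0}, Cfsg.Agent.KO7cf8507.e56, Cfsg.Agent.KO7cf8507.e95]; decide +kernel) | decide +kernel)
  rwa [h2] at h1

theorem ord35' (OT : OrdDiv.OrderTable.{0})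
    (hS : ∀ (X : Type) [Group X] [Finite X] [IsSimpleGroup X], Cfsg.IsKnownSimple' X)
    (M : Subgroup G6) (h5 : 5 ∣ Nat.card M) (h7 : 7 ∣ Nat.card M) :
    Nat.card M ∈ [2520, 5040, 20160, 181440, 40320, 161280, 1451520] := by
  have e := pspEquiv (m := 3) (by norm_num)
  have hc : Nat.card (M.map e.toMonoidHom) = Nat.card M := (Nat.card_congr (e.subgroupMap M).toEquiv).symm
  have h := ord35 OT hS (M.map e.toMonoidHom) (by rwa [hc]) (by rwa [hc])
  rwa [hc] at h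

theorem threeT_of_ne {T : Type*} [Group T] {M : Subgroup T} {x y z : T} (hx : H547.Der.Miss M x) (hy : H547.Der.Miss M y)
    (hz : H547.Der.Miss M z) (hxy : orderOf x ≠ orderOf y) (hxz : orderOf x ≠ orderOf z) (hyz : orderOf y ≠ orderOf z) :
    ThreeT T M :=
  ⟨x, y, z, hx, hy, hz, fun g hg => hxy (by rw [← hg, orderOf_conj]), fun g hg => hxz (by rw [← hg, orderOf_conj]),
    fun g hg => hyz (by rw [← hg, orderOf_conj])⟩

/-- the conclusion for a conjugate -/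
theorem threeT_conj {T : Type*} [Group T] {M : Subgroup T} (g : T)
    (h : ThreeT T (M.comap (MulAut.conj g).toMonoidHom)) : ThreeT T M := ThreeT.congr (MulAut.conj g) h

/-- `35 ∣ |M|` : no element of order 3 without fixed plus forms -/
theorem miss35 (OT : OrdDiv.OrderTable.{0})
    (hS : ∀ (X : Type) [Group X] [Finite X] [IsSimpleGroup X], Cfsg.IsKnownSimple' X)
    (M : Subgroup G6) (hM : M ≠ ⊤) (h5 : 5 ∣ Nat.card M) (h7 : 7 ∣ Nat.card M) : H547.Der.Miss M (w9 ^ 3) := by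
  intro g hg
  have h27 := order35 OT hS M hM h5 h7
  have hmem := ord35' OT hS M h5 h7
  have hfp : Fact (Nat.Prime 7) := ⟨by norm_num⟩
  obtain ⟨x, hx⟩ := exists_prime_orderOf_dvd_card' 7 h7
  have hxo : orderOf (x : G6) = 7 := by rw [Subgroup.orderOf_coe, hx]
  obtain ⟨hx1, q, hq, hxq, hx2⟩ := seven hxo
  have hc3 : PN Pl (g * w9 ^ 3 * g⁻¹) := pn3.conj pl_smul g
  have hc := lemC (M := M) pl_smul card_pl hq hxq hx2 hc3 x.2 hg hxo (by rw [orderOf_conj, order_c3])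
  rcases hc with hc | hc
  · obtain ⟨f, hf⟩ := exists_inv (M := M) (orbit M q) (fun g hg f hf => orbit_inv' hg f hf) (by rw [hc]; decide)
    rcases mi_or_pl f with h1 | h1
    · exact hx1 f h1 (hf x x.2)
    · exact hc3 f h1 (hf _ hg)
  · have hmul := card_orbit_mul (M := M) q
    rw [hc] at hmul
    -- the stabilizer as a subgroup of `G6`
    set K : Subgroup G6 := (stabilizer M q).map M.subtype with hK
    have hKc : Nat.card K = Nat.card (stabilizer M q) :=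
      (Nat.card_congr ((stabilizer M q).equivMapOfInjective M.subtype M.subtype_injective).toEquiv).symm
    rw [← hKc] at hmul
    have h5' : 5 ∣ Nat.card K := by
      rw [← hmul] at h5
      exact (Nat.Coprime.dvd_of_dvd_mul_left (by norm_num) h5)
    have h7' : 7 ∣ Nat.card K := by
      rw [← hmul] at h7
      exact (Nat.Coprime.dvd_of_dvd_mul_left (by norm_num) h7)
    have hmemK := ord35' OT hS K h5' h7'
    rw [← hmul] at hmem h27
    simp only [List.mem_cons, List.not_mem_nil, or_false] at hmem hmemK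
    rcases hmemK with h | h | h | h | h | h | h <;> rw [h] at hmem h27 <;>
      first | (norm_num at hmem; done) | norm_num at h27

/-- **`Sp₆(2)`: every proper subgroup misses three classes** -/
theorem threeT_six (OT : OrdDiv.OrderTable.{0})
    (hS : ∀ (X : Type) [Group X] [Finite X] [IsSimpleGroup X], Cfsg.IsKnownSimple' X)
    (M : Subgroup G6) (hM : M ≠ ⊤) : ThreeT G6 M := by
  have hw9pow : w9 ^ 9 = 1 := by rw [← order_w9, pow_orderOf_eq_one]
  by_cases h5 : 5 ∣ Nat.card M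
  swap
  · refine threeT_of_ne (x := z15) (y := z15 ^ 3) (z := t10) (Miss.of_not_dvd h5 ?_) (Miss.of_not_dvd h5 ?_)
      (Miss.of_not_dvd h5 ?_) ?_ ?_ ?_
    · rw [order_z15]; norm_num
    · rw [order_y5]
    · rw [order_t10]; norm_num
    · rw [order_z15, order_y5]; norm_num
    · rw [order_z15, order_t10]; norm_num
    · rw [order_y5, order_t10]; norm_num
  by_cases h7 : 7 ∣ Nat.card M
  · have hc := miss35 OT hS M hM h5 h7
    refine threeT_of_ne (x := w9 ^ 3) (y := w9) (z := w6) hc hc.of_pow ?_ ?_ ?_ ?_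
    · apply Miss.of_pow (n := 4)
      rwa [w6_pow4]
    · rw [order_c3, order_w9]; norm_num
    · rw [order_c3, order_w6]; norm_num
    · rw [order_w9, order_w6]; norm_num
  have hcd : Nat.card M ∣ 1451520 := by
    rw [← card_G6]
    exact Subgroup.card_subgroup_dvd_card M
  by_cases hz : H547.Der.Miss M z15
  · by_cases hw : H547.Der.Miss M w9
    · refine threeT_of_ne (x := z15) (y := w9) (z := x7) hz hw (Miss.of_not_dvd h7 (by rw [order_x7])) ?_ ?_ ?_
      · rw [order_z15, order_w9]; norm_num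
      · rw [order_z15, order_x7]; norm_num
      · rw [order_w9, order_x7]; norm_num
    · obtain ⟨g, hwM⟩ := exists_mem_comap hw
      refine threeT_conj g ?_
      have h7' : ¬ 7 ∣ Nat.card (M.comap (MulAut.conj g).toMonoidHom) := by rwa [card_comap_conj]
      have hz' : H547.Der.Miss (M.comap (MulAut.conj g).toMonoidHom) z15 := hz.conj g
      generalize M.comap (MulAut.conj g).toMonoidHom = K at hwM h7' hz'
      refine threeT_of_ne (x := z15) (y := t8) (z := x7) hz' ?_ (Miss.of_not_dvd h7' (by rw [order_x7])) ?_ ?_ ?_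
      · intro k hk
        apply h7'
        have h28 := lemB (M := K) mi_smul card_mi p9 (t := k * t8 * k⁻¹) (by
          rw [conj_pow]
          exact pn8.conj mi_smul k) hwM hk hw9pow (by
          rw [conj_pow, t8_pow8, mul_one, mul_inv_cancel])
        exact (by norm_num : 7 ∣ 28).trans h28
      · rw [order_z15, order_t8]; norm_num
      · rw [order_z15, order_x7]; norm_num
      · rw [order_t8, order_x7]; norm_num
  · obtain ⟨g, hzM⟩ := exists_mem_comap hz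
    refine threeT_conj g ?_
    have h7' : ¬ 7 ∣ Nat.card (M.comap (MulAut.conj g).toMonoidHom) := by rwa [card_comap_conj]
    have hcd' : Nat.card (M.comap (MulAut.conj g).toMonoidHom) ∣ 1451520 := by rwa [card_comap_conj]
    generalize M.comap (MulAut.conj g).toMonoidHom = K at hzM h7' hcd'
    refine threeT_of_ne (x := x7) (y := w9) (z := t12) (Miss.of_not_dvd h7' (by rw [order_x7])) ?_ ?_ ?_ ?_ ?_
    · intro g hg
      refine no_eighteen hzM (card_of_nine inst hzM hg ?_ ?_ h7')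
      · rw [← order_w9, ← orderOf_conj g w9, pow_orderOf_eq_one]
      · rw [conj_pow]
        exact Fpf.conj inst.zero fpf_c3 g
    · intro k hk
      rcases lemA (M := K) mi_smul card_mi (p12.conj mi_smul k) p15 hk hzM (by rw [orderOf_conj, order_t12]) order_z15
        with h | h | h
      · exact absurd (h.trans hcd') (by norm_num)
      · exact absurd (h.trans hcd') (by norm_num)
      · exact h7' ((by norm_num : 7 ∣ 28).trans h)
    · rw [order_x7, order_w9]; norm_num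
    · rw [order_x7, order_t12]; norm_num
    · rw [order_w9, order_t12]; norm_num

/-- if all automorphisms are inner -/
theorem three_of_threeT {T : Type*} [Group T] {M : Subgroup T} (hinn : ∀ φ : T ≃* T, ∃ g : T, φ = MulAut.conj g)
    (h : ThreeT T M) : Three T M := by
  obtain ⟨x, y, z, hx, hy, hz, h1, h2, h3⟩ := h
  refine ⟨x, y, z, fun φ => ?_, fun φ => ?_, fun φ => ?_, fun φ => ?_, fun φ => ?_, fun φ => ?_⟩
  · obtain ⟨g, rfl⟩ := hinn φ; exact hx g
  · obtain ⟨g, rfl⟩ := hinn φ; exact hy g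
  · obtain ⟨g, rfl⟩ := hinn φ; exact hz g
  · obtain ⟨g, rfl⟩ := hinn φ; exact h1 g
  · obtain ⟨g, rfl⟩ := hinn φ; exact h2 g
  · obtain ⟨g, rfl⟩ := hinn φ; exact h3 g

/-- **row `Sp₆(2)` for S3502** -/
theorem rowS_s62 (OT : OrdDiv.OrderTable.{0})
    (hS : ∀ (X : Type) [Group X] [Finite X] [IsSimpleGroup X], Cfsg.IsKnownSimple' X)
    (F : Type*) [Field F] [Fintype F] (hF : Fintype.card F = 2) : RowS (PSp 3 F) := by
  have e := pspEquiv (m := 3) (by norm_num)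
  refine RowS.congr (e.trans (LieClassical.FieldTransfer.pspCongr 3 (ZMod.ringEquivOfPrime F Nat.prime_two hF))) ?_
  refine RowS.of_three fun M hM => ?_
  refine three_of_threeT ?_ (threeT_six OT hS M hM.1)
  intro φ
  obtain ⟨x, hx⟩ := OddHalf.Table.OutSpSix.inner (m := 3) (F := ZMod 2) (by norm_num)
    (by rw [Nat.card_eq_fintype_card]; exact ZMod.card 2) ((e.symm.trans φ).trans e)
  refine ⟨e.symm x, ?_⟩
  ext1 y
  have h := DFunLike.congr_fun hx (e y)
  have h2 : e (φ y) = x * e y * x⁻¹ := by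
    have h3 : ((e.symm.trans φ).trans e) (e y) = e (φ y) := by
      rw [MulEquiv.trans_apply, MulEquiv.trans_apply, e.symm_apply_apply]
    rw [← h3, h]
    rfl
  apply e.injective
  rw [h2, MulAut.conj_apply, map_mul, map_mul, map_inv, e.apply_symm_apply]

end Cfsg.Agent.H916.Der.Six
end

private theorem dce_61cece42f6bc : _root_.True := by
  try have : _root_.True := by simp only [_root_.Cfsg.Agent.H410.Three.Psl2.tr.eq_1]
  try have : _root_.True := by simp only [_root_.Cfsg.Agent.H916.Der.Six.q0.eq_1]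
  exact _root_.True.intro
end

-- part: H372/DerU/Ntc3
section
prune_inst 0x4700067443b0002080000801040001c32920004b0000b000000a001420d81ac2000820620ba30150012880085403d004811000060420000000a00040001180180008080003000000042008e000000000000000000000000000000000000000004000000000
set_option linter.all false
open scoped Cfsg.Agent.FastGrp

/-!
# S3502, the row `PSU₃(q)`: `NTC` for `q ≥ 7`, `q ≠ 8` (helper372)
-/

set_option autoImplicit false
set_option linter.unusedSectionVars false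
set_option linter.unusedVariables false

namespace Cfsg.Agent.H372.DerU

open Cfsg Matrix
open Cfsg.Agent.H439.Der Cfsg.Agent.H403 Cfsg.Agent.H403.NumTop
open Cfsg.Agent.LieClassical.HermBasic Cfsg.Agent.LieClassical.HermSiegel Cfsg.Agent.LieClassical.SUBasic
open Cfsg.Agent.ClassicalGeometry.PSUAutBasic
open Cfsg.Agent.H948.UBase Cfsg.Agent.H948.UProd Cfsg.Agent.H948.UTorus Cfsg.Agent.H948.UMain
open Cfsg.Agent.H410.DerPsu (exists_w exists_z exists_block)
open Cfsg.Agent.Phan (emb emb_injective)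

section aut

variable {F : Type} [Field F] [Fintype F] {n q : ℕ}

/-- a quadratic equation is preserved by automorphisms -/
theorem quad_of_aut (hF : Fintype.card F = q ^ 2) (hn : 3 ≤ n) (h32 : ¬ (n = 3 ∧ q = 2)) (φ : PSU n F q ≃* PSU n F q)
    {X Y : SU n F q} (h : φ (pr n F q X) = pr n F q Y) {α β : F}
    (hX : (mat X - α • (1 : Matrix (Fin n) (Fin n) F)) * (mat X - β • (1 : Matrix (Fin n) (Fin n) F)) = 0) :
    ∃ α' β' : F, (mat Y - α' • (1 : Matrix (Fin n) (Fin n) F)) * (mat Y - β' • (1 : Matrix (Fin n) (Fin n) F)) = 0 := by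
  obtain ⟨A, B, ρ, c, hAB, -, -, hM⟩ := Cfsg.Agent.H251.Small.aut_mat hF hn h32 φ h
  have hBA : B * A = 1 := _root_.mul_eq_one_comm.1 hAB
  let R : Matrix (Fin n) (Fin n) F →+* Matrix (Fin n) (Fin n) F := (ρ : F →+* F).mapMatrix
  have hR : (mat X).map ρ = R (mat X) := rfl
  have hRs : ∀ a : F, R (a • (1 : Matrix (Fin n) (Fin n) F)) = ρ a • (1 : Matrix (Fin n) (Fin n) F) := by
    intro a
    ext i j
    show ρ ((a • (1 : Matrix (Fin n) (Fin n) F)) i j) = _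
    rw [Matrix.smul_apply, Matrix.smul_apply, Matrix.one_apply]
    split_ifs <;> simp
  have h1 : ∀ a : F, mat Y - (c * ρ a) • (1 : Matrix (Fin n) (Fin n) F) =
      c • (A * R (mat X - a • (1 : Matrix (Fin n) (Fin n) F)) * B) := by
    intro a
    rw [map_sub, hRs, Matrix.mul_sub, Matrix.sub_mul, smul_sub, hM, hR, Matrix.mul_smul, Matrix.mul_one,
      Matrix.smul_mul, hAB, smul_smul]
  refine ⟨c * ρ α, c * ρ β, ?_⟩
  rw [h1, h1, Matrix.smul_mul, Matrix.mul_smul]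
  have h2 : A * R (mat X - α • (1 : Matrix (Fin n) (Fin n) F)) * B *
      (A * R (mat X - β • (1 : Matrix (Fin n) (Fin n) F)) * B) = 0 := by
    calc _ = A * (R (mat X - α • (1 : Matrix (Fin n) (Fin n) F)) * (B * A) *
          R (mat X - β • (1 : Matrix (Fin n) (Fin n) F))) * B := by simp only [Matrix.mul_assoc]
      _ = 0 := by rw [hBA, Matrix.mul_one, ← map_mul, hX, map_zero, Matrix.mul_zero, Matrix.zero_mul]
  rw [h2, smul_zero, smul_zero]

end aut

variable {F : Type} [Field F] [Fintype F] {q : ℕ}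

/-- the diagonal matrices of `SU₃` -/
theorem exists_delta (hF : Fintype.card F = q ^ 2) {a b : F} (ha : a ^ (q + 1) = 1) (hb : b ^ (q + 1) = 1) :
    ∃ D : SU 3 F q, mat D = Matrix.diagonal ![a, b, (a * b)⁻¹] := by
  have ha0 : a ≠ 0 := by
    rintro rfl
    rw [zero_pow (Nat.succ_ne_zero q)] at ha
    exact zero_ne_one ha
  have hb0 : b ≠ 0 := by
    rintro rfl
    rw [zero_pow (Nat.succ_ne_zero q)] at hb
    exact zero_ne_one hb
  refine ⟨suDiag q ![a, b, (a * b)⁻¹] ?_ ?_, rfl⟩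
  · rw [Fin.prod_univ_three]
    simp only [Matrix.cons_val_zero, Matrix.cons_val_one, Matrix.cons_val]
    exact mul_inv_cancel₀ (mul_ne_zero ha0 hb0)
  · intro i
    fin_cases i
    · exact ha
    · exact hb
    · show ((a * b)⁻¹) ^ (q + 1) = 1
      rw [inv_pow, mul_pow, ha, hb, one_mul, inv_one]

theorem mat_pow' {n : ℕ} (g : SU n F q) (k : ℕ) : mat (g ^ k) = mat g ^ k := Cfsg.Agent.H219.RowPsu.mat_pow g k

theorem diag_pow (a b c : F) (j : ℕ) :
    (Matrix.diagonal ![a, b, c] : Matrix (Fin 3) (Fin 3) F) ^ j = Matrix.diagonal ![a ^ j, b ^ j, c ^ j] := by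
  rw [Matrix.diagonal_pow]
  congr 1
  funext i
  fin_cases i <;> rfl

/-- powers of the diagonal matrices -/
theorem pr_delta_pow (hF : Fintype.card F = q ^ 2) {a b : F} (ha : a ≠ 0) (hb : b ≠ 0) {D : SU 3 F q}
    (hD : mat D = Matrix.diagonal ![a, b, (a * b)⁻¹]) (j : ℕ) :
    pr 3 F q D ^ j = 1 ↔ a ^ j = b ^ j ∧ a ^ (3 * j) = 1 := by
  have hm : mat (D ^ j) = Matrix.diagonal ![a ^ j, b ^ j, ((a * b)⁻¹) ^ j] := by rw [mat_pow', hD, diag_pow]
  constructor
  · intro h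
    have h1 : pr 3 F q 1 = pr 3 F q (D ^ j) := by rw [map_pow, h, map_one]
    obtain ⟨c, -, -, hc⟩ := Cfsg.Agent.H251.Small.mat_pr hF le_rfl h1
    rw [hm, mat_one] at hc
    have e : ∀ i : Fin 3, (![a ^ j, b ^ j, ((a * b)⁻¹) ^ j] : Fin 3 → F) i = c := by
      intro i
      have := congrFun (congrFun hc i) i
      rwa [Matrix.diagonal_apply_eq, Matrix.smul_apply, Matrix.one_apply_eq, smul_eq_mul, mul_one] at this
    have e0 : a ^ j = c := e 0
    have e1 : b ^ j = c := e 1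
    have e2 : ((a * b)⁻¹) ^ j = c := e 2
    refine ⟨by rw [e0, e1], ?_⟩
    have e3 : (a * b) ^ j ≠ 0 := pow_ne_zero _ (mul_ne_zero ha hb)
    have e4 : c * (c * c) = 1 := by
      have : (c * c) * ((a * b)⁻¹) ^ j = 1 := by
        rw [← e0]
        nth_rewrite 2 [e0]
        rw [← e1, ← mul_pow, inv_pow, mul_inv_cancel₀ e3]
      rw [e2] at this
      rw [← this]; ring
    calc a ^ (3 * j) = a ^ j * (a ^ j * a ^ j) := by ring
      _ = 1 := by rw [e0, e4]
  · rintro ⟨h1, h2⟩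
    rw [← map_pow, pr_eq_one_iff]
    have h3 : ((a * b)⁻¹) ^ j = a ^ j := by
      rw [inv_pow, mul_pow, ← h1]
      refine inv_eq_of_mul_eq_one_right ?_
      rw [← h2]; ring
    refine mem_center_of_act (c := a ^ j) fun v => ?_
    funext i
    rw [act_def, hm, Matrix.mulVec_diagonal, Pi.smul_apply, smul_eq_mul]
    congr 1
    fin_cases i
    · rfl
    · exact h1.symm
    · exact h3

/-- **`v = 3`, `9 ∤ q + 1`** -/
theorem not_scc_three (hF : Fintype.card F = q ^ 2) (hq : 7 ≤ q) (h3 : 3 ∣ q + 1) (h9 : ¬ 9 ∣ q + 1) :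
    ¬ SCC (PSU 3 F q) 3 := by
  have hfin : Finite (PSU 3 F q) := inferInstance
  obtain ⟨m, hm⟩ := h3
  have hm3 : ¬ 3 ∣ m := by
    rintro ⟨t, rfl⟩
    exact h9 ⟨t, by rw [hm]; ring⟩
  have hm4 : 3 ≤ m := by omega
  have hdvd : q + 1 ∣ q ^ 2 - 1 := by rw [H372.FxU.sq_sub hF]; exact dvd_mul_left _ _
  obtain ⟨w, hw0, hw⟩ := H372.FxU.exists_unit hF (s := 3) ((Dvd.intro m hm.symm : 3 ∣ q + 1).trans hdvd)
  obtain ⟨c, hc0, hc⟩ := H372.FxU.exists_unit hF (s := m) ((Dvd.intro_left 3 hm.symm : m ∣ q + 1).trans hdvd)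
  have hw1 : w ^ 3 = 1 := by rw [← hw]; exact pow_orderOf_eq_one w
  have hcm : c ^ m = 1 := by rw [← hc]; exact pow_orderOf_eq_one c
  have hwq : w ^ (q + 1) = 1 := by rw [hm, pow_mul, hw1, one_pow]
  have hcq : c ^ (q + 1) = 1 := by rw [hm, mul_comm, pow_mul, hcm, one_pow]
  have hwne : w ≠ 1 := by
    rintro rfl
    rw [orderOf_one] at hw
    omega
  have hwm : w ^ m ≠ 1 := fun h => hm3 (hw ▸ orderOf_dvd_of_pow_eq_one h)
  have hci : ∀ j : ℕ, c ^ j = 1 → m ∣ j := fun j h => hc ▸ orderOf_dvd_of_pow_eq_one h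
  have hcop : Nat.Coprime m 3 := ((Nat.Prime.coprime_iff_not_dvd Nat.prime_three).2 hm3).symm
  have hc3 : c ^ 3 ≠ 1 := by
    intro h
    have h1 := Nat.le_of_dvd (by norm_num) (hci 3 h)
    have : m = 3 := by omega
    exact hm3 ⟨1, by omega⟩
  have hc6 : c ^ 6 ≠ 1 := by
    intro h
    have h1 : m ∣ 2 := (hcop.dvd_of_dvd_mul_right (by norm_num; exact hci 6 h : m ∣ 2 * 3))
    have := Nat.le_of_dvd (by norm_num) h1
    omega
  have hc9 : c ^ 9 ≠ 1 := by
    intro h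
    have h1 : m ∣ 3 := (hcop.dvd_of_dvd_mul_right (by norm_num; exact hci 9 h : m ∣ 3 * 3))
    have := Nat.le_of_dvd (by norm_num) h1
    have : m = 3 := by omega
    exact hm3 ⟨1, by omega⟩
  have hq' : ∀ x y : F, x ^ (q + 1) = 1 → y ^ (q + 1) = 1 → (x * y) ^ (q + 1) = 1 := fun x y h1 h2 => by
    rw [mul_pow, h1, h2, one_mul]
  have hwq2 : (w ^ 2) ^ (q + 1) = 1 := by rw [← pow_mul, mul_comm, pow_mul, hwq, one_pow]
  have hciq : (c⁻¹) ^ (q + 1) = 1 := by rw [inv_pow, hcq, inv_one]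
  obtain ⟨X, hX⟩ := exists_delta hF hwq hwq2
  obtain ⟨U, hU⟩ := exists_delta hF (hq' _ _ hwq hcq) (hq' _ _ hwq2 hcq)
  obtain ⟨V, hV⟩ := exists_delta hF (hq' _ _ hwq hcq) (hq' _ _ hwq2 hciq)
  have hwc0 : w * c ≠ 0 := mul_ne_zero hw0 hc0
  have hw2c0 : w ^ 2 * c ≠ 0 := mul_ne_zero (pow_ne_zero _ hw0) hc0
  have hw2c0' : w ^ 2 * c⁻¹ ≠ 0 := mul_ne_zero (pow_ne_zero _ hw0) (inv_ne_zero hc0)
  have hw6 : (w ^ 2) ^ 3 = 1 := by rw [← pow_mul, mul_comm, pow_mul, hw1, one_pow]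
  have hwm2 : w ^ m ≠ (w ^ 2) ^ m := by
    intro h
    apply hwm
    have h1 : w ^ m * 1 = w ^ m * w ^ m := by rw [mul_one, ← mul_pow, ← pow_two]; exact h
    exact (mul_left_cancel₀ (pow_ne_zero _ hw0) h1).symm
  -- the orders
  have oX : orderOf (pr 3 F q X) = 3 := by
    have : Fact (Nat.Prime 3) := ⟨Nat.prime_three⟩
    refine orderOf_eq_prime ((pr_delta_pow hF hw0 (pow_ne_zero _ hw0) hX 3).2 ⟨by rw [hw1, hw6], ?_⟩) ?_
    · rw [pow_mul, hw1, one_pow]
    · intro h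
      have h1 := ((pr_delta_pow hF hw0 (pow_ne_zero _ hw0) hX 1).1 (by rw [pow_one]; exact h)).1
      rw [pow_one, pow_one, pow_two] at h1
      exact hwne (mul_left_cancel₀ hw0 (by rw [mul_one]; exact h1)).symm
  have key : ∀ D : SU 3 F q, pr 3 F q D ^ m ≠ 1 → pr 3 F q D ^ (3 * m) = 1 → 3 ∣ orderOf (pr 3 F q D) := by
    intro D h1 h2
    by_contra h
    apply h1
    have h4 := orderOf_dvd_of_pow_eq_one h2
    have h5 : Nat.Coprime (orderOf (pr 3 F q D)) 3 := ((Nat.Prime.coprime_iff_not_dvd Nat.prime_three).2 h).symm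
    exact orderOf_dvd_iff_pow_eq_one.1 (h5.dvd_of_dvd_mul_left h4)
  have hp3m : ∀ x : F, x ^ 3 = 1 → x ^ (3 * m) = 1 := fun x h => by rw [pow_mul, h, one_pow]
  have hc3m : c ^ (3 * m) = 1 := by rw [mul_comm, pow_mul, hcm, one_pow]
  have oU : 3 ∣ orderOf (pr 3 F q U) := by
    refine key U (fun h => ?_) ((pr_delta_pow hF hwc0 hw2c0 hU _).2 ⟨?_, ?_⟩)
    · have h1 := ((pr_delta_pow hF hwc0 hw2c0 hU m).1 h).1
      rw [mul_pow, mul_pow, hcm, mul_one, mul_one] at h1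
      exact hwm2 h1
    · rw [mul_pow, mul_pow, hp3m w hw1, hp3m _ hw6]
    · rw [mul_pow, mul_comm 3 (3 * m), pow_mul w, hp3m w hw1, one_pow, pow_mul c, hc3m, one_pow, one_mul]
  have oV : 3 ∣ orderOf (pr 3 F q V) := by
    refine key V (fun h => ?_) ((pr_delta_pow hF hwc0 hw2c0' hV _).2 ⟨?_, ?_⟩)
    · have h1 := ((pr_delta_pow hF hwc0 hw2c0' hV m).1 h).1
      rw [mul_pow, mul_pow, inv_pow, hcm, inv_one, mul_one, mul_one] at h1
      exact hwm2 h1
    · rw [mul_pow, mul_pow, inv_pow, hp3m w hw1, hp3m _ hw6, hc3m, inv_one]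
    · rw [mul_pow, mul_comm 3 (3 * m), pow_mul w, hp3m w hw1, one_pow, pow_mul c, hc3m, one_pow, one_mul]
  have nU : orderOf (pr 3 F q U) ≠ 3 := by
    intro h
    have h1 := (pr_delta_pow hF hwc0 hw2c0 hU 3).1 (orderOf_dvd_iff_pow_eq_one.1 (by rw [h]))
    have h2 := h1.2
    rw [mul_pow, pow_mul w, hw1, one_pow, one_mul] at h2
    exact hc9 (by norm_num at h2; exact h2)
  have hc3i : c ^ 3 ≠ (c⁻¹) ^ 3 := by
    intro h
    apply hc6
    rw [inv_pow] at h
    calc c ^ 6 = c ^ 3 * c ^ 3 := by ring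
      _ = (c ^ 3)⁻¹ * c ^ 3 := by rw [← h]
      _ = 1 := inv_mul_cancel₀ (pow_ne_zero _ hc0)
  have nV : orderOf (pr 3 F q V) ≠ 3 := by
    intro h
    have h1 := ((pr_delta_pow hF hwc0 hw2c0' hV 3).1 (orderOf_dvd_iff_pow_eq_one.1 (by rw [h]))).1
    rw [mul_pow, mul_pow, hw1, hw6, one_mul, one_mul] at h1
    exact hc3i h1
  refine not_SCC_of_three (x := pr 3 F q X) (y := pr 3 F q U) (z := pr 3 F q V) (by rw [oX]) oU oV ?_ ?_ ?_
  · intro φ hφ
    exact nU (by rw [← hφ, Cfsg.Agent.H938.Sax.orderOf_mulEquiv, oX])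
  · intro φ hφ
    exact nV (by rw [← hφ, Cfsg.Agent.H938.Sax.orderOf_mulEquiv, oX])
  · intro φ hφ
    have hφ3 : φ (pr 3 F q (U ^ 3)) = pr 3 F q (V ^ 3) := by rw [map_pow, map_pow, hφ, map_pow]
    have eU : mat (U ^ 3) = Matrix.diagonal ![c ^ 3, c ^ 3, ((w * c) * (w ^ 2 * c))⁻¹ ^ 3] := by
      rw [mat_pow', hU, diag_pow, mul_pow, mul_pow, hw1, hw6, one_mul]
    have eV : mat (V ^ 3) = Matrix.diagonal ![c ^ 3, (c⁻¹) ^ 3, 1] := by
      rw [mat_pow', hV, diag_pow, mul_pow, mul_pow, hw1, hw6, one_mul, one_mul, inv_pow]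
      congr 2
      have : ((w * c) * (w ^ 2 * c⁻¹)) = w ^ 3 * (c * c⁻¹) := by ring
      rw [this, hw1, mul_inv_cancel₀ hc0, one_mul, inv_one, one_pow]
    have hsm : ∀ a : F, a • (1 : Matrix (Fin 3) (Fin 3) F) = Matrix.diagonal fun _ => a := fun a =>
      Matrix.smul_one_eq_diagonal a
    obtain ⟨α, β, hαβ⟩ := quad_of_aut hF le_rfl (by omega) φ hφ3 (α := c ^ 3)
      (β := ((w * c) * (w ^ 2 * c))⁻¹ ^ 3) (by
        rw [eU, hsm, hsm, Matrix.diagonal_sub, Matrix.diagonal_sub, Matrix.diagonal_mul_diagonal]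
        rw [Matrix.diagonal_eq_zero]
        funext i
        fin_cases i <;> simp)
    rw [eV, hsm, hsm, Matrix.diagonal_sub, Matrix.diagonal_sub, Matrix.diagonal_mul_diagonal,
      Matrix.diagonal_eq_zero] at hαβ
    have e0 : (c ^ 3 - α) * (c ^ 3 - β) = 0 := congrFun hαβ 0
    have e1 : ((c⁻¹) ^ 3 - α) * ((c⁻¹) ^ 3 - β) = 0 := congrFun hαβ 1
    have e2 : (1 - α) * (1 - β) = 0 := congrFun hαβ 2
    have hci3 : (c⁻¹) ^ 3 ≠ 1 := by
      rw [inv_pow]
      exact fun h => hc3 (inv_eq_one.1 h)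
    rcases mul_eq_zero.1 e0 with h0 | h0 <;> rcases mul_eq_zero.1 e1 with h1 | h1 <;>
      rcases mul_eq_zero.1 e2 with h2 | h2
    · exact hc3i ((sub_eq_zero.1 h0).trans (sub_eq_zero.1 h1).symm)
    · exact hc3i ((sub_eq_zero.1 h0).trans (sub_eq_zero.1 h1).symm)
    · exact hc3 ((sub_eq_zero.1 h0).trans (sub_eq_zero.1 h2).symm)
    · exact hci3 ((sub_eq_zero.1 h1).trans (sub_eq_zero.1 h2).symm)
    · exact hci3 ((sub_eq_zero.1 h1).trans (sub_eq_zero.1 h2).symm)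
    · exact hc3 ((sub_eq_zero.1 h0).trans (sub_eq_zero.1 h2).symm)
    · exact hc3i ((sub_eq_zero.1 h0).trans (sub_eq_zero.1 h1).symm)
    · exact hc3i ((sub_eq_zero.1 h0).trans (sub_eq_zero.1 h1).symm)

/-- **odd `v ∣ q + 1`**, `v ≠ 3` or `9 ∣ q + 1` -/
theorem not_scc_plus (hF : Fintype.card F = q ^ 2) (hq : 7 ≤ q) {v : ℕ} (hv : v.Prime) (h1 : v ∣ q + 1) (h2 : v ≠ 2)
    (h3 : v = 3 → 9 ∣ q + 1) : ¬ SCC (PSU 3 F q) v := by
  obtain ⟨z, hz, hc⟩ := exists_z hF hv h1 h3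
  obtain ⟨p, hp, hpq⟩ := Nat.exists_prime_and_dvd (n := q) (by omega)
  obtain ⟨t, ht, htq⟩ := Nat.exists_prime_and_dvd (n := q - 1) (by omega)
  have hsq := H372.FxU.sq_sub hF
  obtain ⟨a, ha⟩ := exists_block hF hp (Dvd.dvd.mul_right hpq _)
  obtain ⟨b, hb⟩ := exists_block hF ht (Dvd.dvd.mul_left (hsq ▸ Dvd.dvd.mul_right htq _) _)
  have hvp : v ≠ p := by
    rintro rfl
    exact hv.one_lt.ne' (Nat.dvd_one.1 ((Nat.dvd_add_right hpq).1 h1))
  have hvt : v ≠ t := by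
    rintro rfl
    have h4 : v ∣ (q + 1) - (q - 1) := Nat.dvd_sub h1 htq
    have h5 : (q + 1) - (q - 1) = 2 := by omega
    rw [h5] at h4
    exact h2 ((Nat.prime_dvd_prime_iff_eq hv Nat.prime_two).1 h4)
  have hpt : p ≠ t := by
    rintro rfl
    have h4 : p ∣ (q - 1) + 1 := by rwa [Nat.sub_add_cancel (by omega)]
    exact hp.one_lt.ne' (Nat.dvd_one.1 ((Nat.dvd_add_right htq).1 h4))
  exact not_SCC_of_comm hv.pos hz ha hz hb ((Nat.coprime_primes hv hp).2 hvp) ((Nat.coprime_primes hv ht).2 hvt)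
    hp.one_lt.ne' ht.one_lt.ne' hpt (hc a).symm (hc b).symm

/-- **`v = 2`, `q` odd** -/
theorem not_scc_two (hF : Fintype.card F = q ^ 2) (hq : 7 ≤ q) (hodd : Odd q) : ¬ SCC (PSU 3 F q) 2 := by
  have hfin : Finite (PSU 3 F q) := inferInstance
  obtain ⟨x, hx⟩ := Cfsg.Agent.H360.Iso.exists_subU hF (n := 3) le_rfl
  have e1 : ph q (3 - 2) = q ^ 2 - 1 := by
    show ph q 1 = _
    unfold ph
    rw [if_neg (by decide)]
  rw [e1] at hx
  have h8 : 8 ∣ orderOf x := by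
    have h1 := (H372.FxU.eight_dvd hodd).trans hx
    refine Nat.Coprime.dvd_of_dvd_mul_right ?_ h1
    have h2 : Nat.gcd 3 (q + 1) ∣ 3 := Nat.gcd_dvd_left _ _
    rcases (Nat.dvd_prime Nat.prime_three).1 h2 with h | h <;> rw [h] <;> norm_num
  obtain ⟨k, hk⟩ := h8
  have hk0 : k ≠ 0 := by
    rintro rfl
    have := orderOf_pos x
    omega
  have o : ∀ j : ℕ, j ∣ 8 → orderOf (x ^ (j * k)) = 8 / j := by
    intro j hj
    have hj0 : 0 < j := Nat.pos_of_dvd_of_pos hj (by norm_num)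
    rw [orderOf_pow_of_dvd (Nat.mul_ne_zero hj0.ne' hk0) (by rw [hk]; exact Nat.mul_dvd_mul_right hj k), hk,
      Nat.mul_div_mul_right _ _ (Nat.pos_of_ne_zero hk0)]
  exact not_SCC_of_orders (x := x ^ (1 * k)) (y := x ^ (2 * k)) (z := x ^ (4 * k)) (by rw [o 1 (by norm_num)]; norm_num)
    (by rw [o 2 (by norm_num)]; norm_num) (by rw [o 4 (by norm_num)])
    (by rw [o 1 (by norm_num), o 2 (by norm_num)]; norm_num) (by rw [o 1 (by norm_num), o 4 (by norm_num)]; norm_num)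
    (by rw [o 2 (by norm_num), o 4 (by norm_num)]; norm_num)

/-- the central torus of the block -/
theorem exists_zz (hF : Fintype.card F = q ^ 2) : ∃ z : PSU 3 F q, orderOf z * Nat.gcd (q + 1) 3 = q + 1 ∧
    ∀ a : ↥(SU 2 F q), Commute (pr 3 F q (emb hF 0 (by omega) a)) z := by
  have hdvd : q + 1 ∣ q ^ 2 - 1 := by rw [H372.FxU.sq_sub hF]; exact dvd_mul_left _ _
  obtain ⟨c, hc0, hc⟩ := H372.FxU.exists_unit hF hdvd
  have hc1 : c ^ (q + 1) = 1 := by rw [← hc]; exact pow_orderOf_eq_one c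
  obtain ⟨z, hz, -, hz2⟩ := H372.FxU.exists_D hF (k := 2) le_rfl hc1
  refine ⟨pr 3 F q z, ?_, fun a => ?_⟩
  · have h1 : orderOf (pr 3 F q z) = orderOf (c ^ 3) := by
      refine orderOf_eq_orderOf_iff.2 fun j => ?_
      rw [← map_pow, pr_eq_one_iff, hz2, pow_mul]
    rw [h1, orderOf_pow' _ (by norm_num), hc, Nat.div_mul_cancel (Nat.gcd_dvd_left _ _)]
  · show pr 3 F q _ * pr 3 F q z = pr 3 F q z * pr 3 F q _
    rw [← map_mul, hz a, map_mul]

/-- **the characteristic, `q` odd** -/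
theorem not_scc_char_odd (hF : Fintype.card F = q ^ 2) (hq : 7 ≤ q) (hodd : Odd q) {p : ℕ} (hp : p.Prime)
    (hpq : p ∣ q) : ¬ SCC (PSU 3 F q) p := by
  have hfin : Finite (PSU 3 F q) := inferInstance
  obtain ⟨a, ha⟩ := exists_block hF hp (Dvd.dvd.mul_right hpq _)
  obtain ⟨j, hj⟩ := hodd
  obtain ⟨z, hz, hc⟩ := exists_z hF Nat.prime_two ⟨j + 1, by omega⟩ (by omega)
  obtain ⟨y, hy, hcy⟩ := exists_zz hF
  have hyd : orderOf y ∣ q + 1 := Dvd.intro _ hy
  have hcop : ∀ {t : ℕ}, t ∣ q + 1 → Nat.Coprime p t := by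
    intro t ht
    refine (Nat.Prime.coprime_iff_not_dvd hp).2 fun h => ?_
    exact hp.one_lt.ne' (Nat.dvd_one.1 ((Nat.dvd_add_right hpq).1 (h.trans ht)))
  have hg : Nat.gcd (q + 1) 3 = 1 ∨ Nat.gcd (q + 1) 3 = 3 := (Nat.dvd_prime Nat.prime_three).1 (Nat.gcd_dvd_right _ _)
  refine not_SCC_of_comm (a := 2) (b := orderOf y) hp.pos ha hz ha rfl (hcop ⟨j + 1, by omega⟩) (hcop hyd) (by norm_num)
    ?_ ?_ (hc a) (hcy a)
  · intro h
    rw [h] at hy
    rcases hg with h | h <;> rw [h] at hy <;> omega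
  · intro h
    rw [← h] at hy
    rcases hg with h | h <;> rw [h] at hy <;> omega

/-- **`p = 2`**: an element of order four -/
theorem exists_four (hF : Fintype.card F = q ^ 2) (heven : Even q) : ∃ x : PSU 3 F q, orderOf x = 4 := by
  have hq := two_le hF
  have : Fact (Nat.Prime 2) := ⟨Nat.prime_two⟩
  have hch : CharP F 2 := by
    obtain ⟨p, k, hp, hch, hk, hk0⟩ := exists_prime_pow hF
    have h1 : 2 ∣ p ^ k := by rw [← hk]; exact heven.two_dvd
    have h2 : 2 = p := (Nat.prime_dvd_prime_iff_eq Nat.prime_two hp).1 (Nat.prime_two.dvd_of_dvd_pow h1)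
    rw [h2]; exact hch
  obtain ⟨e, f, H⟩ := exists_frame (F := F) (q := q) (n := 3) hF (by norm_num)
  have hw : hermForm 3 F q (Pi.single 0 1) e = 0 := by
    refine ((H.mem _).1 ?_).1
    intro i hi
    have : i ≠ 0 := by
      rintro rfl
      simp at hi
    rw [Pi.single_eq_of_ne this]
  have hww : hermForm 3 F q (Pi.single 0 1) (Pi.single 0 1) = 1 := by
    rw [herm_single_right hF, Pi.single_eq_same]
    simp
  obtain ⟨μ, hμ⟩ := exists_trace_eq hF (c := (1 : F)) (one_pow _)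
  have h11 : (1 : F) + 1 = 0 := CharTwo.add_self_eq_zero 1
  have hS : IsSiegel q e (Pi.single 0 1) μ := ⟨H.ee, hw, by rw [hμ, hww, h11]⟩
  set s := siegel hF e (Pi.single 0 1) μ hS with hs
  have hadd : ∀ v : Fin 3 → F, v + v = 0 := fun v => by
    funext i
    exact CharTwo.add_self_eq_zero _
  -- the square
  have h2 : ∀ v, act (s * s) v = v + hermForm 3 F q v e • e := by
    intro v
    rw [hs, siegel_mul hF hS hS, act_siegel]
    rw [hadd, herm_zero_right hF, hww, smul_zero, add_zero, sub_zero, CharTwo.add_self_eq_zero μ, zero_sub,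
      CharTwo.neg_eq, one_mul]
  have hs2 : s ^ 2 ≠ 1 := by
    intro h
    have h3 := h2 f
    rw [← pow_two, h, act_one] at h3
    have h4 : hermForm 3 F q f e = 1 := by rw [herm_swap hF e f, H.ef, one_pow]
    rw [h4, one_smul] at h3
    have h5 : e = 0 := by
      have : f + 0 = f + e := by rw [add_zero]; exact h3
      exact (add_left_cancel this).symm
    have h6 := H.ef
    rw [h5, herm_zero_left] at h6
    exact zero_ne_one h6
  have hs4 : s ^ 4 = 1 := by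
    apply ext_act
    intro v
    have : s ^ 4 = (s * s) * (s * s) := by rw [← pow_two s, ← pow_add]
    rw [this, act_mul, h2, h2, act_one, herm_add_left, herm_smul_left, H.ee, mul_zero, add_zero, add_assoc, ← add_smul,
      CharTwo.add_self_eq_zero, zero_smul, add_zero]
  refine ⟨pr 3 F q s, ?_⟩
  have h7 : orderOf (pr 3 F q s) = 2 ^ (1 + 1) := by
    refine orderOf_eq_prime_pow ?_ ?_
    · rw [pow_one, ← map_pow, pr_eq_one_iff]
      intro h8
      exact hs2 (eq_one_of_center_of_pow hF le_rfl (p := 2) h8 (k := 1) (by rw [pow_one, ← pow_mul]; exact hs4))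
    · rw [← map_pow]
      show pr 3 F q (s ^ 4) = 1
      rw [hs4, map_one]
  rw [h7]
  norm_num

/-- **the characteristic, `q` even** -/
theorem not_scc_char_even (hF : Fintype.card F = q ^ 2) (hq : 7 ≤ q) (heven : Even q) : ¬ SCC (PSU 3 F q) 2 := by
  obtain ⟨a, ha⟩ := exists_block hF Nat.prime_two (Dvd.dvd.mul_right heven.two_dvd _)
  obtain ⟨w, hw, hw1, hw3⟩ := exists_w (q := q) (by omega)
  obtain ⟨z, hz, hc⟩ := exists_z hF hw hw1 hw3
  obtain ⟨y, hy⟩ := exists_four hF heven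
  have hw2 : w ≠ 2 := by
    rintro rfl
    have := heven.two_dvd
    omega
  have o : orderOf (pr 3 F q (emb hF 0 (by omega) a) * z) = 2 * w := by
    rw [(hc a).orderOf_mul_eq_mul_orderOf_of_coprime (by rw [ha, hz]; exact (Nat.coprime_primes Nat.prime_two hw).2 hw2.symm),
      ha, hz]
  refine not_SCC_of_orders (x := pr 3 F q (emb hF 0 (by omega) a)) (y := pr 3 F q (emb hF 0 (by omega) a) * z) (z := y)
    (by rw [ha]) (by rw [o]; exact dvd_mul_right _ _) (by rw [hy]; norm_num) ?_ ?_ ?_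
  · rw [ha, o]
    have := hw.two_le
    omega
  · rw [ha, hy]; norm_num
  · rw [hy, o]
    omega

/-! ### the large primes -/

theorem two_mul_le : ∀ f : ℕ, 1 ≤ f → 2 * f ≤ 2 ^ f
  | 1, _ => by norm_num
  | n + 2, _ => by
    have := two_mul_le (n + 1) (by omega)
    rw [pow_succ]
    omega

/-- arithmetic -/
theorem arith {p f : ℕ} (hp : 2 ≤ p) (hf : 1 ≤ f) (hqf : q = p ^ f) (hq : 7 ≤ q) (h8 : q ≠ 8) :
    14 * f * Nat.gcd 3 (q + 1) + q < q ^ 2 + 1 ∧ 18 * f * Nat.gcd 3 (q + 1) + 1 < q ^ 2 := by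
  have h1 := two_mul_le f hf
  have h2 : 2 ^ f ≤ q := by rw [hqf]; exact Nat.pow_le_pow_left hp f
  rcases (Nat.dvd_prime Nat.prime_three).1 (Nat.gcd_dvd_left 3 (q + 1)) with hg | hg
  · rw [hg, mul_one, mul_one]
    have h7 : q = 7 ∨ 9 ≤ q := by omega
    rcases h7 with rfl | h9
    · have hf2 : f ≤ 2 := by
        by_contra hcon
        have : 2 ^ 3 ≤ 2 ^ f := Nat.pow_le_pow_right (by norm_num) (by omega)
        omega
      have hf1 : f ≠ 2 := by
        rintro rfl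
        have : p < 3 := by
          by_contra hcon
          have : 3 ^ 2 ≤ p ^ 2 := Nat.pow_le_pow_left (by omega) 2
          omega
        have : p = 2 := by omega
        subst this
        omega
      have : f = 1 := by omega
      subst this
      norm_num
    · rcases Nat.lt_or_ge q 10 with h10 | h10
      · have : q = 9 := by omega
        subst this
        have hf2 : f ≤ 3 := by
          by_contra hcon
          have : 2 ^ 4 ≤ 2 ^ f := Nat.pow_le_pow_right (by norm_num) (by omega)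
          omega
        constructor <;> omega
      · have h6 : q * 10 ≤ q ^ 2 := by rw [pow_two]; exact Nat.mul_le_mul_left q h10
        constructor <;> omega
  · have h3 : 3 ∣ q + 1 := hg ▸ Nat.gcd_dvd_right _ _
    have h4 := Cfsg.Agent.H410.DerPsu.arith_three hp hf hqf (by omega) h3 (by
      simp only [Finset.mem_insert, Finset.mem_singleton, not_or]
      omega)
    rw [hg]
    have h5 : q ≤ q ^ 2 := by rw [pow_two]; exact Nat.le_mul_of_pos_left q (by omega)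
    constructor <;> omega

/-- the field automorphisms -/
theorem exists_pf (hF : Fintype.card F = q ^ 2) : ∃ p f : ℕ, 2 ≤ p ∧ 1 ≤ f ∧ q = p ^ f ∧
    Nat.card (F ≃+* F) = 2 * f := by
  obtain ⟨p, k, hp, hch, hk, hk0⟩ := exists_prime_pow hF
  have := Fact.mk hp
  refine ⟨p, k, hp.two_le, hk0, hk, ?_⟩
  refine Cfsg.Agent.Lib.FieldAutCard.card_ringAut (p := p) (by omega) ?_
  rw [hF, hk, ← pow_mul, mul_comm]

/-- **primes dividing `q - 1`** -/
theorem not_scc_minus (hF : Fintype.card F = q ^ 2) (hq : 7 ≤ q) (h8 : q ≠ 8) {v : ℕ} (hv : v.Prime)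
    (hvq1 : ¬ v ∣ q + 1) (hord : orderOf ((xv false q : ℤ) : ZMod v) = 2) (h : v ∣ ph q 1) :
    ¬ SCC (PSU 3 F q) v := by
  intro hs
  have hfin : Finite (PSU 3 F q) := inferInstance
  have hvg : ¬ v ∣ Nat.gcd 3 (q + 1) := fun h => hvq1 (h.trans (Nat.gcd_dvd_right _ _))
  have hg0 : 0 < Nat.gcd 3 (q + 1) := Nat.gcd_pos_of_pos_left _ (by omega)
  obtain ⟨x, hx⟩ := Cfsg.Agent.H360.Iso.exists_subU hF (n := 3) le_rfl
  have hx' : ph q 1 ∣ orderOf x * Nat.gcd 3 (q + 1) := hx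
  have h5 : v ∣ orderOf x := ((hv.dvd_mul).1 (h.trans hx')).resolve_right hvg
  have hb := scc_bound hF le_rfl (by omega) hv hord le_rfl (by omega) h5 hs
  have hvn : 3 ≤ v := by
    have h6 := order_dvd_pred hv (by omega) hord
    have h7 := Nat.le_of_dvd (by have := hv.two_le; omega) h6
    omega
  have hN := Nat.le_of_dvd (Nat.mul_pos (orderOf_pos x) hg0) hx'
  have h9 := pow_le_ph q 1 (by omega)
  obtain ⟨p, f, hp, hf, hqf, hA⟩ := exists_pf hF
  obtain ⟨-, hI⟩ := arith hp hf hqf hq h8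
  rw [hA] at hb
  have h10 : orderOf x / v ≤ orderOf x / 3 := Nat.div_le_div_left hvn (by omega)
  have h11 : orderOf x ≤ 18 * f := by omega
  have h12 := Nat.mul_le_mul h11 (le_refl (Nat.gcd 3 (q + 1)))
  have e : q ^ (1 + 1) = q ^ 2 := rfl
  omega

/-- **primes dividing `q² - q + 1`** -/
theorem not_scc_large (hF : Fintype.card F = q ^ 2) (hq : 7 ≤ q) (h8 : q ≠ 8) {v : ℕ} (hv : v.Prime)
    (hvq1 : ¬ v ∣ q + 1) (hord : orderOf ((xv false q : ℤ) : ZMod v) = 3) (h : v ∣ ph q 2) :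
    ¬ SCC (PSU 3 F q) v := by
  intro hs
  have hfin : Finite (PSU 3 F q) := inferInstance
  have hvg : ¬ v ∣ Nat.gcd 3 (q + 1) := fun h => hvq1 (h.trans (Nat.gcd_dvd_right _ _))
  have hg0 : 0 < Nat.gcd 3 (q + 1) := Nat.gcd_pos_of_pos_left _ (by omega)
  obtain ⟨x, hx⟩ := Cfsg.Agent.H360.Iso.exists_topU hF (n := 3) le_rfl
  have hx' : ph q 2 ∣ orderOf x * Nat.gcd 3 (q + 1) * (q + 1) := hx
  have h5 : v ∣ orderOf x := ((hv.dvd_mul).1 (((hv.dvd_mul).1 (h.trans hx')).resolve_right hvq1)).resolve_right hvg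
  have hb := scc_bound hF le_rfl (by omega) hv hord (by omega) (by omega) h5 hs
  have hvn : 7 ≤ v := by
    have h6 := order_dvd_pred hv (by omega) hord
    have h7 := Nat.le_of_dvd (by have := hv.two_le; omega) h6
    by_contra hlt
    have : v = 4 ∨ v = 5 ∨ v = 6 := by omega
    rcases this with rfl | rfl | rfl
    · exact absurd hv (by norm_num)
    · omega
    · exact absurd hv (by norm_num)
  have hN := Nat.le_of_dvd (Nat.mul_pos (Nat.mul_pos (orderOf_pos x) hg0) (by omega)) hx'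
  obtain ⟨p, f, hp, hf, hqf, hA⟩ := exists_pf hF
  obtain ⟨hI, -⟩ := arith hp hf hqf hq h8
  rw [hA] at hb
  have h10 : orderOf x / v ≤ orderOf x / 7 := Nat.div_le_div_left hvn (by omega)
  have h11 : orderOf x ≤ 14 * f := by omega
  have h12 := Nat.mul_le_mul h11 (le_refl (Nat.gcd 3 (q + 1)))
  have e1 : ph q 2 = q ^ 3 + 1 := by unfold ph; rw [if_pos (by decide)]
  have e2 : q ^ 3 + 1 = (q ^ 2 - q + 1) * (q + 1) := Cfsg.Agent.H410.DerPsu.cube_fac (by omega)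
  rw [e1, e2] at hN
  have h13 := Nat.le_of_mul_le_mul_right hN (by omega)
  omega

/-- **`NTC` for `PSU₃(q)`** -/
theorem ntc_psu3 (hF : Fintype.card F = q ^ 2) (hq : 7 ≤ q) (h8 : q ≠ 8) : NTC (PSU 3 F q) := by
  intro v hv hd
  by_cases hvq : v ∣ q
  · rcases Nat.even_or_odd q with he | ho
    · obtain ⟨p, k, hp, -, hk, -⟩ := exists_prime_pow hF
      have h1 : v = 2 := by
        have e1 := (Nat.prime_dvd_prime_iff_eq hv hp).1 (hv.dvd_of_dvd_pow (hk ▸ hvq))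
        have e2 := (Nat.prime_dvd_prime_iff_eq Nat.prime_two hp).1 (Nat.prime_two.dvd_of_dvd_pow (hk ▸ he.two_dvd))
        rw [e1, e2]
      subst h1
      exact not_scc_char_even hF hq he
    · exact not_scc_char_odd hF hq ho hv hvq
  by_cases hvq1 : v ∣ q + 1
  · by_cases h2 : v = 2
    · subst h2
      refine not_scc_two hF hq ?_
      rcases Nat.even_or_odd q with he | ho
      · exact absurd he.two_dvd hvq
      · exact ho
    · by_cases h3 : v = 3 ∧ ¬ 9 ∣ q + 1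
      · obtain ⟨rfl, h9⟩ := h3
        exact not_scc_three hF hq hvq1 h9
      · exact not_scc_plus hF hq hv hvq1 h2 fun h => by
          by_contra h9
          exact h3 ⟨h, h9⟩
  have hlt : ∀ i : ℕ, i < 3 - 2 → ¬ v ∣ ph q i := by
    intro i hi
    have : i = 0 := by omega
    subst this
    rw [ph_zero]
    exact hvq1
  rcases (prime_dvd_card_PSU hF (by norm_num) hv hd) with h | ⟨i, hi, hid⟩
  · exact absurd h hvq
  have : i = 0 ∨ i = 1 ∨ i = 2 := by omega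
  rcases this with rfl | rfl | rfl
  · exact absurd hid (hlt 0 (by norm_num))
  · exact not_scc_minus hF hq h8 hv hvq1 (order_sub (n := 3) (by omega) (by norm_num) hlt hid) hid
  · exact not_scc_large hF hq h8 hv hvq1 (order_top (n := 3) (by omega) (by norm_num) hlt hid) hid

/-- **The row `PSU₃(q)` of S3502.** -/
theorem rowS_psu3 {F : Type} [Field F] [Fintype F] {q : ℕ} (hF : Fintype.card F = q ^ 2) (hq : 3 ≤ q)
    (hex : q ∉ ({3, 4, 5, 8} : Finset ℕ)) : RowS (Cfsg.PSU 3 F q) := by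
  have hfin : Finite (PSU 3 F q) := Quotient.finite _
  have hq6 := ne_six hF
  simp only [Finset.mem_insert, Finset.mem_singleton, not_or] at hex
  exact RowS.of_pgap (ntc_psu3 hF (by omega) (by omega)) fun M hM =>
    Cfsg.Agent.H410.DerPsu.pgap_psu3 hF hq hex.1 hex.2.2.1 hM

end Cfsg.Agent.H372.DerU
end

-- part: H632/Der/Rows
section
prune_inst 0x4000024440822020800000000400000044800000000200000880002000a000502090001000c801102182aa0800000000811100060420000000a000400000101208088920420500800440009000004000000000000000000000000000000000004000000000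
set_option linter.all false
open scoped Cfsg.Agent.FastGrp

-- part: H632/Der/Count
section
/-!
# S3502: `¬ SCC T v` (helper632)

* `not_SCC_of_two_adj` : a vertex of the prime graph with two neighbours
* `not_SCC_of_count` : a cyclic torus `A = C(x)` with `2 |Out T| c < |A| (v - 1) / v`
* `card_conjPow_le_sub_one`, `card_conjPow_le_eIdx`
-/

set_option autoImplicit false

namespace Cfsg.Agent.H632.Der

open Subgroup Cfsg.Agent.H439.Der Cfsg.Agent.H473.Der Cfsg.Agent.H504.ZeroTI Cfsg.Agent.H504.Zeros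
  Cfsg.Agent.H938.Sax

universe u

variable {T : Type u} [Group T] [Finite T]

omit [Finite T] in
/-- a vertex of the prime graph with two neighbours -/
theorem not_SCC_of_two_adj {v w s : ℕ} (h : H94.PG.Adj T v w) (h' : H94.PG.Adj T v s) (hws : w ≠ s) : ¬ SCC T v := by
  obtain ⟨hv, hw, hne, x, y, hx, hy, hc⟩ := h
  obtain ⟨-, hs, hne', x', y', hx', hy', hc'⟩ := h'
  have h1 : orderOf (x * y) = v * w := by
    rw [hc.orderOf_mul_eq_mul_orderOf_of_coprime (by rw [hx, hy]; exact (Nat.coprime_primes hv hw).2 hne), hx, hy]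
  have h2 : orderOf (x' * y') = v * s := by
    rw [hc'.orderOf_mul_eq_mul_orderOf_of_coprime (by rw [hx', hy']; exact (Nat.coprime_primes hv hs).2 hne'), hx', hy']
  have hv0 := hv.pos
  refine not_SCC_of_orders (x := x) (y := x * y) (z := x' * y') (by rw [hx]) (by rw [h1]; exact dvd_mul_right _ _)
    (by rw [h2]; exact dvd_mul_right _ _) ?_ ?_ ?_
  · rw [hx, h1]
    intro h3
    have := hw.one_lt
    nlinarith only [hv0, h3, this]
  · rw [hx, h2]
    intro h3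
    have := hs.one_lt
    nlinarith only [hv0, h3, this]
  · rw [h1, h2]
    exact fun h3 => hws (Nat.eq_of_mul_eq_mul_left hv0 h3)

theorem card_conjPow_le_sub_one {v : ℕ} (hv : v.Prime) {x : T} (hx : orderOf x = v) :
    Nat.card (conjPow x) ≤ v - 1 := by
  classical
  have := Fintype.ofFinite T
  have h1 : (conjPow x) ⊆ ((Finset.univ.filter fun y => y ∈ zpowers x).erase 1 : Finset T) := by
    rintro y ⟨hy, g, hg⟩
    rw [Finset.mem_coe, Finset.mem_erase, Finset.mem_filter]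
    refine ⟨?_, Finset.mem_univ _, hy⟩
    rintro rfl
    have h2 := orderOf_conj g x
    rw [hg, orderOf_one, hx] at h2
    exact hv.one_lt.ne h2
  have h2 : ((Finset.univ.filter fun y => y ∈ zpowers x).erase 1 : Finset T).card = v - 1 := by
    rw [Finset.card_erase_of_mem (by simp), ← hx, ← Nat.card_zpowers, Nat.card_eq_fintype_card, Fintype.card_subtype]
  rw [Nat.card_coe_set_eq, ← h2, ← Set.ncard_coe_finset]
  exact Set.ncard_le_ncard h1 (Set.toFinite _)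

theorem card_conjPow_le_eIdx {x : T} {A : Subgroup T} (hA : CC A) (hx : x ∈ A) (hx1 : x ≠ 1) :
    Nat.card (conjPow x) ≤ eIdx A := by
  have hcen := hA.cent x hx hx1
  have h1 := card_conjPow_mul x
  rw [hcen] at h1
  have hle : normalizer (zpowers x : Set T) ≤ normalizer (A : Set T) := by
    intro g hg
    have hgx : ∀ y, y ∈ zpowers x ↔ g * y * g⁻¹ ∈ zpowers x := by
      rw [Subgroup.mem_normalizer_iff] at hg
      exact hg
    have key : ∀ k : T, k ∈ A ↔ ∀ y ∈ zpowers x, k * y = y * k := by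
      intro k
      constructor
      · intro hk y hy
        obtain ⟨j, rfl⟩ := mem_zpowers_iff.1 hy
        exact hA.comm k hk _ (zpow_mem hx j)
      · intro hk
        rw [← hcen, mem_centralizer_singleton_iff]
        exact hk x (mem_zpowers x)
    rw [Subgroup.mem_normalizer_iff]
    intro k
    rw [key, key]
    constructor
    · intro h y hy
      have h2 : g⁻¹ * y * g ∈ zpowers x := by
        rw [hgx]
        have e : g * (g⁻¹ * y * g) * g⁻¹ = y := by group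
        rwa [e]
      have h3 := h _ h2
      calc g * k * g⁻¹ * y = g * (k * (g⁻¹ * y * g)) * g⁻¹ := by group
        _ = g * ((g⁻¹ * y * g) * k) * g⁻¹ := by rw [h3]
        _ = _ := by group
    · intro h y hy
      have h3 := h _ ((hgx y).1 hy)
      calc k * y = g⁻¹ * ((g * k * g⁻¹) * (g * y * g⁻¹)) * g := by group
        _ = g⁻¹ * ((g * y * g⁻¹) * (g * k * g⁻¹)) * g := by rw [h3]
        _ = _ := by group
  have h2 : Nat.card (normalizer (zpowers x : Set T)) ≤ Nat.card (normalizer (A : Set T)) :=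
    Nat.card_le_card_of_injective _ (Subgroup.inclusion_injective hle)
  have h3 : Nat.card (normalizer (A : Set T)) = eIdx A * Nat.card A := by
    unfold eIdx
    have h1 := Subgroup.card_mul_index (A.subgroupOf (normalizer (A : Set T)))
    rw [← h1, Nat.card_congr (Subgroup.subgroupOfEquivOfLe (Subgroup.le_normalizer (H := A))).toEquiv, mul_comm]
  rw [← h1, h3] at h2
  exact Nat.le_of_mul_le_mul_right h2 Nat.card_pos

/-- the elements of `A` in the `Aut T`-class of `a` -/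
theorem card_class_le {v : ℕ} (hv : v.Prime) {A : Subgroup T} (hcyc : IsCyclic A)
    (hC : ∀ x ∈ A, orderOf x = v → centralizer ({x} : Set T) = A) {c : ℕ}
    (hc : ∀ x ∈ A, orderOf x = v → Nat.card (conjPow x) ≤ c) (a : T) (S : Finset T)
    (hS : ∀ z ∈ S, z ∈ A ∧ v ∣ orderOf z ∧ ∃ φ : T ≃* T, φ a = z) : S.card ≤ Nat.card (Cfsg.Out T) * c := by
  classical
  have : Finite (MulAut T) := Finite.of_injective (fun f : MulAut T => (f : T → T)) DFunLike.coe_injective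
  have := Fintype.ofFinite T
  have := Fintype.ofFinite (Cfsg.Out T)
  have hcomm : ∀ a ∈ A, ∀ b ∈ A, a * b = b * a := by
    intro a ha b hb
    have := (IsCyclic.commGroup (α := A)).mul_comm ⟨a, ha⟩ ⟨b, hb⟩
    exact congrArg Subtype.val this
  have hφ : ∀ y : T, ∃ φ : MulAut T, y ∈ S → φ a = y := by
    intro y
    by_cases hy : y ∈ S
    · obtain ⟨φ, hφ⟩ := (hS y hy).2.2
      exact ⟨φ, fun _ => hφ⟩
    · exact ⟨1, fun h => absurd h hy⟩
  choose φ hφ using hφ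
  rw [mul_comm, Nat.card_eq_fintype_card (α := Cfsg.Out T)]
  refine Finset.card_le_mul_card_image_of_maps_to (f := fun y => (QuotientGroup.mk (φ y) : Cfsg.Out T))
    (t := Finset.univ) (fun _ _ => Finset.mem_univ _) _ ?_
  intro k _
  rcases Finset.eq_empty_or_nonempty (S.filter fun y => (QuotientGroup.mk (φ y) : Cfsg.Out T) = k) with h0 | ⟨z0, hz0⟩
  · rw [h0]; exact Nat.zero_le _
  rw [Finset.mem_filter] at hz0
  obtain ⟨hz0A, hz0v, -⟩ := hS z0 hz0.1
  have hconj : ∀ y ∈ S.filter (fun y => (QuotientGroup.mk (φ y) : Cfsg.Out T) = k), ∃ g : T, g * z0 * g⁻¹ = y := by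
    intro y hy
    rw [Finset.mem_filter] at hy
    have h1 : (QuotientGroup.mk (φ z0) : Cfsg.Out T) = QuotientGroup.mk (φ y) := by rw [hz0.2, hy.2]
    rw [QuotientGroup.eq] at h1
    obtain ⟨g, hg⟩ := h1
    have h2 : φ y a = φ z0 (g * a * g⁻¹) := by
      have : φ y = φ z0 * MulAut.conj g := by
        have hg' : MulAut.conj g = (φ z0)⁻¹ * φ y := hg
        rw [hg', mul_inv_cancel_left]
      rw [this]; rfl
    refine ⟨φ z0 g, ?_⟩
    rw [← hφ y hy.1, h2, map_mul, map_mul, map_inv, hφ z0 hz0.1]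
  obtain ⟨j, hj⟩ : ∃ j, orderOf z0 = v * j := hz0v
  have hz0pos : 0 < orderOf z0 := orderOf_pos z0
  have hj0 : j ≠ 0 := by rintro rfl; omega
  have hxo : orderOf (z0 ^ j) = v := by
    rw [orderOf_pow' _ hj0, hj, Nat.gcd_mul_left_left, Nat.mul_div_cancel _ (Nat.pos_of_ne_zero hj0)]
  have hxA : z0 ^ j ∈ A := pow_mem hz0A j
  refine le_trans ?_ (hc _ hxA hxo)
  have hpow : ∀ g : T, (g * z0 * g⁻¹) ^ j = g * z0 ^ j * g⁻¹ := fun g => conj_pow
  have hzp : ∀ y ∈ A, orderOf y = v → y ∈ zpowers (z0 ^ j) := by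
    intro y hy hyo
    have h1 : (Finset.univ.filter fun b : A => b ^ v = 1).card ≤ v := IsCyclic.card_pow_eq_one_le hv.pos
    have h2 : (Finset.univ.filter fun b : A => b ∈ zpowers (⟨z0 ^ j, hxA⟩ : A)) =
        (Finset.univ.filter fun b : A => b ^ v = 1) := by
      refine Finset.eq_of_subset_of_card_le ?_ ?_
      · intro b hb
        rw [Finset.mem_filter] at hb ⊢
        refine ⟨Finset.mem_univ _, ?_⟩
        obtain ⟨i, rfl⟩ := mem_zpowers_iff.1 hb.2
        have h3 : (⟨z0 ^ j, hxA⟩ : A) ^ v = 1 := by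
          apply Subtype.ext
          rw [Subgroup.coe_pow, ← hxo]
          exact pow_orderOf_eq_one _
        rw [← zpow_natCast, ← zpow_mul, mul_comm, zpow_mul, zpow_natCast, h3, one_zpow]
      · refine h1.trans (le_of_eq ?_)
        rw [← Fintype.card_subtype, ← Nat.card_eq_fintype_card]
        have h4 := Nat.card_zpowers (⟨z0 ^ j, hxA⟩ : A)
        rw [Subgroup.orderOf_mk, hxo] at h4
        exact h4.symm
    have h3 : (⟨y, hy⟩ : A) ∈ (Finset.univ.filter fun b : A => b ^ v = 1) := by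
      rw [Finset.mem_filter]
      refine ⟨Finset.mem_univ _, Subtype.ext ?_⟩
      rw [Subgroup.coe_pow, ← hyo]
      exact pow_orderOf_eq_one _
    rw [← h2, Finset.mem_filter] at h3
    obtain ⟨i, hi⟩ := mem_zpowers_iff.1 h3.2
    exact mem_zpowers_iff.2 ⟨i, by simpa using congrArg Subtype.val hi⟩
  rw [← Set.ncard_coe_finset, ← Nat.card_coe_set_eq]
  refine Nat.card_le_card_of_injective
    (fun y : ((S.filter fun y => (QuotientGroup.mk (φ y) : Cfsg.Out T) = k : Finset T) : Set T) =>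
      (⟨(y : T) ^ j, ?_, ?_⟩ : conjPow (z0 ^ j))) ?_
  · have hy := y.2
    rw [Finset.mem_coe] at hy
    obtain ⟨g, hg⟩ := hconj y hy
    have hyA := (hS y (Finset.mem_filter.1 hy).1).1
    refine hzp _ (pow_mem hyA j) ?_
    rw [← hg, hpow, orderOf_conj, hxo]
  · have hy := y.2
    rw [Finset.mem_coe] at hy
    obtain ⟨g, hg⟩ := hconj y hy
    exact ⟨g, by rw [← hg, hpow]⟩
  · intro y y' hyy
    have h1 : (y : T) ^ j = (y' : T) ^ j := congrArg Subtype.val hyy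
    have hy := y.2
    have hy' := y'.2
    rw [Finset.mem_coe] at hy hy'
    obtain ⟨g, hg⟩ := hconj y hy
    obtain ⟨g', hg'⟩ := hconj y' hy'
    apply Subtype.ext
    rw [← hg, ← hg', hpow, hpow] at h1
    have h2 : g'⁻¹ * g ∈ A := by
      rw [← hC _ hxA hxo, mem_centralizer_singleton_iff]
      calc g'⁻¹ * g * z0 ^ j = g'⁻¹ * (g * z0 ^ j * g⁻¹) * g := by group
        _ = g'⁻¹ * (g' * z0 ^ j * g'⁻¹) * g := by rw [h1]
        _ = _ := by group
    have h3 := hcomm _ h2 _ hz0A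
    rw [← hg, ← hg']
    calc g * z0 * g⁻¹ = g' * (g'⁻¹ * g * z0) * g⁻¹ := by group
      _ = g' * (z0 * (g'⁻¹ * g)) * g⁻¹ := by rw [h3]
      _ = _ := by group

/-- **Counting in a cyclic torus.** -/
theorem not_SCC_of_count {v N c o : ℕ} (hv : v.Prime) {A : Subgroup T} (hcyc : IsCyclic A) (hN : Nat.card A = N)
    (hvN : v ∣ N) (hC : ∀ x ∈ A, orderOf x = v → centralizer ({x} : Set T) = A)
    (hc : ∀ x ∈ A, orderOf x = v → Nat.card (conjPow x) ≤ c) (hO : Nat.card (Cfsg.Out T) ≤ o)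
    (hlt : v * (2 * (o * c)) < N * (v - 1)) : ¬ SCC T v := by
  classical
  rintro ⟨a, b, hab⟩
  have := Fintype.ofFinite T
  have hcomm : ∀ a ∈ A, ∀ b ∈ A, a * b = b * a := by
    intro a ha b hb
    have := (IsCyclic.commGroup (α := A)).mul_comm ⟨a, ha⟩ ⟨b, hb⟩
    exact congrArg Subtype.val this
  have := Fact.mk hv
  obtain ⟨x, hx⟩ := exists_prime_orderOf_dvd_card' (G := A) v (by rw [hN]; exact hvN)
  have hx' : orderOf (x : T) = v := by rw [Subgroup.orderOf_coe, hx]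
  -- the `v`-regular elements
  let R : Finset T := Finset.univ.filter fun z => z ∈ A ∧ ¬ v ∣ orderOf z
  let S : Finset T := Finset.univ.filter fun z => z ∈ A ∧ v ∣ orderOf z
  have hRS : R.card + S.card = N := by
    have h1 : (Finset.univ.filter fun z => z ∈ A).card = N := by
      rw [← hN, Nat.card_eq_fintype_card, Fintype.card_subtype]
    rw [← h1, ← Finset.card_filter_add_card_filter_not (s := Finset.univ.filter fun z => z ∈ A)
      (fun z => ¬ v ∣ orderOf z)]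
    congr 2
    · ext z; simp only [R, _root_.Finset.mem_filter, _root_.Finset.mem_univ, _root_.true_and]
    · ext z; simp only [S, _root_.Finset.mem_filter, _root_.Finset.mem_univ, _root_.true_and, _root_.Decidable.not_not]
  have hR : R.card * v ≤ N := by
    have h1 : (R ×ˢ (Finset.range v)).card = R.card * v := by rw [Finset.card_product, Finset.card_range]
    have h2 : (Finset.univ.filter fun z => z ∈ A).card = N := by
      rw [← hN, Nat.card_eq_fintype_card, Fintype.card_subtype]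
    rw [← h1, ← h2]
    refine Finset.card_le_card_of_injOn (fun p => p.1 * (x : T) ^ p.2) ?_ ?_
    · rintro ⟨z, i⟩ hz
      rw [Finset.mem_coe, Finset.mem_product, Finset.mem_filter] at hz
      rw [Finset.mem_coe, Finset.mem_filter]
      exact ⟨Finset.mem_univ _, mul_mem hz.1.2.1 (pow_mem x.2 _)⟩
    · rintro ⟨z, i⟩ hz ⟨z', i'⟩ hz' he
      rw [Finset.mem_coe, Finset.mem_product, Finset.mem_filter, Finset.mem_range] at hz hz'
      obtain ⟨⟨-, hzA, hzv⟩, hi⟩ := hz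
      obtain ⟨⟨-, hzA', hzv'⟩, hi'⟩ := hz'
      have he' : z * (x : T) ^ i = z' * (x : T) ^ i' := he
      have hco : (orderOf z * orderOf z').Coprime v := by
        rw [Nat.coprime_comm, Nat.Prime.coprime_iff_not_dvd hv, hv.dvd_mul]
        (clear * - hzv hzv'; tauto)
      -- `z'⁻¹ z = x^(i' - i)`
      have h3 : z'⁻¹ * z = (x : T) ^ ((i' : ℤ) - i) := by
        have h4 : z'⁻¹ * (z * (x : T) ^ i) * ((x : T) ^ i)⁻¹ = z'⁻¹ * (z' * (x : T) ^ i') * ((x : T) ^ i)⁻¹ := by rw [he']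
        rw [zpow_sub, zpow_natCast, zpow_natCast]
        have e1 : z'⁻¹ * (z * (x : T) ^ i) * ((x : T) ^ i)⁻¹ = z'⁻¹ * z := by group
        have e2 : z'⁻¹ * (z' * (x : T) ^ i') * ((x : T) ^ i)⁻¹ = (x : T) ^ i' * ((x : T) ^ i)⁻¹ := by group
        rw [← e1, h4, e2]
      have h4 : (z'⁻¹ * z) ^ (orderOf z * orderOf z') = 1 := by
        have hcm : Commute z'⁻¹ z := hcomm _ (inv_mem hzA') _ hzA
        rw [hcm.mul_pow, inv_pow]
        rw [mul_comm (orderOf z), pow_mul, pow_orderOf_eq_one, one_pow, inv_one, one_mul, mul_comm, pow_mul,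
          pow_orderOf_eq_one, one_pow]
      have h5 : (z'⁻¹ * z) ^ v = 1 := by
        rw [h3, ← zpow_natCast, ← zpow_mul, mul_comm, zpow_mul, zpow_natCast, ← hx', pow_orderOf_eq_one, one_zpow]
      have h6 : z'⁻¹ * z = 1 := by
        have h7 := orderOf_dvd_of_pow_eq_one h4
        have h8 := orderOf_dvd_of_pow_eq_one h5
        rw [← orderOf_eq_one_iff]
        exact Nat.dvd_one.1 (hco ▸ Nat.dvd_gcd h7 h8)
      have h7 : z = z' := by
        rw [inv_mul_eq_one] at h6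
        exact h6.symm
      have h8 : i = i' := by
        rw [h7] at he'
        have h9 := mul_left_cancel he'
        exact pow_injOn_Iio_orderOf (by rw [Set.mem_Iio, hx']; exact hi) (by rw [Set.mem_Iio, hx']; exact hi') h9
      rw [h7, h8]
  have hS : S.card ≤ 2 * (Nat.card (Cfsg.Out T) * c) := by
    have h1 : S ⊆ (S.filter fun z => ∃ φ : T ≃* T, φ a = z) ∪ (S.filter fun z => ∃ φ : T ≃* T, φ b = z) := by
      intro z hz
      rcases hab z (Finset.mem_filter.1 hz).2.2 with h | h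
      · exact Finset.mem_union_left _ (Finset.mem_filter.2 ⟨hz, h⟩)
      · exact Finset.mem_union_right _ (Finset.mem_filter.2 ⟨hz, h⟩)
    have h2 : ∀ d : T, (S.filter fun z => ∃ φ : T ≃* T, φ d = z).card ≤ Nat.card (Cfsg.Out T) * c := by
      intro d
      refine card_class_le hv hcyc hC hc d _ fun z hz => ?_
      rw [Finset.mem_filter, Finset.mem_filter] at hz
      exact ⟨hz.1.2.1, hz.1.2.2, hz.2⟩
    have h3 := Finset.card_le_card h1
    have h4 := Finset.card_union_le (S.filter fun z => ∃ φ : T ≃* T, φ a = z) (S.filter fun z => ∃ φ : T ≃* T, φ b = z)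
    have h5 := h2 a
    have h6 := h2 b
    omega
  have hoc : Nat.card (Cfsg.Out T) * c ≤ o * c := Nat.mul_le_mul_right _ hO
  have hv1 := hv.one_lt
  obtain ⟨w, rfl⟩ : ∃ w, v = w + 1 := ⟨v - 1, by omega⟩
  rw [Nat.add_sub_cancel] at hlt
  -- `N w ≤ (w + 1) |S|`
  have h1 : N * w ≤ (w + 1) * S.card := by nlinarith only [hRS, hR]
  have h2 : (w + 1) * S.card ≤ (w + 1) * (2 * (o * c)) := Nat.mul_le_mul_left _ (hS.trans (by omega))
  omega

/-- the order of a self-centralising cyclic torus of prime order gives the automizer -/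
theorem not_SCC_of_cent {a e o : ℕ} (ha : a.Prime) (hd : a ∣ Nat.card T)
    (h : ∀ x : T, orderOf x = a → Nat.card (centralizer ({x} : Set T)) = a) (hea : e < a) {N : ℤ}
    (hN : (Nat.card T : ℤ) = a * N) (hmod : ((N : ℤ) : ZMod a) = e) (hO : Nat.card (Cfsg.Out T) ≤ o)
    (hlt : 2 * (o * e) < a - 1) : ¬ SCC T a := by
  have := Fact.mk ha
  obtain ⟨x, hx⟩ := exists_prime_orderOf_dvd_card' (G := T) a hd
  have hcz : ∀ y ∈ zpowers x, y ≠ 1 → centralizer ({y} : Set T) = zpowers x := by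
    intro y hy hy1
    have hyo : orderOf y = a := by
      have h1 : orderOf y ∣ a := by
        rw [← hx]
        exact orderOf_dvd_of_mem_zpowers hy
      rcases (Nat.dvd_prime ha).1 h1 with h2 | h2
      · exact absurd (orderOf_eq_one_iff.1 h2) hy1
      · exact h2
    symm
    refine Subgroup.eq_of_le_of_card_ge ?_ ?_
    · rw [zpowers_le, mem_centralizer_singleton_iff]
      obtain ⟨k, rfl⟩ := mem_zpowers_iff.1 hy
      rw [← zpow_one_add, ← zpow_add_one, add_comm]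
    · rw [h y hyo, Nat.card_zpowers, hx]
  have hcc := cc_of_cyclic (T := zpowers x) inferInstance hcz
  have hcard : Nat.card (zpowers x) = a := by rw [Nat.card_zpowers, hx]
  have he := eIdx_of_int hcc hcard hea ha.one_lt hN hmod
  have hne : ∀ y : T, orderOf y = a → y ≠ 1 := by
    rintro y hy rfl
    rw [orderOf_one] at hy
    exact ha.one_lt.ne hy
  refine not_SCC_of_count (c := e) ha (A := zpowers x) inferInstance hcard dvd_rfl
    (fun y hy hyo => hcz y hy (hne y hyo)) (fun y hy hyo => ?_) hO ?_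
  · rw [← he]
    exact card_conjPow_le_eIdx hcc hy (hne y hyo)
  · exact Nat.mul_lt_mul_of_pos_left hlt ha.pos

/-- a cyclic torus given by orders: `|C(x)| = N` for all `x` of order `v`, an element of order `N` -/
theorem exists_torus {v N : ℕ} (h : ∀ x : T, orderOf x = v → Nat.card (centralizer ({x} : Set T)) = N) {g : T} (hg : orderOf g = N) :
    ∀ x ∈ zpowers g, orderOf x = v → centralizer ({x} : Set T) = zpowers g := by
  intro x hx hxo
  symm
  refine Subgroup.eq_of_le_of_card_ge ?_ ?_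
  · rw [zpowers_le, mem_centralizer_singleton_iff]
    obtain ⟨k, rfl⟩ := mem_zpowers_iff.1 hx
    rw [← zpow_one_add, ← zpow_add_one, add_comm]
  · rw [h x hxo, Nat.card_zpowers, hg]

end Cfsg.Agent.H632.Der
end

-- part: H632/Der/Eig
section
/-!
# The automizer of a semisimple element of prime order of a linear group (helper632)

`card_conjPow_le` : `x` of prime order `v ≠ char K` in `T ≤ GL n K`: at most `n` powers of `x` are conjugate to `x`.
-/

set_option autoImplicit false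

namespace Cfsg.Agent.H632.Der

open Subgroup Cfsg.Agent.H439.Der Polynomial

universe u

section spec

variable {n : Type*} [Fintype n] [DecidableEq n] {L : Type*} [Field L] [IsAlgClosed L]

/-- an eigenvalue `λ ≠ 1` with `λ ^ v = 1` -/
theorem exists_eig [Nonempty n] {v : ℕ} (hvL : (v : L) ≠ 0) {M : Matrix n n L} (hM : M ^ v = 1) (hM1 : M ≠ 1) :
    ∃ μ ∈ spectrum L M, μ ^ v = 1 ∧ μ ≠ 1 := by
  let Q : L[X] := ∑ i ∈ Finset.range v, X ^ i
  have hQ : (X - 1) * Q = X ^ v - 1 := by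
    rw [mul_comm]; exact geom_sum_mul X v
  have h1 : (M - 1) * aeval M Q = 0 := by
    have h2 := congrArg (aeval M) hQ
    rw [map_mul, map_sub, map_sub, map_pow, aeval_X, map_one, hM, sub_self] at h2
    exact h2
  have h2 : ¬ IsUnit (aeval M Q) := by
    intro h3
    have h4 : M - 1 = 0 := by
      have h5 : (M - 1) * aeval M Q = 0 * aeval M Q := by rw [h1, zero_mul]
      exact h3.mul_right_cancel h5
    exact hM1 (sub_eq_zero.1 h4)
  have h3 : (0 : L) ∈ spectrum L (aeval M Q) := by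
    rw [spectrum.zero_mem_iff]
    exact h2
  have hne : (spectrum L M).Nonempty := spectrum.nonempty_of_isAlgClosed_of_finiteDimensional L M
  rw [spectrum.map_polynomial_aeval_of_nonempty M Q hne] at h3
  obtain ⟨μ, hμ, h4⟩ := h3
  have h4' : eval μ Q = 0 := h4
  refine ⟨μ, hμ, ?_, ?_⟩
  · have h5 := congrArg (eval μ) hQ
    rw [eval_mul, h4', mul_zero, eval_sub, eval_pow, eval_X, eval_one] at h5
    exact (sub_eq_zero.1 h5.symm)
  · rintro rfl
    apply hvL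
    simpa only [Q, eval_finsetSum, _root_.Polynomial.eval_pow, _root_.Polynomial.eval_X, _root_.one_pow, _root_.Finset.sum_const, _root_.Finset.card_range, _root_.nsmul_eq_mul, _root_.mul_one] using h4'

omit [IsAlgClosed L] in
/-- at most `|n|` powers of an eigenvalue -/
theorem card_le_of_spectrum {M : Matrix n n L} (S : Finset L) (hS : ∀ a ∈ S, a ∈ spectrum L M) :
    S.card ≤ Fintype.card n := by
  classical
  have h1 : S ⊆ M.charpoly.roots.toFinset := by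
    intro a ha
    rw [Multiset.mem_toFinset, mem_roots (Matrix.charpoly_monic M).ne_zero,
      ← Matrix.mem_spectrum_iff_isRoot_charpoly]
    exact hS a ha
  refine (Finset.card_le_card h1).trans ((Multiset.toFinset_card_le _).trans ((card_roots' _).trans ?_))
  rw [Matrix.charpoly_natDegree_eq_dim]

end spec

variable {T : Type u} [Group T] [Finite T]

/-- **At most `n` powers of `x` are conjugate to `x`.** -/
theorem card_conjPow_le {n : Type*} [Fintype n] [DecidableEq n] {K : Type*} [Field K] (ρ : T →* GL n K)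
    (hρ : Function.Injective ρ) {v : ℕ} (hv : v.Prime) (hvK : (v : K) ≠ 0) {x : T} (hx : orderOf x = v) :
    Nat.card (conjPow x) ≤ Fintype.card n := by
  classical
  let L := AlgebraicClosure K
  let f : Matrix n n K →+* Matrix n n L := (algebraMap K L).mapMatrix
  have hf : Function.Injective f := by
    intro A B hAB
    ext i j
    have := congrFun (congrFun hAB i) j
    exact (algebraMap K L).injective this
  let τ : T →* Matrix n n L := f.toMonoidHom.comp ((Units.coeHom _).comp ρ)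
  have hτ : Function.Injective τ := by
    intro a b hab
    exact hρ (Units.ext (hf hab))
  have hx1 : x ≠ 1 := by
    rintro rfl
    rw [orderOf_one] at hx
    exact hv.one_lt.ne hx
  have hne : Nonempty n := by
    by_contra hn
    rw [not_nonempty_iff] at hn
    exact hx1 (hτ (Subsingleton.elim _ _))
  have hvL : (v : L) ≠ 0 := by
    intro h
    apply hvK
    apply (algebraMap K L).injective
    rw [map_natCast, map_zero, h]
  obtain ⟨μ, hμ, hμv, hμ1⟩ := exists_eig (M := τ x) hvL (by rw [← map_pow, ← hx, pow_orderOf_eq_one, map_one])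
    (fun h => hx1 (hτ (h.trans (map_one τ).symm)))
  have := Fact.mk hv
  have hμo : orderOf μ = v := orderOf_eq_prime hμv hμ1
  -- the powers
  have hk : ∀ y : conjPow x, ∃ k : ℕ, x ^ k = y := by
    rintro ⟨y, hy, -⟩
    have := mem_powers_iff_mem_zpowers.2 hy
    exact this
  choose k hk using hk
  have hspec : ∀ y : conjPow x, μ ^ k y ∈ spectrum L (τ x) := by
    intro y
    have h1 : μ ^ k y ∈ spectrum L ((τ x) ^ k y) := by
      have h2 := spectrum.map_polynomial_aeval_of_nonempty (τ x) (X ^ k y : L[X]) ⟨μ, hμ⟩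
      rw [map_pow, aeval_X] at h2
      rw [h2]
      exact ⟨μ, hμ, by simp⟩
    rw [← map_pow, hk y] at h1
    obtain ⟨g, hg⟩ := y.2.2
    rw [← hg, map_mul, map_mul] at h1
    have h3 : τ g * τ x * τ g⁻¹ = (Units.mk (τ g) (τ g⁻¹) (by rw [← map_mul, mul_inv_cancel, map_one])
      (by rw [← map_mul, inv_mul_cancel, map_one]) : (Matrix n n L)ˣ) * τ x *
      ((Units.mk (τ g) (τ g⁻¹) (by rw [← map_mul, mul_inv_cancel, map_one])
      (by rw [← map_mul, inv_mul_cancel, map_one]) : (Matrix n n L)ˣ)⁻¹ : (Matrix n n L)ˣ) := rfl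
    rw [h3, spectrum.units_conjugate] at h1
    exact h1
  have := Fintype.ofFinite (conjPow x)
  have hinj : Function.Injective fun y : conjPow x => μ ^ k y := by
    intro y y' h
    apply Subtype.ext
    rw [← hk y, ← hk y']
    have h' : μ ^ k y = μ ^ k y' := h
    have hμ0 : μ ≠ 0 := by
      rintro rfl
      rw [zero_pow hv.ne_zero] at hμv
      exact zero_ne_one hμv
    have h'' : (Units.mk0 μ hμ0) ^ k y = (Units.mk0 μ hμ0) ^ k y' := Units.ext (by simpa only [_root_.Units.val_pow_eq_pow_val, _root_.Units.val_mk0] using h')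
    have hμo' : orderOf (Units.mk0 μ hμ0) = v := by rw [← orderOf_units, Units.val_mk0, hμo]
    rw [pow_inj_mod, hμo'] at h''
    rw [pow_inj_mod, hx]
    exact h''
  have h1 := card_le_of_spectrum (M := τ x) (Finset.univ.image fun y : conjPow x => μ ^ k y) (fun a ha => by
    obtain ⟨y, -, rfl⟩ := Finset.mem_image.1 ha
    exact hspec y)
  rwa [Finset.card_image_of_injective _ hinj, Finset.card_univ, ← Nat.card_eq_fintype_card] at h1

end Cfsg.Agent.H632.Der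
end

-- part: H83/ExcNc
section
/-!
# Elements of prime order whose centralisers are not cyclic, untwisted groups (helper83)

* `not_cc_of_nc` : an element commuting with two elements which do not commute;
* `not_cc_char` : a group of matrices of degree `≤ p²` and of order divisible by `p³`, in characteristic `p`;
* `not_cc_row` : Lemma R of helper378 with `X_a` and `X_{-a}`;
* `adj_tor` : two primes dividing `f(q)` are adjacent;
* `g2_card`, `f4_card`, `e6_card`.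
-/

set_option autoImplicit false
set_option linter.unusedSectionVars false

namespace Cfsg.Agent.H83.ExcNc

open CoxeterSystem Subgroup Cfsg Cfsg.Lie Cfsg.Lie.ChevalleyDatum Cfsg.Agent.H190.Exc
open Cfsg.Agent.ChevalleyStructure Cfsg.Agent.ChevalleyStructure.Elts Cfsg.Agent.ChevalleyStructure.CoxeterGeom
  Cfsg.Agent.ChevalleyStructure.CoxeterGeomTypes Cfsg.Agent.ChevalleyStructure.NPerm
open Cfsg.Agent.Tits.Roots Cfsg.Agent.Tits.Core Cfsg.Agent.Nodes.Reps Cfsg.Agent.Nodes.BNOf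
  Cfsg.Agent.Nodes.RGDChev Cfsg.Agent.Nodes.Bruhat
open Cfsg.Agent.KFacts.RgdField Cfsg.Agent.KFacts.RgdChevCoord Cfsg.Agent.BpExc.TorCent Cfsg.Agent.BpExc.TorChev
open Cfsg.Agent.BpExc.Tow Cfsg.Agent.BpExc.TowChev Cfsg.Agent.BpExc.FamExt Cfsg.Agent.BpExc.FamUntw
  Cfsg.Agent.BpExc.FamInst Cfsg.Agent.BpExc.LangFr Cfsg.Agent.BpExc.FamField
open Cfsg.Agent.GpExc.Field (glMap emb coe_emb glMap_xG emb_injective coe_glMap)
open Cfsg.Agent.H378.TorDual Cfsg.Agent.H378.TorChar Cfsg.Agent.H378.TorFin Cfsg.Agent.H378.RankOne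
  Cfsg.Agent.H378.RootTor Cfsg.Agent.H378
open Cfsg.Agent.H493.PGTorus Cfsg.Agent.H129.WData

universe u v

/-! ### abstract -/

/-! ### the characteristic -/

variable {D : ChevalleyDatum} {l : ℕ} {M : CoxeterMatrix (Fin l)} (hp : IsType D l M) {k : Type u} [Field k]
  {W : Type*} [Group W] (cs : CoxeterSystem M W)

/-! ### the finite group -/

section Main

variable [IsAlgClosed k] (hk : LocFin k) (r : ℕ) [Fact r.Prime] [CharP k r]
  {F : Type u} [Field F] [Finite F] (f : F →+* k) {n : ℕ} (hn0 : 0 < n) (hn : Nat.card F = r ^ n)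
  {d : ℕ} {B : Fin l → Fin l → ℤ} (hB : InvC D l d B) (hd : d ≠ 0)

end Main

variable [Finite W]

end Cfsg.Agent.H83.ExcNc
end

-- part: H632/Der/ThreeRow
section
/-!
# Elements of order 3 in rank one subgroups in characteristic 2 (helper632)

`u v u` swaps `A ∋ u` and `B ∋ v`, `u² = v² = 1`: `(u v)³ = 1`.  Hence in characteristic 2 the elements of prime order
`ℓ` of the rows of helper378 commute with elements of order 3.

* `adj_three_row`, `adj_char_row` : adjacency to `3` (`p = 2`) and to `p`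
* `adj_three_split`, `adj_char_split` : the same for `ℓ ∣ q - 1`
-/

set_option autoImplicit false
set_option linter.unusedSectionVars false

namespace Cfsg.Agent.H632.Der

open CoxeterSystem Subgroup Cfsg Cfsg.Lie Cfsg.Lie.ChevalleyDatum
open Cfsg.Agent.ChevalleyStructure Cfsg.Agent.ChevalleyStructure.Elts Cfsg.Agent.ChevalleyStructure.CoxeterGeom
  Cfsg.Agent.ChevalleyStructure.CoxeterGeomTypes Cfsg.Agent.ChevalleyStructure.NPerm
open Cfsg.Agent.Tits.Roots Cfsg.Agent.Tits.Core Cfsg.Agent.Nodes.Reps Cfsg.Agent.Nodes.BNOf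
  Cfsg.Agent.Nodes.RGDChev Cfsg.Agent.Nodes.Bruhat
open Cfsg.Agent.KFacts.RgdField Cfsg.Agent.KFacts.RgdChevCoord Cfsg.Agent.BpExc.TorCent Cfsg.Agent.BpExc.TorChev
open Cfsg.Agent.BpExc.Tow Cfsg.Agent.BpExc.TowChev Cfsg.Agent.BpExc.FamExt Cfsg.Agent.BpExc.FamUntw
  Cfsg.Agent.BpExc.FamInst Cfsg.Agent.BpExc.LangFr Cfsg.Agent.BpExc.FamField
open Cfsg.Agent.GpExc.Field (glMap emb coe_emb glMap_xG emb_injective coe_glMap)
open Cfsg.Agent.H378.TorDual Cfsg.Agent.H378.TorChar Cfsg.Agent.H378.TorFin Cfsg.Agent.H378.RankOne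
open Cfsg.Agent.H378 Cfsg.Agent.H378.RootTor Cfsg.Agent.H378.SmallTor
open Cfsg.Agent.H493.PGTorus Cfsg.Agent.H129.WData

universe u v

/-! ### abstract -/

theorem swap_pow_three {Y : Type*} [Group Y] {A B : Subgroup Y} {u v : Y} (h : Swap A B (u * v * u)) (hu : u ∈ A)
    (hv : v ∈ B) (hu2 : u ^ 2 = 1) (hv2 : v ^ 2 = 1) : (u * v) ^ 3 = 1 := by
  have hui : u⁻¹ = u := by rw [inv_eq_iff_mul_eq_one, ← pow_two, hu2]
  have hvi : v⁻¹ = v := by rw [inv_eq_iff_mul_eq_one, ← pow_two, hv2]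
  have hn : (u * v * u)⁻¹ = u * v * u := by rw [mul_inv_rev, mul_inv_rev, hui, hvi]; group
  have huu : u * u = 1 := by rw [← pow_two, hu2]
  have hvv : v * v = 1 := by rw [← pow_two, hv2]
  have h1 : (u * v * u) * u * (u * v * u)⁻¹ ∈ B := (h.ab u).2 hu
  have h2 : (u * v * u) * v * (u * v * u)⁻¹ ∈ A := (h.ba v).2 hv
  have e1 : (u * v * u) * u * (u * v * u)⁻¹ * v = (u * v) ^ 3 := by
    rw [hn]
    calc (u * v * u) * u * (u * v * u) * v = u * v * (u * u) * (u * v * u) * v := by group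
      _ = u * v * (u * v * u) * v := by rw [huu, mul_one]
      _ = (u * v) ^ 3 := by rw [pow_succ, pow_two]; group
  have e2 : (u * v * u) * v * (u * v * u)⁻¹ * u = (u * v) ^ 3 := by
    rw [hn]
    calc (u * v * u) * v * (u * v * u) * u = u * v * u * v * (u * v) * (u * u) := by group
      _ = u * v * u * v * (u * v) := by rw [huu, mul_one]
      _ = (u * v) ^ 3 := by rw [pow_succ, pow_two]; group
  have h3 : (u * v) ^ 3 ∈ B := e1 ▸ mul_mem h1 hv
  have h4 : (u * v) ^ 3 ∈ A := e2 ▸ mul_mem h2 hu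
  exact h.nor _ h3 fun y hy => mul_mem (mul_mem h4 hy) (inv_mem h4)

theorem swap_order_three {Y : Type*} [Group Y] {A B : Subgroup Y} {u v : Y} (h : Swap A B (u * v * u)) (hu : u ∈ A)
    (hu1 : u ≠ 1) (hv : v ∈ B) (hu2 : u ^ 2 = 1) (hv2 : v ^ 2 = 1) : orderOf (u * v) = 3 := by
  have := Fact.mk Nat.prime_three
  refine orderOf_eq_prime (swap_pow_three h hu hv hu2 hv2) fun h1 => ?_
  have h2 : u⁻¹ = v := inv_eq_of_mul_eq_one_right h1
  have h3 : u ∈ B := by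
    rw [← inv_inv u, h2]
    exact inv_mem hv
  exact hu1 (h.nor u h3 fun y hy => mul_mem (mul_mem hu hy) (inv_mem hu))

variable {D : ChevalleyDatum} {l : ℕ} {M : CoxeterMatrix (Fin l)} (hp : IsType D l M)
  {W : Type*} [Group W] (cs : CoxeterSystem M W)

section Main

variable {k : Type u} [Field k] [IsAlgClosed k] (hk : LocFin k) (r : ℕ) [Fact r.Prime] [CharP k r]
  {F : Type u} [Field F] [Finite F] (f : F →+* k) {n : ℕ} (hn0 : 0 < n) (hn : Nat.card F = r ^ n)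
  {d : ℕ} {B : Fin l → Fin l → ℤ} (hB : InvC D l d B) (hd : d ≠ 0)

include hk hn0 hn hB hd f in
theorem exists_three_aux (hr2 : r = 2) {w : W} {a : Fin l → ℤ} (ha : IsRoot cs hp.isCartan a)
    (hwa : rep cs hp.isCartan w a = a)
    {ℓ : ℕ} (hℓ : ℓ.Prime) (hℓq : ¬ ℓ ∣ Nat.card F - 1)
    (hy : ∃ y : Multiplicative (Co (rep cs hp.isCartan w - ((Nat.card F : ℕ) : ℤ) •
      (1 : Module.End ℤ (Fin l → ℤ)))), orderOf y = ℓ) :
    ∃ x y : ↥(D.group F), orderOf x = ℓ ∧ orderOf y = 3 ∧ Commute x y := by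
  have hcop : ∀ m : ℕ, m.Coprime (Nat.card F - 1) → m.Coprime (Nat.gcd d (Nat.card F - 1)) := fun m hm =>
    Nat.Coprime.coprime_dvd_right (Nat.gcd_dvd_right _ _) hm
  have hℓc : ℓ.Coprime (Nat.card F - 1) := (Nat.Prime.coprime_iff_not_dvd hℓ).2 hℓq
  have hrp : r.Prime := Fact.out
  have hrc : r.Coprime (Nat.card F - 1) := by
    rw [Nat.Prime.coprime_iff_not_dvd hrp]
    intro h1
    have h2 : r ∣ Nat.card F := by rw [hn]; exact dvd_pow_self _ hn0.ne'
    have h3 : 1 ≤ Nat.card F := Nat.card_pos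
    have h4 : r ∣ 1 := by
      have := (Nat.dvd_sub h2 h1)
      have e : Nat.card F - (Nat.card F - 1) = 1 := by omega
      rwa [e] at this
    exact hrp.one_lt.ne' (Nat.dvd_one.1 h4)
  have hinj := emb_injective hp.inList f
  rw [hn] at hy
  obtain ⟨g, hg⟩ := exists_rp cs (nsysL hp cs hk r) w
  obtain ⟨z, hz⟩ := lang' hp r hn0 g
  obtain ⟨e, he⟩ := twEquiv hp cs r hk hB hd hg (m := n)
  obtain ⟨e'⟩ := kerOf_equiv k (det_rep_ne_zero cs r hn0 hp.isCartan w)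
  obtain ⟨y, hy⟩ := hy
  -- the torus element
  obtain ⟨t, ht⟩ : ∃ t : ↥(TwT D k r n g), t = e.symm (e'.symm y) := ⟨_, rfl⟩
  have hto : orderOf t = ℓ := by
    rw [ht, MulEquiv.orderOf_eq, MulEquiv.orderOf_eq, hy]
  have hto' : orderOf t.1 = ℓ := by rw [Subgroup.orderOf_coe, hto]
  have htT : t.1 ∈ TT D k := t.2.1
  have htau : tau D k r n g t.1 = t.1 := t.2.2
  have htℓ : t.1 ^ ℓ = 1 := by rw [← hto']; exact pow_orderOf_eq_one _
  have hχK := (mem_TwT_iff hp cs r hk hg htT).1 t.2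
  have hχℓ : tchar hp ⟨t.1, htT⟩ ^ ℓ = 1 := Regular.tchar_pow_eq_one hp htT htℓ
  have hna : IsRoot cs hp.isCartan (-a) := ha.neg
  have hwna : rep cs hp.isCartan w (-a) = -a := by rw [map_neg, hwa]
  have hℓn : ℓ.Coprime (r ^ n - 1) := by rw [← hn]; exact hℓc
  have hca := chi_eq_one (k := k) hp cs r hχK hwa hχℓ hℓn
  have hcna := chi_eq_one (k := k) hp cs r hχK hwna hχℓ hℓn
  -- the root element
  obtain ⟨u, hu, hu1, hur, huτ⟩ := exists_fixed_x hp cs hk r hn0 hg ha hwa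
  obtain ⟨v, hv, hS⟩ := exists_swap hp cs hk r ha hu hu1
  have hvτ : tau D k r n g v = v := hS.fix hu hv (tau_surjective r) (tau_X hp cs hk r hg ha hwa)
    (fun y hy => (tau_X hp cs hk r hg hna hwna y).2 hy) huτ
  have hvr : v ^ r = 1 := X_pow hp cs r hna hv
  have htu : t.1 * u = u * t.1 := comm_X hp cs hk r htT ha hca hu
  have htv : t.1 * v = v * t.1 := comm_X hp cs hk r htT hna hcna hv
  -- in the finite group
  have hcp : ∀ (y : ↥(D.group k)) (j : ℕ), (z * y * z⁻¹) ^ j = z * y ^ j * z⁻¹ := fun y j => conj_pow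
  obtain ⟨x, hx⟩ := mem_of_pow hp f r hn hB hd (fix_of_tau r hz htau) (m := ℓ)
    (by rw [hcp, htℓ]; group) (hcop _ hℓc)
  obtain ⟨u', hu'⟩ := mem_of_pow hp f r hn hB hd (fix_of_tau r hz huτ) (m := r)
    (by rw [hcp, hur]; group) (hcop _ hrc)
  obtain ⟨v', hv'⟩ := mem_of_pow hp f r hn hB hd (fix_of_tau r hz hvτ) (m := r)
    (by rw [hcp, hvr]; group) (hcop _ hrc)
  have hco : ∀ y : ↥(D.group k), orderOf (z * y * z⁻¹) = orderOf y := fun y => by
    have h1 : z * y * z⁻¹ = MulAut.conj z y := rfl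
    rw [h1, MulEquiv.orderOf_eq]
  have hor : ∀ y : ↥(D.group F), orderOf (emb hp.inList f y) = orderOf y := fun y => orderOf_injective _ hinj y
  have huv : emb hp.inList f (u' * v') = z * (u * v) * z⁻¹ := by
    rw [map_mul, hu', hv']; group
  refine ⟨x, u' * v', ?_, ?_, ?_⟩
  · rw [← hor, hx, hco, hto']
  · rw [← hor, huv, hco]
    subst hr2
    exact swap_order_three hS hu hu1 hv hur hvr
  · apply hinj
    have hm1 : emb hp.inList f (x * (u' * v')) = emb hp.inList f x * emb hp.inList f (u' * v') := map_mul _ _ _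
    have hm2 : emb hp.inList f (u' * v' * x) = emb hp.inList f (u' * v') * emb hp.inList f x := map_mul _ _ _
    rw [hm1, hm2, hx, huv]
    have h2 : t.1 * (u * v) = u * v * t.1 := by
      calc t.1 * (u * v) = t.1 * u * v := by group
        _ = u * (t.1 * v) := by rw [htu]; group
        _ = _ := by rw [htv]; group
    calc z * t.1 * z⁻¹ * (z * (u * v) * z⁻¹) = z * (t.1 * (u * v)) * z⁻¹ := by group
      _ = z * (u * v * t.1) * z⁻¹ := by rw [h2]
      _ = _ := by group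

end Main

theorem exists_three {d : ℕ} {B : Fin l → Fin l → ℤ} (hB : InvC D l d B) (hd : d ≠ 0) {F : Type u} [Field F] [Finite F]
    [CharP F 2] {w : W} {a : Fin l → ℤ} (ha : IsRoot cs hp.isCartan a) (hwa : rep cs hp.isCartan w a = a)
    {ℓ : ℕ} (hℓ : ℓ.Prime) (hℓq : ¬ ℓ ∣ Nat.card F - 1)
    (hy : ∃ y : Multiplicative (Co (rep cs hp.isCartan w - ((Nat.card F : ℕ) : ℤ) •
      (1 : Module.End ℤ (Fin l → ℤ)))), orderOf y = ℓ) :
    ∃ x y : ↥(D.group F), orderOf x = ℓ ∧ orderOf y = 3 ∧ Commute x y := by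
  obtain ⟨k, _, _, f, r, _, hc, n, hk, -, hn0, hn⟩ := exists_closure F
  have hrp : r = 2 := by
    have := charP_of_injective_ringHom f.injective 2
    exact CharP.eq k hc this
  exact exists_three_aux hp cs hk r f hn0 hn hB hd hrp ha hwa hℓ hℓq hy

variable [Finite W]

include hp cs in
/-- **Adjacency to `3` from a row**, `p = 2`. -/
theorem adj_three_row {d : ℕ} {B : Fin l → Fin l → ℤ} (hB : InvC D l d B) (hd0 : d ≠ 0) {A : Mat l}
    (hA : ∀ i j, A i j = cartanOf D l i j) {L : List (Fin l × Mat l)} {r : ℕ} (hr : r < D.nroots)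
    {f : ℕ} {c : Fin (f + 1) → ℤ} {V : Fin (f + 1) → Fin l → ℤ} {U : Fin l → ℤ}
    (h : AdjTab.RowOK A L (vec D l r) c V U) {F : Type u} [Field F] [Finite F] [CharP F 2] {ℓ : ℕ} (hℓ : ℓ.Prime)
    (hℓ3 : ℓ ≠ 3)
    (hℓq : ¬ ℓ ∣ Nat.card F - 1) (hdv : (ℓ : ℤ) ∣ pv c (Nat.card F : ℕ)) : H94.PG.Adj ↥(D.group F) ℓ 3 := by
  obtain ⟨h1, h2, h3⟩ := h
  obtain ⟨x, y, hx, hy, hc⟩ := exists_three hp cs hB hd0 (isRoot_vec hp cs hr) (AdjTab.fixes_of_row hp cs hA h1 h2)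
    hℓ hℓq (AdjTab.exists_order_row hp cs hA h1 h3 Finite.one_lt_card hℓ.pos hdv)
  exact ⟨hℓ, Nat.prime_three, hℓ3, x, y, hx, hy, hc⟩

include hp cs in
/-- **Adjacency to `p` from a row.** -/
theorem adj_char_row {d : ℕ} {B : Fin l → Fin l → ℤ} (hB : InvC D l d B) (hd0 : d ≠ 0) {A : Mat l}
    (hA : ∀ i j, A i j = cartanOf D l i j) {L : List (Fin l × Mat l)} {r : ℕ} (hr : r < D.nroots)
    {f : ℕ} {c : Fin (f + 1) → ℤ} {V : Fin (f + 1) → Fin l → ℤ} {U : Fin l → ℤ}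
    (h : AdjTab.RowOK A L (vec D l r) c V U) {F : Type u} [Field F] [Finite F] {ℓ : ℕ} (hℓ : ℓ.Prime)
    {p : ℕ} [Fact p.Prime] [CharP F p] (hℓp : ℓ ≠ p)
    (hℓq : ¬ ℓ ∣ Nat.card F - 1) (hdv : (ℓ : ℤ) ∣ pv c (Nat.card F : ℕ)) : H94.PG.Adj ↥(D.group F) ℓ p := by
  obtain ⟨x, u, n, hx, hu, -, hc, -⟩ := AdjTab.exists_comm_row hp cs hB hd0 hA hr h hℓ hℓq hdv (p := p)
  exact ⟨hℓ, Fact.out, hℓp, x, u, hx, hu, hc⟩

section Split

variable {F : Type u} [Field F] [Finite F]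

include hp cs in
/-- **Primes dividing `q - 1`**: adjacency to the characteristic, and to 3 in characteristic 2. -/
theorem exists_split {j : Fin l} {r s : ℕ} (h : Orth D l j r s) {ℓ : ℕ} (hℓ : ℓ.Prime) (hℓ2 : ℓ ≠ 2)
    (hℓq : ℓ ∣ Nat.card F - 1) {p : ℕ} [Fact p.Prime] [CharP F p] : ∃ x u : ↥(D.group F), orderOf x = ℓ ∧
      orderOf u = p ∧ Commute x u ∧ (p = 2 → ∃ y, orderOf y = 3 ∧ Commute x y) := by
  have : Fact ℓ.Prime := ⟨hℓ⟩
  obtain ⟨ζ, hζ⟩ := exists_prime_orderOf_dvd_card' (G := Fˣ) ℓ (by rw [Nat.card_units]; exact hℓq)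
  have ha : (ζ : F) ≠ 0 := ζ.ne_zero
  have hm : (ζ : F) ^ ℓ = 1 := by
    rw [← Units.val_pow_eq_pow_val, ← hζ, pow_orderOf_eq_one, Units.val_one]
  have hk := locFin_of_finite F
  have C := coordsL hp cs hk p
  have hr : IsRoot cs hp.isCartan (vec D l r) := isRoot_vec hp cs h.hr
  have hu : xc hp (vec D l r) (1 : F) ∈ XX D l F (vec D l r) := (mem_XX hp h.hr).2 ⟨1, rfl⟩
  have hu1 : xc hp (vec D l r) (1 : F) ≠ 1 := (C.coord _ hr).ne_one one_ne_zero
  obtain ⟨v, hv, hS⟩ := exists_swap hp cs hk p hr hu hu1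
  have hT := hc_mem hp j ha
  have h1 : hc hp j (ζ : F) * xc hp (vec D l r) 1 = xc hp (vec D l r) 1 * hc hp j (ζ : F) := by
    have h2 := (C.coord _ hr).act _ hT 1
    rw [ch_hc hp j ha h.hr, h.zero, zpow_zero, one_mul] at h2
    exact mul_inv_eq_iff_eq_mul.1 h2
  have h2 : hc hp j (ζ : F) * v = v * hc hp j (ζ : F) := by
    obtain ⟨s', rfl⟩ := ((C.coord _ hr.neg).mem v).1 hv
    have h3 := (C.coord _ hr.neg).act _ hT s'
    rw [ch_neg hp h.hr j ha h.zero, one_mul] at h3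
    exact mul_inv_eq_iff_eq_mul.1 h3
  have hur := X_pow hp cs p hr hu
  have hvr := X_pow hp cs p hr.neg hv
  refine ⟨hc hp j (ζ : F), xc hp (vec D l r) 1, ?_, orderOf_eq_prime hur hu1, h1, fun hp2 => ?_⟩
  · refine orderOf_eq_prime (hc_pow_eq_one hp j ha hm) ?_
    refine hc_ne_one hp j ha (simple_lt hp.inList (lt_rank hp j)) ?_
    have h2 : D.cartan j (D.simple j) = 2 := by
      have h3 := pairing_vec hp j (simple_lt hp.inList (lt_rank hp j))
      rw [vec_simple hp j] at h3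
      rw [← h3]
      unfold CoxeterGeom.pairing
      rw [Finset.sum_eq_single j]
      · rw [sr_self, mul_one]
        exact hp.isCartan.diag j
      · intro i _ hi
        rw [sr_ne hi, mul_zero]
      · intro hj
        exact absurd (Finset.mem_univ j) hj
    rw [h2]
    intro h3
    have h4 : ζ ^ 2 = 1 := Units.ext (by
      rw [Units.val_pow_eq_pow_val, Units.val_one]
      exact_mod_cast h3)
    have h5 := orderOf_dvd_of_pow_eq_one h4
    rw [hζ] at h5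
    exact hℓ2 ((Nat.prime_dvd_prime_iff_eq hℓ Nat.prime_two).1 h5)
  · subst hp2
    exact ⟨xc hp (vec D l r) 1 * v, swap_order_three hS hu hu1 hv hur hvr, (Commute.mul_right h1 h2)⟩

end Split

end Cfsg.Agent.H632.Der
end

-- part: H632/Der/Ntc
section
/-!
# `NTC` from the prime graph (helper632)
-/

set_option autoImplicit false

namespace Cfsg.Agent.H632.Der

open Cfsg.Agent.H439.Der Cfsg.Agent.H378.ExcAdj
open Cfsg.Agent.H436 (Prim exists_prim)

theorem od_of_prim {q e r : ℕ} (hq : 1 ≤ q) (h : Prim q e r) : od q r = e := by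
  refine Nat.dvd_antisymm (od_dvd hq ((h.dvd_iff e).2 dvd_rfl)) ?_
  rw [← h.dvd_iff]
  exact dvd_of_od_dvd hq dvd_rfl

theorem prim_of_od {q e r : ℕ} (hq : 1 ≤ q) (hr : r.Prime) (he : 0 < e) (h : od q r = e) : Prim q e r := by
  refine ⟨hr, fun m => ⟨fun h1 => h ▸ od_dvd hq h1, fun h1 => dvd_of_od_dvd hq (by rw [h]; exact h1)⟩, fun h1 => ?_⟩
  have h2 : r ∣ q ^ e - 1 := dvd_of_od_dvd hq (by rw [h])
  have h3 : 1 ≤ q ^ e := Nat.one_le_pow _ _ hq
  have h4 := Nat.dvd_sub (dvd_pow h1 he.ne') h2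
  have e1 : q ^ e - (q ^ e - 1) = 1 := by omega
  rw [e1] at h4
  exact hr.one_lt.ne' (Nat.dvd_one.1 h4)

/-- an auxiliary prime dividing `q² + 1` -/
theorem exists_four {q : ℕ} (hq : 2 ≤ q) : ∃ r, r.Prime ∧ 5 ≤ r ∧ ¬ r ∣ q ∧ od q r = 4 := by
  obtain ⟨r, hr⟩ := exists_prim (q := q) (e := 4) hq (by norm_num) (by norm_num)
  have h1 := od_of_prim (by omega) hr
  refine ⟨r, hr.prime, ?_, hr.not_dvd, h1⟩
  have h2 := H378.ExcNear.mod_of_od hr.prime h1 (by norm_num)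
  have h3 := hr.prime.two_le
  have h4 := Nat.le_of_dvd (by omega) h2
  omega

/-- **`NTC` from the prime graph.** -/
theorem ntc_of {G : Type*} [Group G] [Finite G] {p l : ℕ} (h5 : 5 ≤ l) (hlp : l ≠ p)
    (h32 : H94.PG.Adj G 3 2) (hl2 : H94.PG.Adj G l 2) (hlp' : p ≠ 2 → H94.PG.Adj G l p)
    (hl3 : p = 2 → H94.PG.Adj G l 3) (hp2 : p ≠ 2 → H94.PG.Adj G p 2)
    (H : ∀ v, v.Prime → v ∣ Nat.card G → v ≠ 2 → v ≠ p →
      (H94.PG.Adj G v 2 ∧ (p ≠ 2 → H94.PG.Adj G v p) ∧ (p = 2 → v ≠ 3 → H94.PG.Adj G v 3)) ∨ ¬ SCC G v) : NTC G := by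
  intro v hv hd
  by_cases hv2 : v = 2
  · subst hv2
    exact not_SCC_of_two_adj h32.symm hl2.symm (by omega)
  by_cases hvp : v = p
  · subst hvp
    exact not_SCC_of_two_adj (hp2 hv2) (hlp' hv2).symm (by omega)
  rcases H v hv hd hv2 hvp with ⟨h1, h2, h3⟩ | h
  · by_cases hp : p = 2
    · by_cases hv3 : v = 3
      · subst hv3
        exact not_SCC_of_two_adj h1 (hl3 hp).symm (by omega)
      · exact not_SCC_of_two_adj h1 (h3 hp hv3) (by norm_num)
    · exact not_SCC_of_two_adj h1 (h2 hp) (Ne.symm hp)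
  · exact h

end Cfsg.Agent.H632.Der
end

-- part: H632/Der/Rows
section
/-!
# `NTC` from the prime graph: rows and tori (helper632)
-/

set_option autoImplicit false
set_option linter.unusedSectionVars false

namespace Cfsg.Agent.H632.Der

open CoxeterSystem Subgroup Cfsg Cfsg.Lie Cfsg.Lie.ChevalleyDatum
open Cfsg.Agent.ChevalleyStructure Cfsg.Agent.ChevalleyStructure.Elts Cfsg.Agent.ChevalleyStructure.CoxeterGeom
  Cfsg.Agent.ChevalleyStructure.CoxeterGeomTypes Cfsg.Agent.ChevalleyStructure.NPerm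
open Cfsg.Agent.Tits.Roots Cfsg.Agent.Tits.Core Cfsg.Agent.Nodes.Reps Cfsg.Agent.Nodes.BNOf
  Cfsg.Agent.Nodes.RGDChev Cfsg.Agent.Nodes.Bruhat
open Cfsg.Agent.BpExc.RowsUntw
open Cfsg.Agent.BpExc.Tow Cfsg.Agent.BpExc.TowChev Cfsg.Agent.BpExc.FamExt Cfsg.Agent.BpExc.FamUntw
  Cfsg.Agent.BpExc.FamInst Cfsg.Agent.BpExc.LangFr Cfsg.Agent.BpExc.FamField
open Cfsg.Agent.H378.TorDual Cfsg.Agent.H378.TorChar Cfsg.Agent.H378.TorFin Cfsg.Agent.H378.RankOne
open Cfsg.Agent.H378 Cfsg.Agent.H378.RootTor Cfsg.Agent.H378.SmallTor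
open Cfsg.Agent.H493.PGTorus Cfsg.Agent.H129.WData
open Cfsg.Agent.H378.AdjTab Cfsg.Agent.H378.CycTab Cfsg.Agent.H378.ExcAdj
open Cfsg.Agent.H439.Der Cfsg.Agent.H473.Der Cfsg.Agent.H371.Core

universe u

section

variable {D : ChevalleyDatum} {l : ℕ} {M : CoxeterMatrix (Fin l)} (hp : IsType D l M)
  {W : Type*} [Group W] (cs : CoxeterSystem M W) [Finite W] {F : Type u} [Field F] [Finite F]

include hp cs in
/-- `ℓ` is adjacent to `p`, and to `3` when `p = 2` -/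
theorem adjp_row {p : ℕ} [Fact p.Prime] [CharP F p] {d : ℕ} {B : Fin l → Fin l → ℤ} (hB : InvC D l d B) (hd0 : d ≠ 0)
    {A : Mat l}
    (hA : ∀ i j, A i j = cartanOf D l i j) {L : List (Fin l × Mat l)} {r : ℕ} (hr : r < D.nroots)
    {f : ℕ} {c : Fin (f + 1) → ℤ} {V : Fin (f + 1) → Fin l → ℤ} {U : Fin l → ℤ}
    (h : RowOK A L (vec D l r) c V U) {ℓ : ℕ} (hℓ : ℓ.Prime) (hℓp : ℓ ≠ p)
    (hℓq : ¬ ℓ ∣ Nat.card F - 1) (hdv : (ℓ : ℤ) ∣ pv c (Nat.card F : ℕ)) :
    H94.PG.Adj ↥(D.group F) ℓ p ∧ (p = 2 → ℓ ≠ 3 → H94.PG.Adj ↥(D.group F) ℓ 3) := by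
  refine ⟨adj_char_row hp cs hB hd0 hA hr h hℓ hℓp hℓq hdv, fun hp2 hℓ3 => ?_⟩
  subst hp2
  exact adj_three_row hp cs hB hd0 hA hr h hℓ hℓ3 hℓq hdv

include hp cs in
theorem adjp_split {p : ℕ} [Fact p.Prime] [CharP F p] {j : Fin l} {r s : ℕ} (h : Orth D l j r s) {ℓ : ℕ}
    (hℓ : ℓ.Prime) (hℓ2 : ℓ ≠ 2) (hℓp : ℓ ≠ p) (hℓq : ℓ ∣ Nat.card F - 1) :
    H94.PG.Adj ↥(D.group F) ℓ p ∧ (p = 2 → ℓ ≠ 3 → H94.PG.Adj ↥(D.group F) ℓ 3) := by
  have hpp : p.Prime := Fact.out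
  obtain ⟨x, y, hx, hy, hc, h3⟩ := exists_split hp cs h hℓ hℓ2 hℓq (p := p) (F := F)
  refine ⟨⟨hℓ, hpp, hℓp, x, y, hx, hy, hc⟩, fun hp2 hℓ3 => ?_⟩
  obtain ⟨z, hz, hcz⟩ := h3 hp2
  exact ⟨hℓ, Nat.prime_three, hℓ3, x, z, hx, hz, hcz⟩

end

variable {T : Type u} [Group T] [Finite T]

/-- a cyclic torus `C(x)`, with the bound of a linear representation -/
theorem not_SCC_of_torus {q m P : ℕ} (hT : Tor T q m P) {n : Type*} [Fintype n] [DecidableEq n] {K : Type*} [Field K]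
    (ρ : T →* GL n K) (hρ : Function.Injective ρ) {v : ℕ} (hv : v.Prime) (hvK : (v : K) ≠ 0)
    (hod : od q v = m) {o : ℕ} (hO : Nat.card (Cfsg.Out T) ≤ o) (hlt : 4 * (o * Fintype.card n) < P) : ¬ SCC T v := by
  obtain ⟨g, hg⟩ := hT.ex
  refine not_SCC_of_count hv (A := zpowers g) (N := P) (c := Fintype.card n) (o := o) inferInstance
    (by rw [Nat.card_zpowers, hg]) (hT.dv v hv hod) (exists_torus (hT.ct v hv hod) hg)
    (fun x _ hx => card_conjPow_le ρ hρ hv hvK hx) hO ?_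
  have hv2 := hv.two_le
  calc v * (2 * (o * Fintype.card n)) ≤ (2 * (v - 1)) * (2 * (o * Fintype.card n)) :=
        Nat.mul_le_mul_right _ (by omega)
    _ = (4 * (o * Fintype.card n)) * (v - 1) := by ring
    _ < P * (v - 1) := Nat.mul_lt_mul_of_pos_right hlt (by omega)

/-- a cyclic torus `C(x)`, with the trivial bound -/
theorem not_SCC_of_torus' {q m P : ℕ} (hT : Tor T q m P) {v : ℕ} (hv : v.Prime) (hod : od q v = m) {o : ℕ}
    (hO : Nat.card (Cfsg.Out T) ≤ o) (hlt : v * (2 * o) < P) : ¬ SCC T v := by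
  obtain ⟨g, hg⟩ := hT.ex
  refine not_SCC_of_count hv (A := zpowers g) (N := P) (c := v - 1) (o := o) inferInstance
    (by rw [Nat.card_zpowers, hg]) (hT.dv v hv hod) (exists_torus (hT.ct v hv hod) hg)
    (fun x _ hx => card_conjPow_le_sub_one hv hx) hO ?_
  have hv2 := hv.two_le
  calc v * (2 * (o * (v - 1))) = v * (2 * o) * (v - 1) := by ring
    _ < P * (v - 1) := Nat.mul_lt_mul_of_pos_right hlt (by omega)

end Cfsg.Agent.H632.Der
end
end

-- part: H632/Der/NtcE7b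
section
prune_inst 0x4742067446b2202080000801200003c36d80005b0002b0001e9e00b420b09eb2289822f000e8010021aeea2811005000000100070400000000a0004000001012080aad204b358ad0456008f801004000000000000000000000000000000000004000000000
set_option linter.all false
open scoped Cfsg.Agent.FastGrp

-- part: H632/Der/E7Tor
section
/-!
# A Weyl group element of type E7 with characteristic polynomial `Φ₁₂ Φ₆ Φ₂` (helper632)
-/

set_option autoImplicit false
set_option linter.unusedSectionVars false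

namespace Cfsg.Agent.H632.Der.E7Tor

open Cfsg.Agent.H378 Cfsg.Agent.H378.AdjE7
open Cfsg.Agent.H129.WData Cfsg.Agent.H378.AdjTab Cfsg.Agent.H378.CycTab Cfsg.Agent.H493.PGTorus
open Cfsg.Agent.ChevalleyStructure.CoxeterGeomTypes Cfsg.Agent.Nodes.RGDChev
open Cfsg.Lie Cfsg.Lie.ChevalleyDatum

/-- the partial products -/
def T12b : List (Fin 7 × Mat 7) := [
    (0, ![![0, 0, 1, 1, 0, 0, 0],
        ![-1, -1, -1, -2, -1, -1, -1],
        ![0, 0, 0, 0, 1, 1, 1],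
        ![1, 1, 1, 2, 1, 0, 0],
        ![0, 0, 0, -1, -1, 0, 0],
        ![-1, 0, -1, 0, 0, 0, 0],
        ![1, 0, 1, 1, 1, 1, 0]]),
    (3, ![![1, 0, 1, 1, 0, 0, 0],
        ![0, -1, -1, -2, -1, -1, -1],
        ![0, 0, 0, 0, 1, 1, 1],
        ![0, 1, 1, 2, 1, 0, 0],
        ![0, 0, 0, -1, -1, 0, 0],
        ![0, 0, -1, 0, 0, 0, 0],
        ![0, 0, 1, 1, 1, 1, 0]]),
    (2, ![![1, 0, 1, 0, 0, 0, 0],
        ![0, -1, -1, -1, -1, -1, -1],
        ![0, 0, 0, 1, 1, 1, 1],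
        ![0, 1, 1, 1, 1, 0, 0],
        ![0, 0, 0, 0, -1, 0, 0],
        ![0, 0, -1, -1, 0, 0, 0],
        ![0, 0, 1, 1, 1, 1, 0]]),
    (4, ![![1, 0, 0, 0, 0, 0, 0],
        ![0, -1, 0, -1, -1, -1, -1],
        ![0, 0, 1, 1, 1, 1, 1],
        ![0, 1, 0, 1, 1, 0, 0],
        ![0, 0, 0, 0, -1, 0, 0],
        ![0, 0, 0, -1, 0, 0, 0],
        ![0, 0, 0, 1, 1, 1, 0]]),
    (6, ![![1, 0, 0, 0, 0, 0, 0],
        ![0, -1, 0, -1, -1, -1, -1],
        ![0, 0, 1, 1, 1, 1, 1],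
        ![0, 1, 0, 1, 0, 0, 0],
        ![0, 0, 0, 0, 1, 0, 0],
        ![0, 0, 0, -1, -1, 0, 0],
        ![0, 0, 0, 1, 1, 1, 0]]),
    (3, ![![1, 0, 0, 0, 0, 0, 0],
        ![0, -1, 0, -1, -1, -1, 0],
        ![0, 0, 1, 1, 1, 1, 0],
        ![0, 1, 0, 1, 0, 0, 0],
        ![0, 0, 0, 0, 1, 0, 0],
        ![0, 0, 0, -1, -1, 0, 0],
        ![0, 0, 0, 1, 1, 1, 1]]),
    (5, ![![1, 0, 0, 0, 0, 0, 0],
        ![0, -1, 0, -1, -1, -1, 0],
        ![0, 0, 1, 1, 1, 1, 0],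
        ![0, 1, 0, 0, 0, 0, 0],
        ![0, 0, 0, 1, 1, 0, 0],
        ![0, 0, 0, 0, -1, 0, 0],
        ![0, 0, 0, 0, 1, 1, 1]]),
    (4, ![![1, 0, 0, 0, 0, 0, 0],
        ![0, -1, 0, -1, -1, 0, 0],
        ![0, 0, 1, 1, 1, 0, 0],
        ![0, 1, 0, 0, 0, 0, 0],
        ![0, 0, 0, 1, 1, 1, 0],
        ![0, 0, 0, 0, -1, -1, 0],
        ![0, 0, 0, 0, 1, 1, 1]]),
    (5, ![![1, 0, 0, 0, 0, 0, 0],
        ![0, -1, 0, -1, 0, 0, 0],
        ![0, 0, 1, 1, 0, 0, 0],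
        ![0, 1, 0, 0, 0, 0, 0],
        ![0, 0, 0, 1, 1, 1, 0],
        ![0, 0, 0, 0, 0, -1, 0],
        ![0, 0, 0, 0, 0, 1, 1]]),
    (3, ![![1, 0, 0, 0, 0, 0, 0],
        ![0, -1, 0, -1, 0, 0, 0],
        ![0, 0, 1, 1, 0, 0, 0],
        ![0, 1, 0, 0, 0, 0, 0],
        ![0, 0, 0, 1, 1, 0, 0],
        ![0, 0, 0, 0, 0, 1, 0],
        ![0, 0, 0, 0, 0, 0, 1]]),
    (1, ![![1, 0, 0, 0, 0, 0, 0],
        ![0, -1, 0, 0, 0, 0, 0],
        ![0, 0, 1, 0, 0, 0, 0],
        ![0, 1, 0, 1, 0, 0, 0],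
        ![0, 0, 0, 0, 1, 0, 0],
        ![0, 0, 0, 0, 0, 1, 0],
        ![0, 0, 0, 0, 0, 0, 1]])]

theorem chain12b : ChainOK Am T12b :=
  H129.ChainF.ok H129.ChainF.i7 H129.ChainF.m7 (H129.ChainF.c7 <| H129.ChainF.c7 <| H129.ChainF.c7 <| H129.ChainF.c7 <| H129.ChainF.c7 <| H129.ChainF.c7 <| H129.ChainF.c7 <| H129.ChainF.c7 <| H129.ChainF.c7 <| H129.ChainF.c7 <| H129.ChainF.c7 <| H129.ChainF.nil) (by decide +kernel)

/-- the eigenvector -/
def V12b_12 : Fin (3 + 1) → Fin 7 → ℤ := ![![1, 1, 0, 1, 2, 1, 1],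
      ![-1, 0, 1, 1, 0, 0, 0],
      ![1, 0, 1, 0, -1, 0, -1],
      ![0, 0, -1, 0, 1, 0, 1]]

/-- the functional -/
def U12b_12 : Fin 7 → ℤ := ![0, 0, 0, 0, 0, 1, 0]

theorem tor12b_12 : EigOK (hd T12b) c12 V12b_12 U12b_12 :=
  H493.EigF.ok (H493.EigF.hT H493.EigF.t7) H493.EigF.r4 (H493.EigF.mc H493.EigF.r7 <| H493.EigF.mc H493.EigF.r7 <| H493.EigF.mc H493.EigF.r7 <| H493.EigF.mc H493.EigF.r7 <| H493.EigF.m0) H493.EigF.r7 (by decide +kernel)

/-- the eigenvector -/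
def V12b_2 : Fin (0 + 1) → Fin 7 → ℤ := ![![0, -1, 0, 0, 1, 0, -1]]

/-- the functional -/
def U12b_2 : Fin 7 → ℤ := ![0, -1, 0, 0, 0, 0, 0]

theorem tor12b_2 : EigOK (hd T12b) c2 V12b_2 U12b_2 :=
  H493.EigF.ok (H493.EigF.hT H493.EigF.t7) H493.EigF.r1 (H493.EigF.mc H493.EigF.r7 <| H493.EigF.m0) H493.EigF.r7 (by decide +kernel)


end Cfsg.Agent.H632.Der.E7Tor
end

-- part: H632/Der/NtcE7a
section
/-!
# S3502: no prime is `SCC` for `E₇(q)` (helper632)
-/

set_option autoImplicit false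

namespace Cfsg.Agent.H632.Der.E7

open CoxeterSystem Subgroup Cfsg Cfsg.Lie Cfsg.Lie.ChevalleyDatum
open Cfsg.Agent.ChevalleyStructure.CoxeterGeomTypes
open Cfsg.Agent.Nodes.RGDChev Cfsg.Agent.KFacts.RgdChevCoord Cfsg.Agent.BpExc.TorChev
open Cfsg.Agent.BpExc.RowsUntw Cfsg.Agent.BpExc.FamInst Cfsg.Agent.BpExc.FamExt
open Cfsg.Agent.H378 Cfsg.Agent.H378.SmallTor Cfsg.Agent.H378.AdjTab Cfsg.Agent.H378.CycTab Cfsg.Agent.H378.ExcAdj
  Cfsg.Agent.H378.ExcNear
open Cfsg.Agent.H493.PGTorus Cfsg.Agent.H129.WData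
open Cfsg.Agent.H439.Der Cfsg.Agent.H473.Der Cfsg.Agent.H371.Core Cfsg.Agent.H371.CycEval

universe u

/-- adjacency to the characteristic and to 3 -/
theorem adjp (F : Type u) [Field F] [Finite F] {p : ℕ} [Fact p.Prime] [CharP F p] {r : ℕ} (hr : r.Prime)
    (hd : r ∣ Nat.card ↥(chevE7.group F)) (h2 : r ≠ 2) (hrp : r ≠ p) (hrq : ¬ r ∣ Nat.card F) :
    (H94.PG.Adj ↥(chevE7.group F) r p ∧ (p = 2 → r ≠ 3 → H94.PG.Adj ↥(chevE7.group F) r 3)) ∨
      od (Nat.card F) r = 7 ∨ od (Nat.card F) r = 9 ∨ od (Nat.card F) r = 12 ∨ od (Nat.card F) r = 14 ∨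
      od (Nat.card F) r = 18 := by
  let cs : CoxeterSystem CoxeterMatrix.E₇ CoxeterMatrix.E₇.Group := CoxeterMatrix.E₇.toCoxeterSystem
  have := finite_W e7T cs
  have hq : 1 ≤ Nat.card F := Nat.card_pos
  have ho : od (Nat.card F) r = 7 ∨ od (Nat.card F) r = 9 ∨ od (Nat.card F) r = 12 ∨ od (Nat.card F) r = 14 ∨
      od (Nat.card F) r = 18 →
      (H94.PG.Adj ↥(chevE7.group F) r p ∧ (p = 2 → r ≠ 3 → H94.PG.Adj ↥(chevE7.group F) r 3)) ∨
      od (Nat.card F) r = 7 ∨ od (Nat.card F) r = 9 ∨ od (Nat.card F) r = 12 ∨ od (Nat.card F) r = 14 ∨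
      od (Nat.card F) r = 18 := fun h => Or.inr h
  have hn1 : ∀ {m : ℕ}, m ≠ 1 → od (Nat.card F) r = m → ¬ r ∣ Nat.card F - 1 := by
    intro m hm h3 h4
    have h5 : od (Nat.card F) r ∣ 1 := od_dvd hq (by rw [pow_one]; exact h4)
    rw [h3] at h5
    exact hm (Nat.dvd_one.1 h5)
  rcases od_E7 hr hd with h | h | h | h | h | h | h | h | h | h | h | h | h | h
  · exact absurd h hrq
  · exact Or.inl (adjp_split e7T cs AdjE7.orth hr h2 hrp (dvd_of_od_one hq h))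
  · exact Or.inl (adjp_row e7T cs inv_E7 two_ne_zero AdjE7.hA AdjE7.lt_nroots AdjE7.row2 hr hrp
      (hn1 (by decide) h) (dvd2 hr h))
  · exact Or.inl (adjp_row e7T cs inv_E7 two_ne_zero AdjE7.hA AdjE7.lt_nroots AdjE7.row3 hr hrp
      (hn1 (by decide) h) (dvd3 hr h))
  · exact Or.inl (adjp_row e7T cs inv_E7 two_ne_zero AdjE7.hA AdjE7.lt_nroots AdjE7.row4 hr hrp
      (hn1 (by decide) h) (dvd4 hr h))
  · exact Or.inl (adjp_row e7T cs inv_E7 two_ne_zero AdjE7.hA AdjE7.lt_nroots AdjE7.row5 hr hrp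
      (hn1 (by decide) h) (dvd5 hr h))
  · exact Or.inl (adjp_row e7T cs inv_E7 two_ne_zero AdjE7.hA AdjE7.lt_nroots AdjE7.row6 hr hrp
      (hn1 (by decide) h) (dvd6 hr h))
  · exact ho (by (clear * - h; tauto))
  · exact Or.inl (adjp_row e7T cs inv_E7 two_ne_zero AdjE7.hA AdjE7.lt_nroots AdjE7.row8 hr hrp
      (hn1 (by decide) h) (dvd8 hr h))
  · exact ho (by (clear * - h; tauto))
  · exact Or.inl (adjp_row e7T cs inv_E7 two_ne_zero AdjE7.hA AdjE7.lt_nroots AdjE7.row10 hr hrp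
      (hn1 (by decide) h) (dvd10 hr h))
  · exact ho (by (clear * - h; tauto))
  · exact ho (by (clear * - h; tauto))
  · exact ho (by (clear * - h; tauto))

/-- `5 ≤ r`, `r ∣ q² + 1`: adjacent to everything small -/
theorem four (F : Type u) [Field F] [Finite F] {p : ℕ} [Fact p.Prime] [CharP F p] {r : ℕ} (hr : r.Prime)
    (h2 : r ≠ 2) (hrp : r ≠ p) (h4 : od (Nat.card F) r = 4) : H94.PG.Adj ↥(chevE7.group F) r 2 ∧
    H94.PG.Adj ↥(chevE7.group F) r p ∧ (p = 2 → r ≠ 3 → H94.PG.Adj ↥(chevE7.group F) r 3) := by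
  let cs : CoxeterSystem CoxeterMatrix.E₇ CoxeterMatrix.E₇.Group := CoxeterMatrix.E₇.toCoxeterSystem
  have := finite_W e7T cs
  have hq : 1 ≤ Nat.card F := Nat.card_pos
  have hn1 : ¬ r ∣ Nat.card F - 1 := by
    intro h
    have h5 : od (Nat.card F) r ∣ 1 := od_dvd hq (by rw [pow_one]; exact h)
    rw [h4] at h5
    exact absurd h5 (by decide)
  exact ⟨adj_row e7T cs inv_E7 two_ne_zero AdjE7.hA AdjE7.lt_nroots AdjE7.row4 hr h2 hn1 (dvd4 hr h4),
    adjp_row e7T cs inv_E7 two_ne_zero AdjE7.hA AdjE7.lt_nroots AdjE7.row4 hr hrp hn1 (dvd4 hr h4)⟩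

/-! ### order 12 -/

section

variable {D : ChevalleyDatum} {l : ℕ} {M : CoxeterMatrix (Fin l)} (hp : IsType D l M)
  {W : Type*} [Group W] [Finite W] (cs : CoxeterSystem M W)

include hp cs in
theorem adj_torus {d : ℕ} {B : Fin l → Fin l → ℤ} (hB : InvC D l d B) (hd0 : d ≠ 0) {A : Mat l}
    (hA : ∀ i j, A i j = cartanOf D l i j) {L : List (Fin l × Mat l)} (hL : ChainOK A L)
    {f : ℕ} {c : Fin (f + 1) → ℤ} {V : Fin (f + 1) → Fin l → ℤ} {U : Fin l → ℤ} (h : EigOK (hd L) c V U)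
    {f' : ℕ} {c' : Fin (f' + 1) → ℤ} {V' : Fin (f' + 1) → Fin l → ℤ} {U' : Fin l → ℤ} (h' : EigOK (hd L) c' V' U')
    {F : Type u} [Field F] [Finite F] {r s : ℕ} (hr : r.Prime) (hs : s.Prime) (hne : r ≠ s)
    (hrd : r.Coprime (Nat.gcd d (Nat.card F - 1))) (hsd : s.Coprime (Nat.gcd d (Nat.card F - 1)))
    (hdv : (r : ℤ) ∣ pv c (Nat.card F : ℕ)) (hdv' : (s : ℤ) ∣ pv c' (Nat.card F : ℕ)) :
    H94.PG.Adj ↥(D.group F) r s := by
  obtain ⟨x, y, hxy, hx, hy⟩ := exists_comm_torus hp cs hB hd0 hA hL h h' (F := F) hr.pos hs.pos hdv hdv'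
  exact H94.PG.adj_of_dvd hr hs hne hxy (hrd.dvd_of_dvd_mul_right hx) (hsd.dvd_of_dvd_mul_right hy)
    (orderOf_pos _).ne' (orderOf_pos _).ne'

end

theorem not_SCC_12 (F : Type u) [Field F] [Finite F] {r : ℕ} (hr : r.Prime) (h : od (Nat.card F) r = 12) :
    ¬ SCC ↥(chevE7.group F) r := by
  let cs : CoxeterSystem CoxeterMatrix.E₇ CoxeterMatrix.E₇.Group := CoxeterMatrix.E₇.toCoxeterSystem
  have := finite_W e7T cs
  have hq : 2 ≤ Nat.card F := Finite.one_lt_card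
  have hr2 : ¬ r ∣ 2 := not_dvd_of_od hr h (by norm_num) (by norm_num)
  have hr2' : r ≠ 2 := by rintro rfl; exact hr2 dvd_rfl
  obtain ⟨s, hs, hs3, hs2, hsd⟩ := ExcNear.exists_three hq
  have hs1 := not_dvd_sub_of_three hq hs hs3 hsd
  have hpv : (s : ℤ) ∣ pv c3 (Nat.card F : ℕ) := pv_nat (by rw [pv3]; push_cast; rfl) hsd
  have hrs : r ≠ s := by
    rintro rfl
    have h1 : r ∣ Nat.card F ^ 3 - 1 := by
      have e : Nat.card F ^ 3 - 1 = (Nat.card F ^ 2 + Nat.card F + 1) * (Nat.card F - 1) := by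
        obtain ⟨t, ht⟩ : ∃ t, Nat.card F = t + 1 := ⟨Nat.card F - 1, by omega⟩
        rw [ht, Nat.add_sub_cancel, show (t + 1) ^ 3 = ((t + 1) ^ 2 + (t + 1) + 1) * t + 1 by ring,
          Nat.add_sub_cancel]
      rw [e]
      exact hsd.mul_right _
    have h2 := od_dvd (by omega) h1
    rw [h] at h2
    exact absurd h2 (by decide)
  have a1 : H94.PG.Adj ↥(chevE7.group F) r s :=
    adj_torus e7T cs inv_E7 two_ne_zero AdjE7.hA AdjE7.chain12 AdjE7.tor12_12 AdjE7.tor12_3 hr hs hrs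
      (coprime_gcd hr hr2) (coprime_gcd' hs hs1) (dvd12 hr h) hpv
  have e1 : pv c2 (Nat.card F : ℕ) = ((Nat.card F + 1 : ℕ) : ℤ) := by
    rw [pv2]; push_cast; ring
  rcases four_or (n := Nat.card F + 1) (by omega) with h4 | ⟨t, ht, ht2, htd⟩
  · exact not_SCC_of_two_adj a1 (near_four e7T cs inv_E7 AdjE7.hA E7Tor.chain12b E7Tor.tor12b_12 E7Tor.tor12b_2
      hr hr2' (dvd12 hr h) (pv_nat e1 h4)) hs2
  · have hrt : r ≠ t := by
      rintro rfl
      have h1 : r ∣ Nat.card F ^ 2 - 1 := by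
        have e : Nat.card F ^ 2 - 1 = (Nat.card F + 1) * (Nat.card F - 1) := by
          obtain ⟨t, ht⟩ : ∃ t, Nat.card F = t + 1 := ⟨Nat.card F - 1, by omega⟩
          rw [ht, Nat.add_sub_cancel, show (t + 1) ^ 2 = ((t + 1) + 1) * t + 1 by ring,
            Nat.add_sub_cancel]
        rw [e]
        exact htd.mul_right _
      have h2 := od_dvd (by omega) h1
      rw [h] at h2
      exact absurd h2 (by decide)
    refine not_SCC_of_two_adj a1 (adj_torus e7T cs inv_E7 two_ne_zero AdjE7.hA E7Tor.chain12b E7Tor.tor12b_12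
      E7Tor.tor12b_2 hr ht hrt (coprime_gcd hr hr2)
      (coprime_gcd ht fun h1 => ht2 ((Nat.prime_dvd_prime_iff_eq ht Nat.prime_two).1 h1)) (dvd12 hr h)
      (pv_nat e1 htd)) ?_
    rintro rfl
    have h3 : s ∣ 1 := by
      have e : Nat.card F ^ 2 + Nat.card F + 1 = (Nat.card F + 1) * Nat.card F + 1 := by ring
      rw [e] at hsd
      exact (Nat.dvd_add_right (htd.mul_right _)).1 hsd
    exact hs.one_lt.ne' (Nat.dvd_one.1 h3)

end Cfsg.Agent.H632.Der.E7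
end

-- part: H632/Der/NtcE7
section
/-!
# S3502: no prime is `SCC` for `E₇(q)` (helper632)
-/

set_option autoImplicit false

namespace Cfsg.Agent.H632.Der

open Subgroup Cfsg.Agent.H439.Der Cfsg.Agent.H473.Der Cfsg.Agent.H504.ZeroTI Cfsg.Agent.H504.Zeros

universe u

variable {T : Type u} [Group T] [Finite T]

omit [Finite T] in
/-- A cyclic subgroup of order `N`, divisible by `r`: the centralizer of its elements of order `r`. -/
def Tcc (T : Type u) [Group T] (r N : ℕ) : Prop :=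
  ∃ C : Subgroup T, IsCyclic C ∧ Nat.card C = N ∧ r ∣ N ∧ ∀ y ∈ C, orderOf y = r → Subgroup.centralizer ({y} : Set T) = C

omit [Finite T] in
theorem Tcc.of_cyc {C : Subgroup T} (hc : IsCyclic C) {r : ℕ} (hrC : r ∣ Nat.card C)
    (hcent : ∀ y ∈ C, orderOf y = r → Subgroup.centralizer ({y} : Set T) ≤ C) : Tcc T r (Nat.card C) :=
  ⟨C, hc, rfl, hrC, fun y hy hyr => le_antisymm (hcent y hy hyr) (H129.CycT.le_centralizer_of_cyclic hc hy)⟩

theorem not_SCC_of_tcc {v P c o : ℕ} (hT : Tcc T v P) (hv : v.Prime) (hc : ∀ x : T, orderOf x = v → Nat.card (conjPow x) ≤ c)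
    (hO : Nat.card (Cfsg.Out T) ≤ o) (h15 : 15 ≤ v) (hlt : 15 * (o * c) < 7 * P) : ¬ SCC T v := by
  obtain ⟨A, hA, hN, hvN, hC⟩ := hT
  refine not_SCC_of_count hv hA hN hvN hC (fun x _ hx => hc x hx) hO ?_
  have h1 : 14 * (v * (2 * (o * c))) ≤ (15 * (o * c)) * (2 * (v - 1)) := by
    obtain ⟨t, rfl⟩ := Nat.exists_eq_add_of_le h15
    have e : 15 + t - 1 = 14 + t := by omega
    rw [e]
    linarith only [Nat.zero_le (t * (o * c))]
  have h2 : (15 * (o * c)) * (2 * (v - 1)) < (7 * P) * (2 * (v - 1)) := Nat.mul_lt_mul_of_pos_right hlt (by omega)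
  have h3 : (7 * P) * (2 * (v - 1)) = 14 * (P * (v - 1)) := by ring
  omega

theorem not_SCC_of_tcc' {v P o : ℕ} (hT : Tcc T v P) (hv : v.Prime)
    (hO : Nat.card (Cfsg.Out T) ≤ o) (hlt : v * (2 * o) < P) : ¬ SCC T v := by
  obtain ⟨A, hA, hN, hvN, hC⟩ := hT
  refine not_SCC_of_count hv hA hN hvN hC (fun x _ hx => card_conjPow_le_sub_one hv hx) hO ?_
  have hv2 := hv.two_le
  calc v * (2 * (o * (v - 1))) = v * (2 * o) * (v - 1) := by ring
    _ < P * (v - 1) := Nat.mul_lt_mul_of_pos_right hlt (by omega)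

theorem not_SCC_of_exact {a e o : ℕ} (ha : a.Prime) (h : H129.CycT.CycExact T a) (hea : e < a) {N : ℤ}
    (hN : (Nat.card T : ℤ) = a * N) (hmod : ((N : ℤ) : ZMod a) = e) (hO : Nat.card (Cfsg.Out T) ≤ o)
    (hlt : 2 * (o * e) < a - 1) : ¬ SCC T a := by
  obtain ⟨A, hAc, hc, hz⟩ := h
  have hA := cc_of_cyclic hAc hz
  have he := eIdx_of_int hA hc hea ha.one_lt hN hmod
  have hne : ∀ x : T, orderOf x = a → x ≠ 1 := by
    rintro x hx rfl
    rw [orderOf_one] at hx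
    exact ha.one_lt.ne hx
  exact not_SCC_of_count ha hAc hc dvd_rfl (fun x hx hxo => hz x hx (hne x hxo))
    (fun x hx hxo => (card_conjPow_le_eIdx hA hx (hne x hxo)).trans he.le) hO
    (Nat.mul_lt_mul_of_pos_left hlt ha.pos)

end Cfsg.Agent.H632.Der

namespace Cfsg.Agent.H632.Der.E7

open Cfsg Cfsg.Lie Cfsg.Lie.ChevalleyDatum Cfsg.Agent.H290.ElMain Cfsg.Agent.H290.ElE7
open Cfsg.Agent.H436 (Prim exists_prim)
open Cfsg.Agent.ChevalleyStructure Cfsg.Agent.ChevalleyStructure.Elts Cfsg.Agent.ChevalleyStructure.CoxeterGeom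
  Cfsg.Agent.ChevalleyStructure.CoxeterGeomTypes Cfsg.Agent.ChevalleyStructure.NPerm
open Cfsg.Agent.Nodes.RGDChev
open Cfsg.Agent.H129 Cfsg.Agent.H129.CycT Cfsg.Agent.H129.TorusChar Cfsg.Agent.H129.TorusTw Cfsg.Agent.H129.WData
  Cfsg.Agent.H129.TorAct Cfsg.Agent.H129.RealT

variable {F : Type} [Field F] [Fintype F] {q : ℕ}

theorem tcc_of (hq : Fintype.card F = q) {A : Mat 7} (hA : ∀ i j, A i j = cartanOf chevE7 7 i j)
    {L : List (Fin 7 × Mat 7)} (hL : ChainOK A L)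
    {V B : Mat 7} {c : Fin 7 → ℤ} (hcyc : CycOK 7 (hd L) V B c) {m : ℕ} {R : Fin m → Fin 7 → ℤ} {prv dep : ℕ → ℕ}
    (hR : RootOK chevE7 7 (hd L) R prv dep) {N : ℕ} (hfN : fN c (q : ℤ) = N) (hqN : q.Coprime N) {r : ℕ}
    (hr : r.Prime) (hrN : r ∣ N) (hr2 : r ≠ 2)
    (hgood : ¬ r ∣ Nat.card CoxeterMatrix.E₇.Group ∧ ∀ s, ¬ (r : ℤ) ∣ Gq B (q : ℤ) (R s)) :
    Tcc ↥(chevE7.group F) r (N / Nat.gcd 2 (q - 1)) := by
  have := finite_W7
  have hq2 : 2 ≤ q := by rw [← hq]; exact Fintype.one_lt_card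
  rcases Nat.even_or_odd q with he | ho
  · have hg : Nat.gcd 2 (q - 1) = 1 := by
      rw [← Nat.coprime_iff_gcd_eq_one, Nat.coprime_comm, Nat.coprime_two_right]
      obtain ⟨k, hk⟩ := he
      exact ⟨k - 1, by omega⟩
    rw [hg, Nat.div_one]
    obtain ⟨T, h1, h2, h3, h4, -⟩ := UntwT.untw_T typeE7 CoxeterMatrix.E₇.toCoxeterSystem (by norm_num) hq
      TorusChar.invC_E7 (by norm_num) hA hL hcyc hR hfN hqN (d := 1) (Or.inr ⟨rfl, sq_surj hq he⟩)
    rw [one_mul] at h3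
    have h6 : Nat.card T = N := Nat.dvd_antisymm h2 h3
    rw [← h6]
    exact Tcc.of_cyc h1 (h6 ▸ hrN) (h4 r hr hgood.1 hgood.2)
  · have hg : Nat.gcd 2 (q - 1) = 2 := by
      refine Nat.gcd_eq_left ?_
      obtain ⟨k, hk⟩ := ho
      exact ⟨k, by omega⟩
    rw [hg]
    obtain ⟨T, h3, h4, h5, -⟩ := HalfT.half_E7 hq ho typeE7 hA hL hcyc hR hfN hqN
    have h6 : N / 2 = Nat.card T := by omega
    rw [h6]
    refine Tcc.of_cyc h3 ?_ (h5 r hr hgood.1 hgood.2)
    rw [← h4] at hrN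
    exact (hr.dvd_mul.1 hrN).resolve_left fun h => hr2 ((Nat.prime_dvd_prime_iff_eq hr Nat.prime_two).1 h)

theorem tcc7 (hq : Fintype.card F = q) : ∃ N : ℕ,
    (N : ℤ) = 1 + (q : ℤ) + (q : ℤ) ^ 2 + (q : ℤ) ^ 3 + (q : ℤ) ^ 4 + (q : ℤ) ^ 5 + (q : ℤ) ^ 6 ∧
      ∀ r, Prim q 7 r → Tcc ↥(chevE7.group F) r ((q - 1) * N / Nat.gcd 2 (q - 1)) := by
  have h2 : 2 ≤ q := hq ▸ Fintype.one_lt_card
  have hN := Int.toNat_of_nonneg (show (0 : ℤ) ≤ 1 + (q : ℤ) + (q : ℤ) ^ 2 + (q : ℤ) ^ 3 + (q : ℤ) ^ 4 + (q : ℤ) ^ 5 +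
    (q : ℤ) ^ 6 by positivity)
  refine ⟨_, hN, fun r hr => ?_⟩
  have hrN : r ∣ _ := dvd_of_id hr (by omega) (a := 1) (b := 1) (c := 1) (by decide) (by decide) (by decide)
    (by rw [hN]; exact ⟨((q : ℤ) - 1) ^ 2, by ring⟩)
  obtain ⟨k, hk⟩ := mod_of_prim hr (by omega)
  have := hr.prime.two_le
  have := hr.odd (by norm_num)
  obtain ⟨h3, h4⟩ := fN_7 h2 hN
  exact tcc_of hq DataE7s.hA DataE7s.chainOK DataE7s.cycOK DataE7s.rootOK h3 h4 hr.prime (hrN.mul_left _) (by omega)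
    (good_E7_7 hN hr.prime hrN (by omega))

theorem tcc9 (hq : Fintype.card F = q) : ∃ N : ℕ, (N : ℤ) = 1 + (q : ℤ) ^ 3 + (q : ℤ) ^ 6 ∧
      ∀ r, Prim q 9 r → Tcc ↥(chevE7.group F) r ((q - 1) * N / Nat.gcd 2 (q - 1)) := by
  have h2 : 2 ≤ q := hq ▸ Fintype.one_lt_card
  have hN := Int.toNat_of_nonneg (show (0 : ℤ) ≤ 1 + (q : ℤ) ^ 3 + (q : ℤ) ^ 6 by positivity)
  refine ⟨_, hN, fun r hr => ?_⟩
  have hrN : r ∣ _ := dvd_of_id hr (by omega) (a := 3) (b := 1) (c := 1) (by decide) (by decide) (by decide)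
    (by rw [hN]; exact ⟨((q : ℤ) - 1) ^ 2, by ring⟩)
  obtain ⟨k, hk⟩ := mod_of_prim hr (by omega)
  have := hr.prime.two_le
  have := hr.odd (by norm_num)
  obtain ⟨h3, h4⟩ := fN_9 h2 hN
  exact tcc_of hq DataE7n.hA DataE7n.chainOK DataE7n.cycOK DataE7n.rootOK h3 h4 hr.prime (hrN.mul_left _) (by omega)
    (good_E7_9 hN hr.prime hrN (by omega))

theorem tcc14 (hq : Fintype.card F = q) : ∃ N : ℕ,
    (N : ℤ) = 1 - (q : ℤ) + (q : ℤ) ^ 2 - (q : ℤ) ^ 3 + (q : ℤ) ^ 4 - (q : ℤ) ^ 5 + (q : ℤ) ^ 6 ∧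
      ∀ r, Prim q 14 r → Tcc ↥(chevE7.group F) r ((q + 1) * N / Nat.gcd 2 (q - 1)) := by
  have h2 : 2 ≤ q := hq ▸ Fintype.one_lt_card
  have hpos : (0 : ℤ) ≤ 1 - (q : ℤ) + (q : ℤ) ^ 2 - (q : ℤ) ^ 3 + (q : ℤ) ^ 4 - (q : ℤ) ^ 5 + (q : ℤ) ^ 6 := by
    obtain ⟨a, rfl⟩ := Nat.exists_eq_add_of_le' h2
    push_cast
    ring_nf
    (clear * -; positivity)
  have hN := Int.toNat_of_nonneg hpos
  refine ⟨_, hN, fun r hr => ?_⟩
  have hrN : r ∣ _ := dvd_of_id hr (by omega) (a := 7) (b := 2) (c := 1) (by decide) (by decide) (by decide)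
    (by rw [hN]; exact ⟨((q : ℤ) - 1) ^ 2, by ring⟩)
  obtain ⟨k, hk⟩ := mod_of_prim hr (by omega)
  have := hr.prime.two_le
  have := hr.odd (by norm_num)
  refine tcc_of hq DataE7m.hA DataE7m.chainOK DataE7m.cycOK DataE7m.rootOK (N := (q + 1) * _) ?_ ?_ hr.prime
    (hrN.mul_left _) (by omega) (good_14 hN hr.prime hrN (by omega))
  · rw [DataE7m.fN_eq, Nat.cast_mul, hN]; push_cast; ring
  · exact UntwData.coprime_of_eq (a := (q : ℤ) ^ 6) (by rw [Nat.cast_mul, hN]; push_cast; ring)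

theorem tcc18 (hq : Fintype.card F = q) : ∃ N : ℕ, (N : ℤ) = 1 - (q : ℤ) ^ 3 + (q : ℤ) ^ 6 ∧
      ∀ r, Prim q 18 r → Tcc ↥(chevE7.group F) r ((q + 1) * N / Nat.gcd 2 (q - 1)) := by
  have h2 : 2 ≤ q := hq ▸ Fintype.one_lt_card
  have hpos : (0 : ℤ) ≤ 1 - (q : ℤ) ^ 3 + (q : ℤ) ^ 6 := by
    obtain ⟨a, rfl⟩ := Nat.exists_eq_add_of_le' h2
    push_cast
    ring_nf
    (clear * -; positivity)
  have hN := Int.toNat_of_nonneg hpos
  refine ⟨_, hN, fun r hr => ?_⟩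
  have hrN : r ∣ _ := dvd_of_id hr (by omega) (a := 9) (b := 6) (c := 1) (by decide) (by decide) (by decide)
    (by rw [hN]; exact ⟨((q : ℤ) ^ 3 - 1) * ((q : ℤ) - 1), by ring⟩)
  obtain ⟨k, hk⟩ := mod_of_prim hr (by omega)
  have := hr.prime.two_le
  have := hr.odd (by norm_num)
  refine tcc_of hq DataE7h.hA DataE7h.chainOK DataE7h.cycOK DataE7h.rootOK (N := (q + 1) * _) ?_ ?_ hr.prime
    (hrN.mul_left _) (by omega) (good_18 hN hr.prime hrN (by omega))
  · rw [DataE7h.fN_eq, Nat.cast_mul, hN]; push_cast; ring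
  · exact UntwData.coprime_of_eq (a := 1 - (q : ℤ) ^ 2 - (q : ℤ) ^ 3 + (q : ℤ) ^ 5 + (q : ℤ) ^ 6)
      (by rw [Nat.cast_mul, hN]; push_cast; ring)

end Cfsg.Agent.H632.Der.E7
end

-- part: H632/Der/NtcE7b
section
/-!
# S3502: no prime is `SCC` for `E₇(q)` (helper632)
-/

set_option autoImplicit false

namespace Cfsg.Agent.H632.Der.E7

open Cfsg Cfsg.Lie Cfsg.Lie.ChevalleyDatum Cfsg.Agent.H290.ElMain Cfsg.Agent.H290.ElE7
open Cfsg.Agent.H436 (Prim exists_prim)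
open Cfsg.Agent.H378 Cfsg.Agent.H378.SmallTor Cfsg.Agent.H378.AdjTab Cfsg.Agent.H378.CycTab Cfsg.Agent.H378.ExcAdj
  Cfsg.Agent.H378.ExcNear
open Cfsg.Agent.BpExc.RowsUntw Cfsg.Agent.BpExc.FamInst Cfsg.Agent.BpExc.FamExt
open Cfsg.Agent.H439.Der Cfsg.Agent.H473.Der Cfsg.Agent.H129.CycT

theorem bound {f g a N : ℕ} (hg : g ∣ a) (hg2 : g ∣ 2) (h : 1140 * f < a * N) :
    15 * (g * f * 133) < 7 * (a * N / g) := by
  have hgp : 0 < g := Nat.pos_of_dvd_of_pos hg2 (by norm_num)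
  have hg2' : g ≤ 2 := Nat.le_of_dvd (by norm_num) hg2
  have h1 : g * (a * N / g) = a * N := Nat.mul_div_cancel' (hg.mul_right N)
  generalize a * N / g = P at *
  rw [← h1] at h
  interval_cases g
  · omega
  · omega

theorem f_le {q f : ℕ} (hq3 : 3 ≤ q) (hf : 2 ^ f ≤ q) : f ≤ q - 2 := by
  by_contra h
  push Not at h
  have h1 : 2 ^ (q - 1) ≤ 2 ^ f := Nat.pow_le_pow_right (by norm_num) (by omega)
  obtain ⟨t, rfl⟩ := Nat.exists_eq_add_of_le' hq3
  have h2 : t + 3 - 1 = t + 2 := by omega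
  rw [h2, pow_add] at h1
  have h3 : t < 2 ^ t := Nat.lt_two_pow_self
  omega

theorem cast_lt {a b : ℕ} {z : ℤ} (h : (b : ℤ) = z) (h1 : (a : ℤ) < z) : a < b := by
  rw [← h] at h1
  exact_mod_cast h1

variable {F : Type} [Field F] [Fintype F] {q : ℕ}

/-- one torus, `q ≥ 3` -/
theorem torus {g f a N : ℕ} (hO : Nat.card (Cfsg.Out ↥(chevE7.group F)) = g * f) (hg : g ∣ a) (hg2 : g ∣ 2)
    (h : 1140 * f < a * N) {v : ℕ} (hv : v.Prime) (hvF : (v : F) ≠ 0) (h15 : 15 ≤ v)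
    (hT : Tcc ↥(chevE7.group F) v (a * N / g)) : ¬ SCC ↥(chevE7.group F) v := by
  refine not_SCC_of_tcc hT hv (fun x hx => card_conjPow_le (chevE7.group F).subtype (Subgroup.subtype_injective _)
    hv hvF hx) hO.le h15 ?_
  rw [H290.ElE7.card_idx]
  exact bound hg hg2 h

/-- **`E₇(q)`** -/
theorem ntc (F : Type) [Field F] [Fintype F] : NTC ↥(chevE7.group F) := by
  obtain ⟨p, f, hp, hf, hF⟩ : ∃ p f : ℕ, p.Prime ∧ 1 ≤ f ∧ Fintype.card F = p ^ f := by
    obtain ⟨n, hp, h⟩ := FiniteField.card F (ringChar F)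
    exact ⟨ringChar F, n, hp, n.pos, h⟩
  have := Fact.mk hp
  have : CharP F p := charP_of_card_eq_prime_pow hF
  have hO := Cfsg.Agent.S2124.result p f hF
  have hFc : Nat.card F = Fintype.card F := Nat.card_eq_fintype_card
  have hq2 : 2 ≤ Fintype.card F := Fintype.one_lt_card
  have h2f : 2 ^ f ≤ Fintype.card F := by rw [hF]; exact Nat.pow_le_pow_left hp.two_le f
  have hpq : p ∣ Nat.card F := by rw [hFc, hF]; exact dvd_pow_self _ (by omega)
  have hq_of : ∀ v : ℕ, v.Prime → v ∣ Nat.card F → v = p := by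
    intro v hv h
    rw [hFc, hF] at h
    exact (Nat.prime_dvd_prime_iff_eq hv hp).1 (hv.dvd_of_dvd_pow h)
  have h32 : H94.PG.Adj ↥(chevE7.group F) 3 2 := by
    have h6 := H473.Der.E7.od_three_le (Nat.card F)
    rcases adj_E7 F Nat.prime_three H473.Der.E7.three_dvd with h4 | h4 | h4 | h4 | h4 | h4 | h4
    · exact absurd h4 (by norm_num)
    · exact h4
    all_goals exact absurd h4 (by omega)
  obtain ⟨l, hl, hl5, hlq, hl4⟩ := exists_four (q := Nat.card F) (hFc ▸ hq2)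
  have hlp : l ≠ p := by rintro rfl; exact hlq hpq
  obtain ⟨a1, a2, a3⟩ := four F hl (by omega) hlp hl4
  refine ntc_of hl5 hlp h32 a1 (fun _ => a2) (fun h => a3 h (by omega))
    (fun h => adj_small e7T AdjE7.orth hp h (Or.inl hpq)) ?_
  intro v hv hd hv2 hvp
  have hvq : ¬ v ∣ Nat.card F := fun h => hvp (hq_of v hv h)
  have hvF : (v : F) ≠ 0 := fun h => hvp ((Nat.prime_dvd_prime_iff_eq hp hv).1 ((CharP.cast_eq_zero_iff F p v).1 h)).symm
  have key : (od (Nat.card F) v = 7 ∨ od (Nat.card F) v = 9 ∨ od (Nat.card F) v = 12 ∨ od (Nat.card F) v = 14 ∨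
      od (Nat.card F) v = 18) → ¬ SCC ↥(chevE7.group F) v := by
    intro h
    have h15 : ∀ {m : ℕ}, od (Nat.card F) v = m → m = 7 ∨ m = 9 ∨ m = 14 ∨ m = 18 → 15 ≤ v := by
      intro m hm h1
      have h2 := mod_of_od hv hm (by omega)
      obtain ⟨k, hk⟩ := h2
      have h3 := hv.two_le
      have h4 : v % 2 = 1 := by
        rcases hv.eq_two_or_odd with h5 | h5
        · exact absurd h5 hv2
        · exact h5
      rcases h1 with rfl | rfl | rfl | rfl <;> (clear * - h3 h4 hk; omega)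
    have hprim : ∀ {m : ℕ}, 0 < m → od (Nat.card F) v = m → Prim (Fintype.card F) m v := fun hm h1 =>
      prim_of_od (by omega) hv hm (hFc ▸ h1)
    obtain ⟨N7, e7, h7⟩ := tcc7 (F := F) rfl
    obtain ⟨N9, e9, h9⟩ := tcc9 (F := F) rfl
    obtain ⟨N14, e14, h14⟩ := tcc14 (F := F) rfl
    obtain ⟨N18, e18, h18⟩ := tcc18 (F := F) rfl
    rw [← hF] at hO
    rcases Nat.lt_or_ge 2 (Fintype.card F) with hq3 | hq3
    · have hfq := f_le hq3 h2f
      have cs : ((Fintype.card F - 1 : ℕ) : ℤ) = Fintype.card F - 1 := by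
        push_cast [Nat.cast_sub (show 1 ≤ Fintype.card F by (clear * - hq3; omega))]; rfl
      have hg1 : Nat.gcd 2 (Fintype.card F - 1) ∣ Fintype.card F - 1 := Nat.gcd_dvd_right _ _
      have hg0 : Nat.gcd 2 (Fintype.card F - 1) ∣ 2 := Nat.gcd_dvd_left _ _
      have hg2 : Nat.gcd 2 (Fintype.card F - 1) ∣ Fintype.card F + 1 := by
        have h4 := (Nat.dvd_add_right hg1).2 hg0
        rwa [show Fintype.card F - 1 + 2 = Fintype.card F + 1 by (clear * - cs; omega)] at h4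
      have hb : ∃ b : ℕ, Fintype.card F = b + 3 ∧ f ≤ b + 1 :=
        ⟨Fintype.card F - 3, by (clear * - hq3; omega), by (clear * - hfq; omega)⟩
      obtain ⟨b, hb, hfb⟩ := hb
      have hfb' : (f : ℤ) ≤ b + 1 := by exact_mod_cast hfb
      have hb0 : (0 : ℤ) ≤ b := Int.natCast_nonneg b
      rcases h with h | h | h | h | h
      · refine torus hO hg1 hg0 ?_ hv hvF (h15 h (by omega)) (h7 v (hprim (by norm_num) h))
        refine cast_lt (z := ((b : ℤ) + 3 - 1) * (1 + ((b : ℤ) + 3) + ((b : ℤ) + 3) ^ 2 + ((b : ℤ) + 3) ^ 3 +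
          ((b : ℤ) + 3) ^ 4 + ((b : ℤ) + 3) ^ 5 + ((b : ℤ) + 3) ^ 6)) ?_ ?_
        · rw [Nat.cast_mul, cs, e7, hb]; push_cast; ring
        · push_cast
          have : 0 < ((b : ℤ) + 3 - 1) * (1 + ((b : ℤ) + 3) + ((b : ℤ) + 3) ^ 2 + ((b : ℤ) + 3) ^ 3 +
            ((b : ℤ) + 3) ^ 4 + ((b : ℤ) + 3) ^ 5 + ((b : ℤ) + 3) ^ 6) - 1140 * (b + 1) := by
            ring_nf
            (clear * -; positivity)
          linarith only [hfb, this]
      · refine torus hO hg1 hg0 ?_ hv hvF (h15 h (by omega)) (h9 v (hprim (by norm_num) h))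
        refine cast_lt (z := ((b : ℤ) + 3 - 1) * (1 + ((b : ℤ) + 3) ^ 3 + ((b : ℤ) + 3) ^ 6)) ?_ ?_
        · rw [Nat.cast_mul, cs, e9, hb]; push_cast; ring
        · push_cast
          have : 0 < ((b : ℤ) + 3 - 1) * (1 + ((b : ℤ) + 3) ^ 3 + ((b : ℤ) + 3) ^ 6) - 1140 * (b + 1) := by
            ring_nf
            (clear * -; positivity)
          linarith only [hfb, this]
      · exact not_SCC_12 F hv h
      · refine torus hO hg2 hg0 ?_ hv hvF (h15 h (by omega)) (h14 v (hprim (by norm_num) h))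
        refine cast_lt (z := ((b : ℤ) + 3 + 1) * (1 - ((b : ℤ) + 3) + ((b : ℤ) + 3) ^ 2 - ((b : ℤ) + 3) ^ 3 +
          ((b : ℤ) + 3) ^ 4 - ((b : ℤ) + 3) ^ 5 + ((b : ℤ) + 3) ^ 6)) ?_ ?_
        · rw [Nat.cast_mul, e14, hb]; push_cast; ring
        · push_cast
          have : 0 < ((b : ℤ) + 3 + 1) * (1 - ((b : ℤ) + 3) + ((b : ℤ) + 3) ^ 2 - ((b : ℤ) + 3) ^ 3 +
            ((b : ℤ) + 3) ^ 4 - ((b : ℤ) + 3) ^ 5 + ((b : ℤ) + 3) ^ 6) - 1140 * (b + 1) := by
            ring_nf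
            (clear * -; positivity)
          linarith only [hfb, this]
      · refine torus hO hg2 hg0 ?_ hv hvF (h15 h (by omega)) (h18 v (hprim (by norm_num) h))
        refine cast_lt (z := ((b : ℤ) + 3 + 1) * (1 - ((b : ℤ) + 3) ^ 3 + ((b : ℤ) + 3) ^ 6)) ?_ ?_
        · rw [Nat.cast_mul, e18, hb]; push_cast; ring
        · push_cast
          have : 0 < ((b : ℤ) + 3 + 1) * (1 - ((b : ℤ) + 3) ^ 3 + ((b : ℤ) + 3) ^ 6) - 1140 * (b + 1) := by
            ring_nf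
            (clear * -; positivity)
          linarith only [hfb, this]
    · have hq : Fintype.card F = 2 := le_antisymm hq3 hq2
      have hf1 : f = 1 := by
        rw [hq] at h2f
        have : f < 2 := (Nat.pow_lt_pow_iff_right (by norm_num : 1 < 2)).1 (lt_of_le_of_lt h2f (by norm_num))
        omega
      have hc := Cfsg.Agent.S1064.result (F := F) rfl
      rw [hq] at hc
      rw [hf1, hq] at hO
      norm_num only [] at hO
      rcases h with h | h | h | h | h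
      · have h7' := hFc ▸ h
        have h7 := H378.CycTab.dvd7 hv h
        rw [H378.CycTab.pv7, hFc, hq] at h7
        norm_num at h7
        have h8 : v ∣ 127 := by exact_mod_cast h7
        obtain rfl := (Nat.prime_dvd_prime_iff_eq hv (by norm_num)).1 h8
        refine not_SCC_of_exact hv (exact_E7_7 hq (by norm_num) (N := 127) (by norm_num)) (e := 14) (o := 1)
          (by norm_num) (N := 2 ^ 63 * (2 ^ 2 - 1) * (2 ^ 6 - 1) * (2 ^ 8 - 1) * (2 ^ 10 - 1) * (2 ^ 12 - 1) *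
            ((2 ^ 14 - 1) / 127) * (2 ^ 18 - 1)) ?_ ?_ hO.le (by norm_num)
        · norm_num only [_root_.one_mul] at hc
          rw [hc]; norm_num
        · norm_num only []; decide
      · have h7 := H378.CycTab.dvd9 hv h
        rw [H378.CycTab.pv9, hFc, hq] at h7
        norm_num at h7
        have h8 : v ∣ 73 := by exact_mod_cast h7
        obtain rfl := (Nat.prime_dvd_prime_iff_eq hv (by norm_num)).1 h8
        refine not_SCC_of_exact hv (exact_E7_9 hq (by norm_num) (N := 73) (by norm_num)) (e := 18) (o := 1)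
          (by norm_num) (N := 2 ^ 63 * (2 ^ 2 - 1) * (2 ^ 6 - 1) * (2 ^ 8 - 1) * (2 ^ 10 - 1) * (2 ^ 12 - 1) *
            (2 ^ 14 - 1) * ((2 ^ 18 - 1) / 73)) ?_ ?_ hO.le (by norm_num)
        · norm_num at hc
          rw [hc]; norm_num
        · norm_num only []; decide
      · exact not_SCC_12 F hv h
      · have h1 := h14 v (hprim (by norm_num) h)
        have hN : N14 = 43 := by
          have : (N14 : ℤ) = 43 := by rw [e14, hq]; norm_num
          exact_mod_cast this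
        rw [hN, hq] at h1
        norm_num at h1
        have hd' : v ∣ 3 * 43 := by
          obtain ⟨-, -, -, h2, -⟩ := h1
          exact h2
        have h5 := h15 h (by omega)
        have hv43 : v = 43 := by
          rcases hv.dvd_mul.1 hd' with h2 | h2
          · have := (Nat.prime_dvd_prime_iff_eq hv Nat.prime_three).1 h2
            omega
          · exact (Nat.prime_dvd_prime_iff_eq hv (by norm_num)).1 h2
        exact not_SCC_of_tcc' h1 hv hO.le (by omega)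
      · have h1 := h18 v (hprim (by norm_num) h)
        have hN : N18 = 57 := by
          have : (N18 : ℤ) = 57 := by rw [e18, hq]; norm_num
          exact_mod_cast this
        rw [hN, hq] at h1
        norm_num at h1
        have hd' : v ∣ 9 * 19 := by
          obtain ⟨-, -, -, h2, -⟩ := h1
          exact h2
        have h5 := h15 h (by omega)
        have hv43 : v = 19 := by
          rcases hv.dvd_mul.1 hd' with h2 | h2
          · have := Nat.le_of_dvd (by norm_num) h2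
            omega
          · exact (Nat.prime_dvd_prime_iff_eq hv (by norm_num)).1 h2
        exact not_SCC_of_tcc' h1 hv hO.le (by omega)
  rcases adjp F hv hd hv2 hvp hvq with hb | hb
  · rcases adj_E7 F hv hd with h4 | h4 | h4
    · exact absurd h4 hv2
    · exact Or.inl ⟨h4, fun _ => hb.1, hb.2⟩
    · exact Or.inr (key h4)
  · exact Or.inr (key hb)

end Cfsg.Agent.H632.Der.E7
end
end

-- part: H104/DerU54
section
set_option linter.all false
open scoped Cfsg.Agent.FastGrp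

/-!
# S3502, the row `PSU 5 F 4` (task 3778)
-/

set_option autoImplicit false

namespace Cfsg.Agent.H104.U54

open Cfsg Cfsg.Geo Cfsg.Agent.OrdDiv Cfsg.Agent.H439.Der Cfsg.Agent.H372.DerU Cfsg.Agent.H372.FxU
open Cfsg.Agent.ClassicalGeometry.PSUAutBasic (pr pr_surjective pr_eq_one_iff)
open Cfsg.Agent.Phan (emb emb_injective)

variable {F : Type} [Field F] [Fintype F]

/-- an element of order `39` -/
theorem exists_ord (hF : Fintype.card F = 4 ^ 2) : ∃ z : PSU 5 F 4, orderOf z = 39 := by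
  obtain ⟨x, hx⟩ := exists_emb (F := F) (q := 4) (r := 13) (by norm_num) (m := 3) (by
    have h := S0278.result hF 3 (by norm_num)
    simp only [Finset.prod_range_succ, Finset.prod_range_zero] at h
    norm_num [Nat.even_iff] at h
    omega)
  obtain ⟨y, hy⟩ := exists_emb (F := F) (q := 4) (r := 3) (by norm_num) (m := 2) (by
    rw [card_two hF]
    norm_num)
  have hc : Commute (pr 5 F 4 (emb hF 0 (by norm_num : 0 + 3 ≤ 5) x)) (pr 5 F 4 (emb hF 3 (by norm_num : 3 + 2 ≤ 5) y)) := by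
    show _ * _ = _ * _
    rw [← map_mul, emb_comm, map_mul]
  refine ⟨_, (hc.orderOf_mul_eq_mul_orderOf_of_coprime ?_).trans ?_⟩
  · rw [orderOf_emb hF (by norm_num) _ (by norm_num), orderOf_emb hF (by norm_num) _ (by norm_num), hx, hy]
    norm_num
  · rw [orderOf_emb hF (by norm_num) _ (by norm_num), orderOf_emb hF (by norm_num) _ (by norm_num), hx, hy]

/-- the subgroups of order divisible by `13 · 17` -/
theorem big (tab : OrderTable.{0}) (hK : ∀ (X : Type) [Group X] [Finite X] [IsSimpleGroup X], Cfsg.IsKnownSimple' X)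
    (hF : Fintype.card F = 4 ^ 2) {M : Subgroup (PSU 5 F 4)} (hM : M ≠ ⊤) (h13 : 13 ∣ Nat.card M)
    (h17 : 17 ∣ Nat.card M) : ¬ 41 ∣ Nat.card M ∧ ∀ z ∈ M, orderOf z ≠ 39 := by
  have hfin : Finite (PSU 5 F 4) := Quotient.finite _
  rcases S5663.result (F := F) 5 4 hF (by norm_num) (by norm_num) (H251.GeoU.pre M) (H251.GeoU.pre_le M)
    (H251.GeoU.pre_proper M hM) with ⟨X, hX, hle⟩ | ⟨P, hP, -⟩
  · have hMX : Nat.card M ∣ Nat.card X := (H251.GeoU.card_dvd_pre M).trans (Subgroup.card_dvd_of_le hle)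
    obtain ⟨h1, W, h2, h3, h4⟩ := geo_point hF hX (h13.trans hMX) (h17.trans hMX)
    exact ⟨fun h => h1 (h.trans hMX), fun z hz => no_ord_point hF h2 h3 (hle.trans h4) hz⟩
  · exact res tab hK hF hM (H264.FKS.exists_res_psu hF (by norm_num) hP) h13 h17

/-- **The row.** -/
theorem rowS_psu54 (tab : OrderTable.{0})
    (hK : ∀ (X : Type) [Group X] [Finite X] [IsSimpleGroup X], Cfsg.IsKnownSimple' X)
    {F : Type} [Field F] [Fintype F] (hF : Fintype.card F = 4 ^ 2) : RowS (Cfsg.PSU 5 F 4) := by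
  have hfin : Finite (PSU 5 F 4) := Quotient.finite _
  refine RowS.of_three fun M hM => ?_
  have miss : ∀ v : ℕ, v.Prime → v ∣ Nat.card (PSU 5 F 4) → v ≠ 41 → ¬ v ∣ Nat.card M → Three (PSU 5 F 4) M := by
    intro v hv hd h41 hn
    have := Fact.mk hv
    obtain ⟨x, hx⟩ := exists_prime_orderOf_dvd_card' v hd
    exact Three.of_not_dvd hn (ntc_ne hF hv hd h41) ⟨x, by rw [hx]⟩
  by_cases h13 : 13 ∣ Nat.card M
  swap
  · exact miss 13 (by norm_num) (by rw [card_u54 hF]; unfold NN; norm_num) (by norm_num) h13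
  by_cases h17 : 17 ∣ Nat.card M
  swap
  · exact miss 17 (by norm_num) (by rw [card_u54 hF]; unfold NN; norm_num) (by norm_num) h17
  obtain ⟨h1, h2⟩ := big tab hK hF hM.1 h13 h17
  obtain ⟨z, hz⟩ := exists_ord hF
  exact Three.of_not_SC_order h1 (H219.RowPsu.nsc_psu hF (by norm_num) (by decide) 41 (by norm_num)
    (by rw [card_u54 hF]; unfold NN; norm_num)) hz h2 (by norm_num)

end Cfsg.Agent.H104.U54
end

-- part: H580/Der/EvenQ
section
prune_inst 0x464000640032202080000801040001c72da0005b000480000c8a00b420e80ac0209820920b89015121a282285403d000811100060420000000a000400011801800088800020000100220008000000000000000000000000000000000000000004000000000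
set_option linter.all false
open scoped Cfsg.Agent.FastGrp

/-!
# `Sp_4(q)`, `q` even: missing classes of a subgroup whose order divides `2 q² (q⁴ - 1)` (helper580, for S3502)
-/

set_option autoImplicit false

namespace Cfsg.Agent.H580.Der.EvenQ

open Matrix Subgroup Cfsg Cfsg.Agent.H931.PspDuo Cfsg.Agent.H262.El Cfsg.Agent.H876 Cfsg.Agent.H813.SaxSp Cfsg.Agent.H439.Der
open scoped MatrixGroups

section SL

variable {F : Type} [Field F] [Fintype F] [CharP F 2]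

/-- elements of order `n` of `SL_2(q)` for `n ∣ q ± 1`, `q` even. -/
theorem exists_sl {n : ℕ} (hn : Odd n) (hn3 : 3 ≤ n) (hd : n ∣ Fintype.card F - 1 ∨ n ∣ Fintype.card F + 1) :
    ∃ b : Matrix.SpecialLinearGroup (Fin 2) F, orderOf b = n := by
  let K := AlgebraicClosure F
  let i : F →+* K := algebraMap F K
  have hK : CharP K 2 := charP_of_injective_ringHom i.injective 2
  have h2 : (2 : K) = 0 := CharTwo.two_eq_zero
  have hnK : (n : K) ≠ 0 := by
    intro h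
    rw [CharP.cast_eq_zero_iff K 2 n] at h
    exact (Nat.not_even_iff_odd.2 hn) (even_iff_two_dvd.2 h)
  have : NeZero (n : K) := ⟨hnK⟩
  obtain ⟨β, hβ⟩ := HasEnoughRootsOfUnity.exists_primitiveRoot K n
  have hβ0 : β ≠ 0 := hβ.ne_zero (by omega)
  obtain ⟨f, -, hf⟩ := FiniteField.card F 2
  have hqq : β ^ Fintype.card F = β ∨ β ^ Fintype.card F = β⁻¹ := by
    have h1 : 1 ≤ Fintype.card F := Fintype.card_pos
    rcases hd with ⟨c, hc⟩ | ⟨c, hc⟩
    · left
      calc β ^ Fintype.card F = β ^ (Fintype.card F - 1) * β := by rw [← pow_succ, Nat.sub_add_cancel h1]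
        _ = β := by rw [hc, pow_mul, hβ.pow_eq_one, one_pow, one_mul]
    · right
      have h5 : β ^ (Fintype.card F + 1) = 1 := by rw [hc, pow_mul, hβ.pow_eq_one, one_pow]
      rw [pow_succ] at h5
      exact eq_inv_of_mul_eq_one_left h5
  have hsq : (β + β⁻¹) ^ Fintype.card F = β + β⁻¹ := by
    rw [hf, add_pow_char_pow, inv_pow, ← hf]
    rcases hqq with h | h
    · rw [h]
    · rw [h, inv_inv, add_comm]
  obtain ⟨t, ht⟩ := Cfsg.Agent.H374.SpLow.mem_range_of_pow i hsq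
  obtain ⟨B, hB⟩ : ∃ B : Matrix (Fin 2) (Fin 2) F, B = !![0, 1; 1, t] := ⟨_, rfl⟩
  have hdet : B.det = 1 := by
    rw [hB, det_fin_two_of]
    have : (-1 : F) = 1 := by
      have h2' : (2 : F) = 0 := CharTwo.two_eq_zero
      linear_combination -h2'
    simp [this]
  have hne : β ≠ β⁻¹ := by
    intro h
    have h1 : β ^ 2 = 1 := by
      rw [sq]
      nth_rewrite 2 [h]
      exact mul_inv_cancel₀ hβ0
    have := Nat.le_of_dvd (by norm_num) (hβ.dvd_of_pow_eq_one _ h1)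
    omega
  -- eigenvectors
  have hev : ∀ γ : K, γ ≠ 0 → γ + γ⁻¹ = β + β⁻¹ → ∀ k : ℕ, (B.map i) ^ k *ᵥ ![1, γ] = γ ^ k • ![1, γ] := by
    intro γ hγ hγs k
    have h1 : (B.map i) *ᵥ ![1, γ] = γ • ![1, γ] := by
      have h3 : (1 : K) + (i t) * γ = γ * γ := by
        rw [ht, ← hγs, add_mul, inv_mul_cancel₀ hγ]
        linear_combination h2
      rw [hB]
      ext j
      fin_cases j
      · simp [Matrix.mulVec, dotProduct, Fin.sum_univ_two]
      · simp [Matrix.mulVec, dotProduct, Fin.sum_univ_two, h3]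
    induction k with
    | zero => simp
    | succ k ih => rw [pow_succ, ← mulVec_mulVec, h1, mulVec_smul, ih, smul_smul, pow_succ, mul_comm]
  have hBn : B ^ n = 1 := by
    have h1 : (B.map i) ^ n = 1 := by
      have e1 := hev β hβ0 rfl n
      have e2 := hev β⁻¹ (inv_ne_zero hβ0) (by rw [inv_inv, add_comm]) n
      rw [hβ.pow_eq_one, one_smul] at e1
      rw [inv_pow, hβ.pow_eq_one, inv_one, one_smul] at e2
      set C := (B.map i) ^ n with hC
      have a0 := congrFun e1 0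
      have a1 := congrFun e1 1
      have b0 := congrFun e2 0
      have b1 := congrFun e2 1
      simp only [Matrix.mulVec, dotProduct, Fin.sum_univ_two, _root_.Fin.isValue, _root_.Matrix.cons_val_zero, _root_.mul_one, _root_.Matrix.cons_val_one, _root_.Matrix.cons_val_fin_one, _root_.Nat.succ_eq_add_one, _root_.Nat.reduceAdd] at a0 a1 b0 b1
      have hd' : β - β⁻¹ ≠ 0 := sub_ne_zero.2 hne
      have c01 : C 0 1 = 0 := by
        have : C 0 1 * (β - β⁻¹) = 0 := by linear_combination a0 - b0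
        exact (mul_eq_zero.1 this).resolve_right hd'
      have c11 : C 1 1 = 1 := by
        have : (C 1 1 - 1) * (β - β⁻¹) = 0 := by linear_combination a1 - b1
        exact sub_eq_zero.1 ((mul_eq_zero.1 this).resolve_right hd')
      have c00 : C 0 0 = 1 := by rw [c01] at a0; linear_combination a0
      have c10 : C 1 0 = 0 := by rw [c11] at a1; linear_combination a1
      ext j k
      (revert j k; simp only [c00, c01, c10, c11, _root_.Fin.forall_fin_succ, Fin.isValue, _root_.Fin.succ_zero_eq_one, _root_.IsEmpty.forall_iff, _root_.and_true, _root_.Matrix.one_apply_eq, Nat.reduceAdd, _root_.ne_eq, _root_.zero_ne_one, _root_.not_false_eq_true, _root_.Matrix.one_apply_ne, _root_.and_self, _root_.Fin.succ_ne_zero])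
    have h3 : (B ^ n).map i = (1 : Matrix (Fin 2) (Fin 2) F).map i := by
      rw [← RingHom.mapMatrix_apply, map_pow, RingHom.mapMatrix_apply, h1, Matrix.map_one _ (map_zero _) (map_one _)]
    exact Matrix.map_injective i.injective h3
  obtain ⟨b, hb⟩ : ∃ b : Matrix.SpecialLinearGroup (Fin 2) F, (b : Matrix (Fin 2) (Fin 2) F) = B := ⟨⟨B, hdet⟩, rfl⟩
  refine ⟨b, ?_⟩
  have hp : ∀ k : ℕ, ((b ^ k : Matrix.SpecialLinearGroup (Fin 2) F) : Matrix (Fin 2) (Fin 2) F) = B ^ k := fun k => by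
    rw [← hb]
    exact Matrix.SpecialLinearGroup.coe_pow _ k
  apply Nat.dvd_antisymm
  · apply orderOf_dvd_of_pow_eq_one
    apply Subtype.ext
    rw [hp, hBn]
    rfl
  · apply hβ.dvd_of_pow_eq_one
    set k := orderOf b with hk
    have h1 : B ^ k = 1 := by
      rw [← hp, hk, pow_orderOf_eq_one]
      rfl
    have h3 := hev β hβ0 rfl k
    rw [← RingHom.mapMatrix_apply, ← map_pow, h1, map_one, one_mulVec] at h3
    have h4 := congrFun h3 0
    simpa only [_root_.Nat.succ_eq_add_one, _root_.Nat.reduceAdd, _root_.Fin.isValue, _root_.Pi.smul_apply, _root_.Matrix.cons_val_zero, _root_.smul_eq_mul, _root_.mul_one] using h4.symm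

end SL

/-- **Regular elements.** `w ∈ M` has order `2 r ^ a`, `g` has order `r ^ a` and commutes with no involution, `r ^ (a + 1)`
does not divide the order of `M`. -/
theorem not_mem_of' {T : Type*} [Group T] [Finite T] {M : Subgroup T} {r a : ℕ} (hr : r.Prime)
    (hr2 : r ≠ 2) {g w : T} (hg : orderOf g = r ^ a) (hgc : ∀ y : T, y ^ 2 = 1 → y * g = g * y → y = 1)
    (hwM : w ∈ M) (hw : orderOf w = 2 * r ^ a) (hM : ¬ r ^ (a + 1) ∣ Nat.card M) : g ∉ M := by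
  intro hgM
  have hrf : Fact r.Prime := ⟨hr⟩
  have hra : 0 < r ^ a := Nat.pow_pos hr.pos
  -- `w ^ 2` has order `r ^ a`
  have hy : orderOf (w ^ 2) = r ^ a := by
    rw [orderOf_pow_of_dvd two_ne_zero ⟨_, hw⟩, hw, Nat.mul_div_cancel_left _ two_pos]
  have hi : orderOf (w ^ (r ^ a)) = 2 := by
    rw [orderOf_pow_of_dvd hra.ne' ⟨2, by rw [hw, mul_comm]⟩, hw, Nat.mul_div_cancel _ hra]
  -- two Sylow `r`-subgroups
  have hcard : ∀ x : M, orderOf x = r ^ a → ∃ P : Sylow r M, (P : Subgroup M) = zpowers x := by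
    intro x hx
    have hpg : IsPGroup r (zpowers x) := IsPGroup.of_card (n := a) (by rw [Nat.card_zpowers, hx])
    obtain ⟨P, hP⟩ := hpg.exists_le_sylow
    obtain ⟨k, hk⟩ := (P.2).exists_card_eq
    refine ⟨P, ?_⟩
    symm
    apply Subgroup.eq_of_le_of_card_ge hP
    rw [Nat.card_zpowers, hx]
    have hk' : Nat.card (P : Subgroup M) = r ^ k := hk
    rw [hk']
    apply Nat.pow_le_pow_right hr.pos
    by_contra hc
    push Not at hc
    apply hM
    have h1 : r ^ k ∣ Nat.card M := hk' ▸ Subgroup.card_subgroup_dvd_card (P : Subgroup M)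
    exact (pow_dvd_pow r hc).trans h1
  obtain ⟨P, hP⟩ := hcard ⟨g, hgM⟩ (by rw [Subgroup.orderOf_mk, hg])
  obtain ⟨Q, hQ⟩ := hcard (⟨w, hwM⟩ ^ 2) (by
    rw [← hy, ← Subgroup.orderOf_coe]
    rfl)
  obtain ⟨m, hm⟩ := MulAction.exists_smul_eq M Q P
  -- the conjugate involution commutes with `g`
  have h1 : (⟨g, hgM⟩ : M) ∈ (m • Q : Sylow r M) := by
    rw [hm]
    show (⟨g, hgM⟩ : M) ∈ (P : Subgroup M)
    rw [hP]
    exact mem_zpowers _
  have h2 : m⁻¹ * (⟨g, hgM⟩ : M) * m ∈ (Q : Subgroup M) := by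
    have h3 : (⟨g, hgM⟩ : M) ∈ (Q : Subgroup M).map (MulAut.conj m).toMonoidHom := h1
    obtain ⟨u, hu, hug⟩ := h3
    have h4 : m * u * m⁻¹ = ⟨g, hgM⟩ := hug
    rw [← h4]
    have : m⁻¹ * (m * u * m⁻¹) * m = u := by group
    rw [this]
    exact hu
  rw [hQ] at h2
  obtain ⟨k, hk⟩ := h2
  have hk' : ((w ^ 2) ^ k : T) = (m : T)⁻¹ * g * m := congrArg Subtype.val hk
  have hcomm : Commute (w ^ (r ^ a)) ((m : T)⁻¹ * g * m) := by
    rw [← hk']
    exact ((Commute.refl w).pow_pow _ _).zpow_right k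
  have h5 := hgc ((m : T) * w ^ (r ^ a) * (m : T)⁻¹) (by
    rw [conj_pow, ← hi, pow_orderOf_eq_one, mul_one, mul_inv_cancel]) (by
    have h6 : g = (m : T) * ((m : T)⁻¹ * g * m) * (m : T)⁻¹ := by group
    calc (m : T) * w ^ (r ^ a) * (m : T)⁻¹ * g = (m : T) * (w ^ (r ^ a) * ((m : T)⁻¹ * g * m)) * (m : T)⁻¹ := by group
      _ = (m : T) * (((m : T)⁻¹ * g * m) * w ^ (r ^ a)) * (m : T)⁻¹ := by rw [hcomm.eq]
      _ = g * ((m : T) * w ^ (r ^ a) * (m : T)⁻¹) := by group)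
  have h7 : w ^ (r ^ a) = 1 := by
    have h8 : (m : T) * w ^ (r ^ a) = m := by rwa [mul_inv_eq_one] at h5
    exact mul_eq_left.1 h8
  rw [h7, orderOf_one] at hi
  omega

section Sp

variable {F : Type} [Field F] [Fintype F] [CharP F 2]

/-- a missing element of order `n` or `2 n`. -/
def P (M : Subgroup (Matrix.symplecticGroup (Fin 2) F)) (n : ℕ) : Prop :=
  ∃ z : Matrix.symplecticGroup (Fin 2) F, (orderOf z = n ∨ orderOf z = 2 * n) ∧
    ∀ φ : Matrix.symplecticGroup (Fin 2) F ≃* Matrix.symplecticGroup (Fin 2) F, φ z ∉ M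

theorem order_mk {b : Matrix.SpecialLinearGroup (Fin 2) F} : orderOf (_root_.Cfsg.Agent.H931.PspDuo.mk b (b ^ 2)) = orderOf b := by
  have h1 : orderOf (mkHom F (b, b ^ 2)) = orderOf b := by
    rw [orderOf_injective _ mkHom_injective, Prod.orderOf_mk]
    exact Nat.lcm_eq_left (orderOf_pow_dvd 2)
  exact h1

theorem mk_pow (a b : Matrix.SpecialLinearGroup (Fin 2) F) (k : ℕ) : (_root_.Cfsg.Agent.H931.PspDuo.mk a b) ^ k = _root_.Cfsg.Agent.H931.PspDuo.mk (a ^ k) (b ^ k) := by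
  have h1 : (mkHom F (a, b)) ^ k = mkHom F (a ^ k, b ^ k) := by rw [← map_pow]; rfl
  exact h1

/-- **a missing class.** -/
theorem P_of {M : Subgroup (Matrix.symplecticGroup (Fin 2) F)} {r a c : ℕ} (hr : r.Prime) (hr2 : r ≠ 2)
    (h5 : 5 ≤ r ^ a) (hM : ¬ r ^ (a + 1) ∣ Nat.card M) (hc : Odd c)
    (hd : c * r ^ a ∣ Fintype.card F - 1 ∨ c * r ^ a ∣ Fintype.card F + 1) : P M (c * r ^ a) := by
  have hc0 : c ≠ 0 := by rintro rfl; exact absurd hc (by decide)
  have hodd : Odd (r ^ a) := (hr.odd_of_ne_two hr2).pow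
  have h3 : 3 ≤ c * r ^ a := by
    have : 1 * r ^ a ≤ c * r ^ a := Nat.mul_le_mul_right _ (Nat.one_le_iff_ne_zero.2 hc0)
    omega
  obtain ⟨b, hb⟩ := exists_sl (F := F) (hc.mul hodd) h3 hd
  have hbc : orderOf (b ^ c) = r ^ a := by
    rw [orderOf_pow_of_dvd hc0 ⟨r ^ a, hb⟩, hb, Nat.mul_div_cancel_left _ (Nat.pos_of_ne_zero hc0)]
  by_cases hw : ∃ w ∈ M, orderOf w = 2 * r ^ a
  · obtain ⟨w, hwM, hw⟩ := hw
    refine ⟨_root_.Cfsg.Agent.H931.PspDuo.mk b (b ^ 2), Or.inl (by rw [order_mk, hb]), fun φ hφ => ?_⟩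
    have h6 : φ (_root_.Cfsg.Agent.H931.PspDuo.mk (b ^ c) ((b ^ c) ^ 2)) ∈ M := by
      have h7 : _root_.Cfsg.Agent.H931.PspDuo.mk (b ^ c) ((b ^ c) ^ 2) = (_root_.Cfsg.Agent.H931.PspDuo.mk b (b ^ 2)) ^ c := by
        rw [mk_pow, ← pow_mul, ← pow_mul, mul_comm c 2]
      rw [h7, map_pow]
      exact M.pow_mem hφ c
    refine not_mem_of' hr hr2 (g := φ (_root_.Cfsg.Agent.H931.PspDuo.mk (b ^ c) ((b ^ c) ^ 2))) (w := w) ?_ (fun y hy hyg => ?_) hwM hw hM h6
    · rw [MulEquiv.orderOf_eq, order_mk, hbc]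
    · apply φ.symm.injective
      rw [map_one]
      refine cent_mk hbc h5 (y := φ.symm y) ?_ ?_
      · rw [← map_pow, hy, map_one]
      · apply φ.injective
        rw [map_mul, map_mul, φ.apply_symm_apply, hyg]
  · have hev : 2 ∣ Nat.card (Matrix.SpecialLinearGroup (Fin 2) F) := by
      rw [Cfsg.Agent.ClassicalGeometry.PSL2Basic.card_SL2]
      obtain ⟨f, -, hf⟩ := FiniteField.card F 2
      exact Dvd.dvd.mul_right (by rw [hf]; exact dvd_pow_self 2 f.2.ne') _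
    have : Fact (Nat.Prime 2) := ⟨Nat.prime_two⟩
    obtain ⟨t, ht⟩ := exists_prime_orderOf_dvd_card' (G := Matrix.SpecialLinearGroup (Fin 2) F) 2 hev
    have hord : orderOf (_root_.Cfsg.Agent.H931.PspDuo.mk b t) = 2 * (c * r ^ a) := by
      have h1 : orderOf (mkHom F (b, t)) = 2 * (c * r ^ a) := by
        rw [orderOf_injective _ mkHom_injective, Prod.orderOf_mk, hb, ht, mul_comm 2]
        exact Nat.Coprime.lcm_eq_mul (hc.mul hodd).coprime_two_right
      exact h1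
    refine ⟨_root_.Cfsg.Agent.H931.PspDuo.mk b t, Or.inr hord, fun φ hφ => hw ⟨φ (_root_.Cfsg.Agent.H931.PspDuo.mk b t) ^ c, M.pow_mem hφ c, ?_⟩⟩
    rw [orderOf_pow_of_dvd hc0 ⟨2 * r ^ a, by rw [MulEquiv.orderOf_eq, hord]; ring⟩, MulEquiv.orderOf_eq, hord,
      show 2 * (c * r ^ a) = c * (2 * r ^ a) by ring, Nat.mul_div_cancel_left _ (Nat.pos_of_ne_zero hc0)]

theorem ne_of_odd {G : Type*} [Group G] {x y : G} {a b : ℕ} (ha : Odd a) (hb : Odd b) (hab : a ≠ b)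
    (hx : orderOf x = a ∨ orderOf x = 2 * a) (hy : orderOf y = b ∨ orderOf y = 2 * b) (φ : G ≃* G) : φ x ≠ y := by
  rintro rfl
  rw [MulEquiv.orderOf_eq] at hy
  obtain ⟨i, hi⟩ := ha
  obtain ⟨j, hj⟩ := hb
  rcases hx with h1 | h1 <;> rcases hy with h2 | h2 <;> (clear * - hab hi hj h1 h2; omega)

theorem three_of_P {M : Subgroup (Matrix.symplecticGroup (Fin 2) F)} {a b c : ℕ} (ha : Odd a) (hb : Odd b) (hc : Odd c)
    (hab : a ≠ b) (hac : a ≠ c) (hbc : b ≠ c) (h1 : P M a) (h2 : P M b) (h3 : P M c) :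
    Three (Matrix.symplecticGroup (Fin 2) F) M := by
  obtain ⟨x, hx, hx'⟩ := h1
  obtain ⟨y, hy, hy'⟩ := h2
  obtain ⟨z, hz, hz'⟩ := h3
  exact ⟨x, y, z, hx', hy', hz', ne_of_odd ha hb hab hx hy, ne_of_odd ha hc hac hx hz, ne_of_odd hb hc hbc hy hz⟩

theorem two_of_P {M : Subgroup (Matrix.symplecticGroup (Fin 2) F)} {a b : ℕ} (ha : Odd a) (hb : Odd b)
    (hab : a ≠ b) (h1 : P M a) (h2 : P M b) : Two (Matrix.symplecticGroup (Fin 2) F) M := by
  obtain ⟨x, hx, hx'⟩ := h1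
  obtain ⟨y, hy, hy'⟩ := h2
  exact ⟨x, y, hx', hy', ne_of_odd ha hb hab hx hy⟩

end Sp

end Cfsg.Agent.H580.Der.EvenQ
end
end
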